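import Cfsg.Agent.Lib.Perm.Trans.UnitFive.Singer.Poly

/-!
# The order of an overgroup of the Singer normaliser

If `5 φ k` divides the order of the special unitary group, `k` is one modulo the order of the projective Singer group
and `φ - 1` divides `5 φ k`, then `q⁶` divides `5 φ k`.
-/

set_option autoImplicit false
set_option linter.all false
set_option maxRecDepth 100000

namespace CfsgLib.Perm.Trans.UnitFive.Singer

/-- the possible residues `c q ^ j` -/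
def resList : List (ℤ × ℕ) :=
  [(-5, 0), (5, 1), (5, 2), (5, 3), (5, 4), (1, 2), (1, 3), (1, 4), (-1, 0), (-1, 1)]

/-- the part of the order prime to the Singer group, with one factor `q` -/
def qU (q : ℕ) : ℕ := q * ((q - 1) * ((q + 1) ^ 4 * (q ^ 2 + 1 - q)))

/-- the size bound for the smaller factor -/
def lim (q : ℕ) : ℕ := q ^ 4 + 2 * q ^ 3

theorem qU_cast {q : ℕ} (hq : 1 ≤ q) :
    (qU q : ℤ) = (q : ℤ) * (((q : ℤ) - 1) * (((q : ℤ) + 1) ^ 4 * ((q : ℤ) ^ 2 - q + 1))) := by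
  have : q ≤ q ^ 2 + 1 := (Nat.le_self_pow two_ne_zero q).trans (Nat.le_succ _)
  rw [qU, Nat.cast_mul, Nat.cast_mul, Nat.cast_mul, Nat.cast_sub hq, Nat.cast_sub this]
  push_cast
  ring

/-- the check of one small field -/
def chkQ (q : ℕ) : Bool :=
  resList.all fun cj =>
    (List.range (lim q / np q + 1)).all fun u =>
      let X := ((cj.1 * (q : ℤ) ^ cj.2) % (np q : ℤ)).toNat + u * np q
      decide (lim q < X ∨ X = 0 ∨ (X : ℤ) = cj.1 * (q : ℤ) ^ cj.2) || qU q % X != 0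

theorem chk_one : (List.range' 5 500).all chkQ = true := by decide +kernel
theorem chk_two : (List.range' 505 500).all chkQ = true := by decide +kernel
theorem chk_three : (List.range' 1005 500).all chkQ = true := by decide +kernel
theorem chk_four : (List.range' 1505 500).all chkQ = true := by decide +kernel

theorem small_eq {q X : ℕ} (h5 : 5 ≤ q) (hlt : q < 2000) {c : ℤ} {j : ℕ} (hc : (c, j) ∈ resList) (hX : 0 < X)
    (hdvd : X ∣ qU q) (hle : X ≤ lim q) (hmod : (np q : ℤ) ∣ (X : ℤ) - c * (q : ℤ) ^ j) :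
    (X : ℤ) = c * (q : ℤ) ^ j := by
  have key : chkQ q = true := by
    have h : ∀ s, (List.range' s 500).all chkQ = true → s ≤ q → q < s + 500 → chkQ q = true := fun s h h1 h2 =>
      List.all_eq_true.1 h q (List.mem_range'_1.2 ⟨h1, h2⟩)
    rcases Nat.lt_or_ge q 505 with h1 | h1
    · exact h 5 chk_one h5 h1
    rcases Nat.lt_or_ge q 1005 with h2 | h2
    · exact h 505 chk_two h1 h2
    rcases Nat.lt_or_ge q 1505 with h3 | h3
    · exact h 1005 chk_three h2 h3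
    · exact h 1505 chk_four h3 (by omega)
  have hn := np_pos q
  simp only [chkQ, List.all_eq_true, List.mem_range, Bool.or_eq_true, decide_eq_true_eq, bne_iff_ne] at key
  have hr : ((c * (q : ℤ) ^ j) % (np q : ℤ)).toNat = X % np q := by
    rw [Int.emod_eq_emod_iff_emod_sub_eq_zero.2 (Int.emod_eq_zero_of_dvd (dvd_sub_comm.1 hmod)),
      ← Int.natCast_mod, Int.toNat_natCast]
  have h := key (c, j) hc (X / np q) (Nat.lt_succ_of_le (Nat.div_le_div_right hle))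
  rw [hr, Nat.mul_comm (X / np q) (np q), Nat.mod_add_div] at h
  rcases h with (h | h | h) | h
  · omega
  · omega
  · exact h
  · exact absurd (Nat.mod_eq_zero_of_dvd hdvd) h

/-- the polynomial of one case -/
def caseCo (d : ℕ) (c : ℤ) (j m : ℕ) : Co := Co.comb ((d : ℤ) * c) (Co.red j) m Co.phiC

/-- the check of one case -/
def okCase (d : ℕ) (c : ℤ) (j m : ℕ) : Bool :=
  decide (caseCo d c j m = Co.comb ((d : ℤ) * c) (Co.mon j) 0 Co.phiC) ||
    ((caseCo d c j m).primOk && (caseCo d c j m).prim.okA d 2000)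

theorem all_cases : ([1, 5] : List ℕ).all (fun d => resList.all fun cj =>
    (List.range (if d = 1 then 2 else 7)).all fun m => okCase d cj.1 cj.2 m) = true := by decide +kernel

theorem case_facts : ∀ cj ∈ resList, cj.2 ≤ 4 ∧ |cj.1| ≤ 5 := by decide

theorem large_eq {q X : ℕ} (hq : 2000 ≤ q) {c : ℤ} {j : ℕ} (hc : (c, j) ∈ resList) (hX : 0 < X)
    (hdvd : X ∣ qU q) (hle : X ≤ lim q) (hmod : (np q : ℤ) ∣ (X : ℤ) - c * (q : ℤ) ^ j) :
    (X : ℤ) = c * (q : ℤ) ^ j := by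
  obtain ⟨hj, hc5⟩ := case_facts _ hc
  simp only at hj hc5
  have hphi : Co.phiC.ev q = (np q : ℤ) * dd q := by rw [Co.ev_phiC, ← np_mul, Nat.cast_mul]
  obtain ⟨m, hm⟩ : Co.phiC.ev (q : ℤ) ∣ (dd q : ℤ) * X - (dd q : ℤ) * c * (Co.red j).ev q := by
    have h1 : Co.phiC.ev (q : ℤ) ∣ (dd q : ℤ) * ((X : ℤ) - c * (q : ℤ) ^ j) := by
      rw [hphi, mul_comm (np q : ℤ)]
      exact mul_dvd_mul_left _ hmod
    have h2 := dvd_add h1 (dvd_mul_of_dvd_right (Co.dvd_pow_sub_red hj q) ((dd q : ℤ) * c))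
    exact h2.trans (dvd_of_eq (by ring))
  have hqz : (2000 : ℤ) ≤ q := by exact_mod_cast hq
  have hXz : (X : ℤ) ≤ (q : ℤ) ^ 4 + 2 * (q : ℤ) ^ 3 := by exact_mod_cast hle
  have hX0 : (0 : ℤ) < X := by exact_mod_cast hX
  have hd0 : (0 : ℤ) < dd q := by exact_mod_cast dd_pos q
  have hd5 : (dd q : ℤ) ≤ 5 := by rcases dd_cases q with e | e <;> simp [e]
  have hq2 : (q : ℤ) ^ 2 ≤ (q : ℤ) ^ 3 := pow_le_pow_right₀ (by omega) (by norm_num)
  have hq1 : (q : ℤ) ≤ (q : ℤ) ^ 3 := le_self_pow₀ (by omega) (by norm_num)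
  have hN1 : (q : ℤ) ^ 4 - (q : ℤ) ^ 3 ≤ Co.phiC.ev q := by
    simp only [Co.ev, Co.phiC]
    nlinarith
  have hsmall : |(dd q : ℤ) * c * (Co.red j).ev q| ≤ 50 * (q : ℤ) ^ 3 := by
    have hr : |(Co.red j).ev (q : ℤ)| ≤ 2 * (q : ℤ) ^ 3 := by
      rw [abs_le]
      interval_cases j <;> simp only [Co.ev, Co.red] <;> constructor <;> nlinarith
    rw [abs_mul, abs_mul, abs_of_pos hd0]
    calc (dd q : ℤ) * |c| * |(Co.red j).ev (q : ℤ)| ≤ 5 * 5 * (2 * (q : ℤ) ^ 3) := by gcongr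
      _ = _ := by ring
  obtain ⟨hs1, hs2⟩ := abs_le.1 hsmall
  have hq34 : 2000 * (q : ℤ) ^ 3 ≤ (q : ℤ) ^ 4 := by rw [pow_succ' _ 3]; gcongr
  have hN0 : 0 < Co.phiC.ev (q : ℤ) := by nlinarith
  have hm0 : 0 ≤ m := by
    by_contra hlt
    have h1 : Co.phiC.ev (q : ℤ) * m ≤ Co.phiC.ev (q : ℤ) * -1 := mul_le_mul_of_nonneg_left (by omega) hN0.le
    have : 0 < (dd q : ℤ) * X := mul_pos hd0 hX0
    nlinarith
  have hm1 : m < if dd q = 1 then 2 else 7 := by
    by_contra hge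
    have hdX : (dd q : ℤ) * X ≤ dd q * ((q : ℤ) ^ 4 + 2 * (q : ℤ) ^ 3) := mul_le_mul_of_nonneg_left hXz hd0.le
    rcases dd_cases q with e | e <;> simp only [e, if_true, OfNat.ofNat_ne_one, if_false, not_lt] at hge <;>
      simp only [e] at hdX hm hs1 hs2 <;> push_cast at hdX hm hs1 hs2
    · have h1 : Co.phiC.ev (q : ℤ) * 2 ≤ Co.phiC.ev (q : ℤ) * m := mul_le_mul_of_nonneg_left hge hN0.le
      nlinarith
    · have h1 : Co.phiC.ev (q : ℤ) * 7 ≤ Co.phiC.ev (q : ℤ) * m := mul_le_mul_of_nonneg_left hge hN0.le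
      nlinarith
  lift m to ℕ using hm0
  have hK : (caseCo (dd q) c j m).ev (q : ℤ) = (dd q : ℤ) * X := by
    rw [caseCo, Co.ev_comb]
    linear_combination -hm
  have hok : okCase (dd q) c j m = true := by
    have h := all_cases
    simp only [List.all_eq_true, List.mem_range] at h
    refine h (dd q) (by rcases dd_cases q with e | e <;> simp [e]) (c, j) hc m ?_
    split_ifs at hm1 ⊢ <;> omega
  simp only [okCase, Bool.or_eq_true, Bool.and_eq_true, decide_eq_true_eq] at hok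
  rcases hok with hok | ⟨hp, hok⟩
  · rw [hok, Co.ev_comb, Co.ev_mon hj] at hK
    exact mul_left_cancel₀ hd0.ne' (by linear_combination -hK)
  · exfalso
    obtain ⟨he, hpos⟩ := Co.ev_prim hp q
    rw [hK] at he hpos
    refine Co.not_dvd_of_okA hok (dd_pos q) (by norm_num) (q := (q : ℤ)) (by exact_mod_cast hq)
      (hpos (mul_pos hd0 hX0)) ?_
    rw [← qU_cast (by omega)]
    refine (dvd_mul_left _ _).trans ((dvd_of_eq he.symm).trans ?_)
    exact mul_dvd_mul_left _ (Int.natCast_dvd_natCast.2 hdvd)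

theorem residue_eq {q X : ℕ} (h5 : 5 ≤ q) {c : ℤ} {j : ℕ} (hc : (c, j) ∈ resList) (hX : 0 < X)
    (hdvd : X ∣ qU q) (hle : X ≤ lim q) (hmod : (np q : ℤ) ∣ (X : ℤ) - c * (q : ℤ) ^ j) :
    (X : ℤ) = c * (q : ℤ) ^ j := by
  rcases Nat.lt_or_ge q 2000 with h | h
  · exact small_eq h5 h hc hX hdvd hle hmod
  · exact large_eq h hc hX hdvd hle hmod

theorem qU_le {q : ℕ} (h5 : 5 ≤ q) : qU q < (lim q + 1) ^ 2 := by
  have h : (qU q : ℤ) < ((lim q : ℤ) + 1) ^ 2 := by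
    rw [qU_cast (by omega), lim]
    push_cast
    obtain ⟨x, rfl⟩ : ∃ x, q = x + 5 := ⟨q - 5, by omega⟩
    push_cast
    have hx : (0 : ℤ) ≤ x := by positivity
    ring_nf
    nlinarith [hx, pow_nonneg hx 2, pow_nonneg hx 3, pow_nonneg hx 4, pow_nonneg hx 5, pow_nonneg hx 6, pow_nonneg hx 7]
  exact_mod_cast h

theorem overgroup_arith {p f q k : ℕ} (hp : p.Prime) (hq : q = p ^ f) (h5 : 5 ≤ q) (hk : k % np q = 1)
    (hdvd : 5 * phi q * k ∣ q ^ 10 * ((q ^ 2 - 1) * ((q ^ 3 + 1) * ((q ^ 4 - 1) * (q ^ 5 + 1)))))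
    (hW : phi q - 1 ∣ 5 * phi q * k) : q ^ 6 ∣ 5 * phi q * k := by
  have hf : 0 < f := Nat.pos_of_ne_zero fun e => by subst e; simp at hq; omega
  -- the quotient `w`
  obtain ⟨M, hM⟩ : ∃ M, M = q * ((q - 1) * (q ^ 2 + 1)) := ⟨_, rfl⟩
  have hMz : (M : ℤ) = (q : ℤ) * (((q : ℤ) - 1) * ((q : ℤ) ^ 2 + 1)) := by
    rw [hM, Nat.cast_mul, Nat.cast_mul, Nat.cast_sub (by omega)]
    push_cast
    ring
  have hphiM : phi q = M + 1 := by
    have h := Co.ev_phiC q
    simp only [Co.ev, Co.phiC] at h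
    have : (phi q : ℤ) = (M : ℤ) + 1 := by rw [hMz, ← h]; ring
    exact_mod_cast this
  have hM0 : 0 < M := by rw [hM]; exact Nat.mul_pos (by omega) (Nat.mul_pos (by omega) (by positivity))
  obtain ⟨w, hw⟩ : M ∣ 5 * k := by
    rw [hphiM, Nat.add_sub_cancel, ← hphiM, show 5 * phi q * k = phi q * (5 * k) by ring] at hW
    exact (Nat.Coprime.dvd_mul_left (by rw [hphiM]; exact Nat.coprime_self_add_right.2 (Nat.coprime_one_right M))).1 hW
  have hgoal : 5 * phi q * k = phi q * (M * w) := by rw [← hw]; ring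
  -- congruences
  have hn : (np q : ℤ) ∣ (w : ℤ) + 5 := by
    have h1 : (np q : ℤ) ∣ (phi q : ℤ) := Int.natCast_dvd_natCast.2 ⟨dd q, (np_mul q).symm⟩
    have h2 : (np q : ℤ) ∣ (k : ℤ) - 1 := by
      have h := Int.emod_add_mul_ediv (k : ℤ) (np q)
      rw [← Int.natCast_mod, hk] at h
      exact ⟨(k : ℤ) / np q, by push_cast at h; linarith⟩
    have h3 : (5 : ℤ) * k = M * w := by exact_mod_cast hw
    have h4 : (phi q : ℤ) = M + 1 := by exact_mod_cast hphiM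
    have h5' := dvd_sub (dvd_mul_of_dvd_left h1 (w : ℤ)) (dvd_mul_of_dvd_right h2 5)
    exact h5'.trans (dvd_of_eq (by rw [h4]; linear_combination -h3))
  have hq5 : (np q : ℤ) ∣ (q : ℤ) ^ 5 + 1 := by
    have h := congrArg (Nat.cast : ℕ → ℤ) (succ_mul_phi q)
    push_cast at h
    rw [← h]
    exact dvd_mul_of_dvd_right (Int.natCast_dvd_natCast.2 ⟨dd q, (np_mul q).symm⟩) _
  have hqU : (np q : ℤ) ∣ (qU q : ℤ) + 5 * (q : ℤ) ^ 2 := by
    refine (Int.natCast_dvd_natCast.2 ⟨dd q, (np_mul q).symm⟩ : (np q : ℤ) ∣ (phi q : ℤ)).trans ?_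
    rw [qU_cast (by omega), ← Co.ev_phiC]
    exact ⟨(q : ℤ) ^ 4 + 3 * (q : ℤ) ^ 3 + 2 * (q : ℤ) ^ 2 - q, by simp only [Co.ev, Co.phiC]; ring⟩
  -- the divisor
  obtain ⟨U, hU⟩ : ∃ U, U = (q - 1) * ((q + 1) ^ 4 * (q ^ 2 + 1 - q)) := ⟨_, rfl⟩
  have hU0 : qU q = q * U := by rw [qU, hU]
  have hwd : w ∣ q ^ 9 * U := by
    have h1 : (phi q * M : ℕ) * w ∣ (phi q * M) * (q ^ 9 * U) := by
      rw [mul_assoc, ← hgoal]
      refine hdvd.trans (dvd_of_eq ?_)
      have hone : 1 ≤ q ^ 2 ∧ 1 ≤ q ^ 4 := ⟨Nat.one_le_pow _ _ (by omega), Nat.one_le_pow _ _ (by omega)⟩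
      have hle2 : q ≤ q ^ 2 + 1 := (Nat.le_self_pow two_ne_zero q).trans (Nat.le_succ _)
      have hs := congrArg (Nat.cast : ℕ → ℤ) (succ_mul_phi q)
      push_cast at hs
      zify [hone.1, hone.2]
      rw [hMz, hU, Nat.cast_mul (q - 1), Nat.cast_mul ((q + 1) ^ 4), Nat.cast_sub hle2,
        Nat.cast_sub (by omega : 1 ≤ q), ← hs]
      push_cast
      ring
    exact (mul_dvd_mul_iff_left (Nat.mul_ne_zero (phi_pos q).ne' hM0.ne')).1 h1
  obtain ⟨a, u, ha, hu, hwau⟩ := exists_dvd_and_dvd_of_dvd_mul hwd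
  obtain ⟨t, ht9, rfl⟩ : ∃ t ≤ 9 * f, a = p ^ t := (Nat.dvd_prime_pow hp).1 (by rwa [hq, ← pow_mul, mul_comm f] at ha)
  rw [hgoal]
  rcases Nat.lt_or_ge t (5 * f) with ht | ht
  swap
  · refine dvd_mul_of_dvd_right ?_ _
    rw [pow_succ', hwau, hM]
    refine mul_dvd_mul (dvd_mul_right _ _) (dvd_mul_of_dvd_left ?_ _)
    rw [hq, ← pow_mul]
    exact pow_dvd_pow p (by rw [mul_comm]; exact ht)
  exfalso
  obtain ⟨i, hi⟩ : ∃ i, i = t / f := ⟨_, rfl⟩
  obtain ⟨r, hr⟩ : ∃ r, r = t % f := ⟨_, rfl⟩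
  have hrf : r < f := hr ▸ Nat.mod_lt _ hf
  have hi4 : i ≤ 4 := by
    have := (Nat.div_lt_iff_lt_mul hf).2 ht
    omega
  have hpt : p ^ t = q ^ i * p ^ r := by rw [hq, ← pow_mul, ← pow_add, hi, hr, Nat.div_add_mod]
  obtain ⟨v, hv⟩ := hu
  obtain ⟨e', he'⟩ : ∃ e', e' = p ^ (f - r) := ⟨_, rfl⟩
  have hee : p ^ r * e' = q := by rw [he', hq, ← pow_add]; congr 1; omega
  have hX12 : (p ^ r * u) * (e' * v) = qU q := by rw [hU0, hv, ← hee]; ring
  have hqU0 : 0 < qU q := by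
    have : q ≤ q ^ 2 := Nat.le_self_pow two_ne_zero q
    exact Nat.mul_pos (by omega) (Nat.mul_pos (by omega) (Nat.mul_pos (by positivity) (by omega)))
  have hcop : Nat.Coprime q U := by
    have h : Nat.Coprime q ((q - 1) * ((q + 1) ^ 4 * (q ^ 2 + 1 - q))) := by
      refine Nat.Coprime.mul_right ?_ (Nat.Coprime.mul_right (Nat.Coprime.pow_right 4 ?_) ?_)
      · rw [Nat.coprime_self_sub_right (by omega)]; exact Nat.coprime_one_right q
      · exact Nat.coprime_self_add_right.2 (Nat.coprime_one_right q)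
      · rw [show q ^ 2 + 1 - q = 1 + (q - 1) * q by
          obtain ⟨x, rfl⟩ : ∃ x, q = x + 1 := ⟨q - 1, by omega⟩
          rw [Nat.add_sub_cancel, show (x + 1) ^ 2 + 1 = 1 + x * (x + 1) + (x + 1) by ring, Nat.add_sub_cancel]]
        exact (Nat.coprime_add_mul_right_right q 1 (q - 1)).2 (Nat.coprime_one_right q)
    rwa [hU]
  have hcu : Nat.Coprime q u := hcop.coprime_dvd_right ⟨v, hv⟩
  have hcv : Nat.Coprime q v := hcop.coprime_dvd_right ⟨u, by rw [hv, mul_comm]⟩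
  have he : p ^ r < q := hq ▸ Nat.pow_lt_pow_right hp.one_lt hrf
  have he'q : e' ≤ q := by rw [he', hq]; exact Nat.pow_le_pow_right hp.pos (Nat.sub_le f r)
  -- the two residues
  obtain ⟨X, hX⟩ : ∃ X, X = p ^ r * u := ⟨_, rfl⟩
  obtain ⟨Y, hY⟩ : ∃ Y, Y = e' * v := ⟨_, rfl⟩
  rw [← hX, ← hY] at hX12
  have hwX : (w : ℤ) = (q : ℤ) ^ i * X := by
    rw [hwau, hpt, hX]; push_cast; ring
  have hnX : (np q : ℤ) ∣ (q : ℤ) ^ i * X + 5 := hwX ▸ hn
  have hnY : (np q : ℤ) ∣ (Y : ℤ) - (q : ℤ) ^ (i + 2) := by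
    have h1 := dvd_sub (dvd_mul_of_dvd_right hqU ((q : ℤ) ^ i)) (dvd_mul_of_dvd_left hnX (Y : ℤ))
    have h2 : (np q : ℤ) ∣ (-5 : ℤ) * ((Y : ℤ) - (q : ℤ) ^ (i + 2)) := by
      refine h1.trans (dvd_of_eq ?_)
      rw [← hX12]; push_cast; ring
    have h3 : IsCoprime (np q : ℤ) (-5 : ℤ) := by
      rw [IsCoprime.neg_right_iff]
      exact Int.isCoprime_iff_nat_coprime.2 (Nat.Coprime.coprime_dvd_right (by norm_num) (np_coprime q))
    exact h3.dvd_of_dvd_mul_left h2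
  have hX0 : 0 < X ∧ 0 < Y := by
    constructor <;> refine Nat.pos_of_ne_zero fun e => ?_ <;> simp [e] at hX12 <;> omega
  rcases Nat.lt_or_ge (lim q) X with hXb | hXs
  · -- the second factor is small
    have hYs : Y ≤ lim q := by
      by_contra hc
      have h1 := Nat.mul_le_mul (Nat.succ_le_of_lt hXb) (Nat.succ_le_of_lt (not_le.1 hc))
      have h2 := qU_le h5
      rw [← hX12, pow_two] at h2
      exact absurd (lt_of_le_of_lt h1 h2) (lt_irrefl _)
    have hYd : Y ∣ qU q := ⟨X, by rw [← hX12, mul_comm]⟩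
    have hnot : ∀ l, 2 ≤ l → Y ≠ q ^ l := by
      intro l hl e
      have h1 : q ^ 2 ∣ e' * v := hY ▸ e ▸ pow_dvd_pow q hl
      have h2 := Nat.le_of_dvd (by rw [he']; exact pow_pos hp.pos _) ((hcv.pow_left 2).dvd_of_dvd_mul_right h1)
      have : q < q ^ 2 := lt_self_pow₀ (by omega) (by norm_num)
      omega
    have hY0 : (0 : ℤ) < Y := by exact_mod_cast hX0.2
    rcases Nat.lt_or_ge i 3 with hi3 | hi3
    · have h := residue_eq h5 (c := 1) (j := i + 2) (by interval_cases i <;> simp [resList]) hX0.2 hYd hYs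
        (by rwa [one_mul])
      rw [one_mul] at h
      exact hnot (i + 2) (by omega) (by exact_mod_cast h)
    · obtain ⟨l, rfl⟩ : ∃ l, i = 3 + l := ⟨i - 3, by omega⟩
      have h1 : (np q : ℤ) ∣ (Y : ℤ) - (-1) * (q : ℤ) ^ l := by
        refine (dvd_add hnY (dvd_mul_of_dvd_left hq5 ((q : ℤ) ^ l))).trans (dvd_of_eq ?_)
        ring
      have h := residue_eq h5 (c := -1) (j := l) (by
        have hl : l ≤ 1 := by omega
        interval_cases l <;> simp [resList]) hX0.2 hYd hYs h1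
      have : (0 : ℤ) < (q : ℤ) ^ l := pow_pos (by omega) l
      linarith
  · have hXd : X ∣ qU q := ⟨Y, hX12.symm⟩
    rcases Nat.eq_zero_or_pos i with hi0 | hi0
    · subst hi0
      have h := residue_eq h5 (c := -5) (j := 0) (by simp [resList]) hX0.1 hXd hXs
        (by simpa [pow_zero, sub_neg_eq_add] using hnX)
      have : (0 : ℤ) < X := by exact_mod_cast hX0.1
      simp at h
    · have h1 : (np q : ℤ) ∣ (X : ℤ) - 5 * (q : ℤ) ^ (5 - i) := by
        have h := dvd_sub (dvd_mul_of_dvd_left hq5 (X : ℤ)) (dvd_mul_of_dvd_right hnX ((q : ℤ) ^ (5 - i)))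
        refine h.trans (dvd_of_eq ?_)
        rw [show (q : ℤ) ^ (5 - i) * ((q : ℤ) ^ i * X + 5) = ((q : ℤ) ^ (5 - i) * (q : ℤ) ^ i) * X + 5 * (q : ℤ) ^ (5 - i) by ring,
          ← pow_add, show 5 - i + i = 5 by omega]
        ring
      have h := residue_eq h5 (c := 5) (j := 5 - i) (by interval_cases i <;> simp [resList]) hX0.1 hXd hXs h1
      have h2 : X = 5 * q ^ (5 - i) := by exact_mod_cast h
      have h3 : q ∣ p ^ r * u := hX ▸ h2 ▸ dvd_mul_of_dvd_right (dvd_pow_self q (by omega)) 5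
      have h4 := Nat.le_of_dvd (pow_pos hp.pos r) (hcu.dvd_of_dvd_mul_right h3)
      omega

end CfsgLib.Perm.Trans.UnitFive.Singer
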