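import Cfsg.Agent.Lib.Char.ExceptionalConst
import Cfsg.Agent.Lib.Char.Integrality
import Cfsg.Agent.Lib.Char.ExtendChar

/-!
# A character equal to minus one on a cyclic self-centralising subgroup

If a group has a self-centralising abelian subgroup `A` with small index in its normaliser, lying in no proper
normal subgroup, and a character of degree `d n - 1` (`n = |A|`) which is `-1` on the nontrivial elements of `A` and
small outside the identity, then some irreducible character has degree `x n - b` with `1 ≤ b ≤ x ≤ d`.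
-/

set_option autoImplicit false
set_option linter.all false

namespace CfsgLib.Perm.Trans.UnitFive.Singer

open scoped ComplexConjugate
open Cfsg CfsgLib.Char

universe u

variable {G : Type u} [Group G] [Fintype G] (A : Subgroup G)

section

variable (hA : ∀ x ∈ A, x ≠ 1 → Subgroup.centralizer ({x} : Set G) = A)
  (hab : ∀ a ∈ A, ∀ b ∈ A, a * b = b * a)

include hA hab

/-- the sums over `A` of the exceptional characters of the normaliser -/
theorem exc_sums [Fintype A] [Nontrivial A] (χ ξ : Exc A) [Decidable (χ = ξ)] :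
    (∑ a : A, (χ.1 : ↥(Subgroup.normalizer (A : Set G)) → ℂ) (Subgroup.inclusion Subgroup.le_normalizer a) = 0) ∧
    ∑ a : A, (χ.1 : ↥(Subgroup.normalizer (A : Set G)) → ℂ) (Subgroup.inclusion Subgroup.le_normalizer a) *
        conj ((ξ.1 : ↥(Subgroup.normalizer (A : Set G)) → ℂ) (Subgroup.inclusion Subgroup.le_normalizer a)) =
      if χ = ξ then (Nat.card ↥(Subgroup.normalizer (A : Set G)) : ℂ) else 0 := by
  classical
  haveI : Fintype ↥(Subgroup.normalizer (A : Set G)) := Fintype.ofFinite _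
  have hsum : ∀ F : ↥(Subgroup.normalizer (A : Set G)) → ℂ,
      (∀ x : ↥(Subgroup.normalizer (A : Set G)), (x : G) ∉ A → F x = 0) →
      ∑ a : A, F (Subgroup.inclusion Subgroup.le_normalizer a) = ∑ x, F x := by
    intro F hF
    refine Fintype.sum_of_injective _ (Subgroup.inclusion_injective _) _ _ (fun x hx => hF x fun hxA => hx ?_)
      fun a => rfl
    exact ⟨⟨(x : G), hxA⟩, Subtype.ext rfl⟩
  have hN : (Nat.card ↥(Subgroup.normalizer (A : Set G)) : ℂ) ≠ 0 := Nat.cast_ne_zero.2 Nat.card_pos.ne'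
  constructor
  · rw [hsum (fun x => (χ.1 : ↥(Subgroup.normalizer (A : Set G)) → ℂ) x) fun x hx => exc_vanish A hA hab χ x hx]
    let one : IrrCharacter ↥(Subgroup.normalizer (A : Set G)) := ⟨fun _ => 1, isIrrCharacter_one⟩
    have hne : χ.1 ≠ one := fun e => by
      obtain ⟨k, -, hk⟩ := χ.2
      exact hk (by rw [e])
    have h := classInner_irr_ne hne
    simp only [classInner, one, map_one, mul_one, mul_eq_zero, inv_eq_zero] at h
    exact h.resolve_left hN
  · rw [hsum (fun x => (χ.1 : ↥(Subgroup.normalizer (A : Set G)) → ℂ) x *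
      conj ((ξ.1 : ↥(Subgroup.normalizer (A : Set G)) → ℂ) x)) fun x hx => by rw [exc_vanish A hA hab χ x hx, zero_mul]]
    have h := classInner_irr χ.1 ξ.1
    simp only [classInner] at h
    by_cases he : χ = ξ
    · rw [if_pos (congrArg Subtype.val he)] at h
      rw [if_pos he]
      field_simp at h
      exact h
    · rw [if_neg fun e => he (Subtype.ext e)] at h
      rw [if_neg he]
      exact (mul_eq_zero.1 h).resolve_left (inv_ne_zero hN)

end

/-- no nontrivial linear characters in the numbers needed -/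
theorem linear_case (hA : ∀ x ∈ A, x ≠ 1 → Subgroup.centralizer ({x} : Set G) = A)
    (hab : ∀ a ∈ A, ∀ b ∈ A, a * b = b * a) (htop : ∀ M : Subgroup G, M.Normal → A ≤ M → M = ⊤)
    (hnn : ¬ A.Normal) {n : ℕ} (hn : Nat.card A = n) (h7 : ∀ r : ℕ, r.Prime → r ∣ n → 7 ≤ r)
    {J : Type*} [Fintype J] (θ : J → IrrCharacter G) (hθ : Function.Injective θ)
    (hlin : ∀ j, (θ j : G → ℂ) 1 = 1) (hJ : n ≤ 5 * Fintype.card J + 1)
    {χ : G → ℂ} (hχ : IsCharacter G χ) {m : ℕ} (hm : χ 1 = m) (hv : ∀ a ∈ A, a ≠ 1 → χ a = -1)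
    {B : ℝ} (hB0 : 0 ≤ B) (hbound : ∀ g : G, g ≠ 1 → ‖χ g‖ ≤ B) (hB : (m : ℝ) - B < ((n : ℝ) + 1) * ((n : ℝ) - 1 - B))
    (hBn : B < (n : ℝ) - 1) : False := by
  classical
  have hn0 : 0 < n := hn ▸ Nat.card_pos
  obtain ⟨Q, hQ⟩ : ∃ Q : Subgroup G, Q = commutator G := ⟨_, rfl⟩
  haveI : Q.Normal := hQ ▸ inferInstance
  have hcomm : ∀ a b : G, a * b * a⁻¹ * b⁻¹ ∈ Q := fun a b => by
    rw [hQ, commutator_def, ← commutatorElement_def]
    exact Subgroup.commutator_mem_commutator (Subgroup.mem_top a) (Subgroup.mem_top b)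
  choose f hf using fun j => exists_hom_of_linear (isCharacter_irr (θ j)) (hlin j)
  -- the abelianisation is an image of `A`
  have hsup : A ⊔ Q = ⊤ := by
    refine htop _ ⟨fun x hx g => ?_⟩ le_sup_left
    have h1 : g * x * g⁻¹ * x⁻¹ ∈ A ⊔ Q := Subgroup.mem_sup_right (hcomm g x)
    simpa using (A ⊔ Q).mul_mem h1 hx
  obtain ⟨ν, hν⟩ : ∃ ν : A →* G ⧸ Q, ν = (QuotientGroup.mk' Q).comp A.subtype := ⟨_, rfl⟩
  have hνs : Function.Surjective ν := by
    intro x
    induction x using QuotientGroup.induction_on with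
    | _ g =>
    have hg : g ∈ A ⊔ Q := hsup ▸ Subgroup.mem_top g
    rw [Subgroup.mem_sup_of_normal_right] at hg
    obtain ⟨a, ha, k, hk, rfl⟩ := hg
    refine ⟨⟨a, ha⟩, ?_⟩
    rw [hν]
    show (QuotientGroup.mk a : G ⧸ Q) = QuotientGroup.mk (a * k)
    rw [QuotientGroup.eq, inv_mul_cancel_left]
    exact hk
  letI : CommGroup (G ⧸ Q) :=
    { (inferInstance : Group (G ⧸ Q)) with
      mul_comm := fun x y => by
        obtain ⟨a, rfl⟩ := hνs x
        obtain ⟨b, rfl⟩ := hνs y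
        rw [← map_mul, ← map_mul]
        exact congrArg ν (Subtype.ext (hab _ a.2 _ b.2)) }
  have hJle : Fintype.card J ≤ Nat.card (G ⧸ Q) := by
    have hker : ∀ j, Q ≤ (f j).ker := fun j => hQ ▸ Abelianization.commutator_subset_ker (f j)
    rw [← Nat.card_eq_fintype_card]
    rw [← CommGroup.card_monoidHom_of_hasEnoughRootsOfUnity (G ⧸ Q) ℂ]
    refine Nat.card_le_card_of_injective (fun j => QuotientGroup.lift Q (f j) (hker j)) fun i j h => hθ (Subtype.ext ?_)
    rw [hf i, hf j]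
    funext g
    have := DFunLike.congr_fun h (QuotientGroup.mk g)
    simp only [QuotientGroup.lift_mk] at this
    rw [this]
  -- so `A` maps isomorphically
  have hkk : Nat.card ν.ker * Nat.card (G ⧸ Q) = n := by
    rw [← hn, Subgroup.card_eq_card_quotient_mul_card_subgroup ν.ker,
      Nat.card_congr (QuotientGroup.quotientKerEquivOfSurjective ν hνs).toEquiv, mul_comm]
  have hk1 : Nat.card ν.ker = 1 := by
    by_contra hne
    obtain ⟨r, hr, hrk⟩ := Nat.exists_prime_and_dvd hne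
    have h7' := h7 r hr (hrk.trans ⟨_, hkk.symm⟩)
    have h1 : 7 ≤ Nat.card ν.ker := h7'.trans (Nat.le_of_dvd Nat.card_pos hrk)
    have h2 : 7 * Fintype.card J ≤ n := hkk ▸ Nat.mul_le_mul h1 hJle
    have h3 : 7 ≤ n := hkk ▸ le_trans (by omega) (Nat.le_mul_of_pos_right _ (Nat.card_pos (α := G ⧸ Q)))
    have h4 : 7 * Nat.card (G ⧸ Q) ≤ n := hkk ▸ Nat.mul_le_mul_right _ h1
    omega
  have hdisj : ∀ a ∈ A, a ∈ Q → a = 1 := by
    intro a ha haQ
    have h1 : (⟨a, ha⟩ : A) ∈ ν.ker := by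
      rw [MonoidHom.mem_ker, hν]
      exact (QuotientGroup.eq_one_iff a).2 haQ
    have := Subgroup.card_eq_one.1 hk1
    rw [this, Subgroup.mem_bot] at h1
    exact congrArg Subtype.val h1
  have hQn : Nat.card (G ⧸ Q) = n := by rw [hk1, one_mul] at hkk; exact hkk
  have hcardG : Nat.card G = n * Nat.card Q := by
    rw [Subgroup.card_eq_card_quotient_mul_card_subgroup Q, hQn]
  have hcent : ∀ a ∈ A, a ≠ 1 → ∀ x ∈ Q, x * a = a * x → x = 1 := fun a ha ha1 x hx hxa => by
    refine hdisj x ?_ hx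
    rw [← hA a ha ha1, Subgroup.mem_centralizer_singleton_iff]
    exact hxa
  -- off `Q` the character is `-1`
  have hoff : ∀ g : G, g ∉ Q → χ g = -1 := by
    intro g hg
    obtain ⟨⟨a, ha⟩, hag⟩ := hνs (QuotientGroup.mk g)
    rw [hν] at hag
    change (QuotientGroup.mk a : G ⧸ Q) = QuotientGroup.mk g at hag
    have ha1 : a ≠ 1 := fun h => hg (by
      rw [h] at hag
      exact (QuotientGroup.eq_one_iff g).1 hag.symm)
    let φ : Q → Q := fun x => ⟨(x : G) * a * (x : G)⁻¹ * a⁻¹, hcomm _ a⟩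
    have hφ : Function.Injective φ := fun x y h => by
      have h1 : (x : G) * a * (x : G)⁻¹ = y * a * (y : G)⁻¹ := mul_right_cancel (congrArg Subtype.val h)
      have h2 : (y : G)⁻¹ * x = 1 := hcent a ha ha1 _ (Q.mul_mem (Q.inv_mem y.2) x.2) (by
        calc (y : G)⁻¹ * x * a = (y : G)⁻¹ * ((x : G) * a * (x : G)⁻¹) * x := by group
          _ = (y : G)⁻¹ * ((y : G) * a * (y : G)⁻¹) * x := by rw [h1]
          _ = a * ((y : G)⁻¹ * x) := by group)
      exact Subtype.ext (inv_mul_eq_one.1 h2).symm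
    have hmem : g * a⁻¹ ∈ Q := by
      have h1 : a⁻¹ * g ∈ Q := QuotientGroup.eq.1 hag
      have h2 := Subgroup.Normal.conj_mem inferInstance _ h1 a
      rwa [show a * (a⁻¹ * g) * a⁻¹ = g * a⁻¹ by group] at h2
    obtain ⟨x, hx⟩ := (Finite.injective_iff_surjective.1 hφ) ⟨_, hmem⟩
    have h1 : (x : G) * a * (x : G)⁻¹ = g := mul_right_cancel (congrArg Subtype.val hx)
    rw [← h1, isClassFunction_of_isCharacter hχ a (x : G), hv a ha ha1]
  -- the order of `Q`
  have hQ1 : n + 1 ≤ Nat.card Q := by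
    obtain ⟨x, hx, hx1⟩ : ∃ x ∈ Q, x ≠ 1 := by
      by_contra hcon
      push Not at hcon
      refine hnn ?_
      have hAtop : A = ⊤ := by
        rw [← hsup, eq_comm, sup_eq_left]
        exact fun y hy => hcon y hy ▸ A.one_mem
      rw [hAtop]
      infer_instance
    let ψ : Option A → Q := fun o => o.elim 1 fun a => ⟨(a : G) * x * (a : G)⁻¹, Subgroup.Normal.conj_mem inferInstance x hx a⟩
    have hψ : Function.Injective ψ := by
      rintro (_ | a) (_ | b) h
      · rfl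
      · exact absurd (congrArg Subtype.val h) (fun e => hx1 (conj_eq_one_iff.1 e.symm))
      · exact absurd (congrArg Subtype.val h) (fun e => hx1 (conj_eq_one_iff.1 e))
      · have h1 : (a : G) * x * (a : G)⁻¹ = b * x * (b : G)⁻¹ := congrArg Subtype.val h
        by_contra hne
        refine hx1 (hcent _ (A.mul_mem (A.inv_mem b.2) a.2) (fun e => hne ?_) x hx ?_)
        · rw [inv_mul_eq_one.1 e |> Subtype.ext]
        · calc x * ((b : G)⁻¹ * a) = (b : G)⁻¹ * ((b : G) * x * (b : G)⁻¹) * a := by group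
            _ = (b : G)⁻¹ * ((a : G) * x * (a : G)⁻¹) * a := by rw [h1]
            _ = (b : G)⁻¹ * a * x := by group
    have := Nat.card_le_card_of_injective ψ hψ
    rwa [Finite.card_option, hn] at this
  -- the sum over the group
  obtain ⟨k, hk⟩ := classInner_isCharacter hχ (isCharacter_of_isIrr isIrrCharacter_one)
  have hsum : ∑ g : G, χ g = (n : ℂ) * (Nat.card Q : ℂ) * k := by
    simp only [classInner, map_one, mul_one] at hk
    rw [inv_mul_eq_iff_eq_mul₀ (Nat.cast_ne_zero.2 Nat.card_pos.ne')] at hk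
    rw [hk, hcardG, Nat.cast_mul]
  obtain ⟨s, hs⟩ : ∃ s : ℝ, s = ∑ g ∈ Finset.univ.filter (fun g => g ∈ Q), ‖χ g‖ := ⟨_, rfl⟩
  have hQf : (Finset.univ.filter fun g : G => g ∈ Q).card = Nat.card Q := by
    rw [Nat.card_eq_fintype_card]
    exact (Fintype.card_of_subtype _ fun x => by simp).symm
  have hsle : s ≤ (m : ℝ) + ((Nat.card Q : ℝ) - 1) * B := by
    rw [hs, ← Finset.add_sum_erase _ _ (show (1 : G) ∈ Finset.univ.filter (fun g => g ∈ Q) by simp [Q.one_mem]), hm,
      Complex.norm_natCast]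
    refine add_le_add le_rfl ((Finset.sum_le_card_nsmul _ _ B fun g hg => hbound g (Finset.mem_erase.1 hg).1).trans
      (le_of_eq ?_))
    rw [Finset.card_erase_of_mem (by simp [Q.one_mem]), hQf, nsmul_eq_mul, Nat.cast_sub Nat.card_pos, Nat.cast_one]
  have hsge : (Nat.card Q : ℝ) * ((n : ℝ) - 1) ≤ s := by
    have h1 : ∑ g ∈ Finset.univ.filter (fun g => g ∈ Q), χ g =
        (((n : ℝ) * Nat.card Q * k + ((n : ℝ) - 1) * Nat.card Q : ℝ) : ℂ) := by
      have h2 := Finset.sum_filter_add_sum_filter_not (s := Finset.univ) (fun g => g ∈ Q) χ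
      rw [hsum, Finset.sum_congr rfl (g := fun _ => (-1 : ℂ)) fun g hg => hoff g (Finset.mem_filter.1 hg).2,
        Finset.sum_const, nsmul_eq_mul, Finset.filter_not, Finset.card_sdiff_of_subset (Finset.filter_subset _ _),
        Finset.card_univ, hQf, ← Nat.card_eq_fintype_card, hcardG,
        Nat.cast_sub (Nat.le_mul_of_pos_left _ hn0)] at h2
      push_cast at h2 ⊢
      linear_combination h2
    have h3 := norm_sum_le (Finset.univ.filter fun g => g ∈ Q) χ
    rw [h1, ← hs, Complex.norm_real, Real.norm_eq_abs] at h3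
    refine le_trans ?_ ((le_abs_self _).trans h3)
    have : (0 : ℝ) ≤ (n : ℝ) * Nat.card Q * k := by positivity
    linarith
  have hQ1' : (n : ℝ) + 1 ≤ Nat.card Q := by exact_mod_cast hQ1
  have h5 := mul_le_mul_of_nonneg_right hQ1' (show (0 : ℝ) ≤ (n : ℝ) - 1 - B by linarith)
  nlinarith [h5, hsle, hsge, hB]

set_option maxHeartbeats 800000 in
/-- some constituent has the degree `x n - b` -/
theorem exists_degree (hA : ∀ x ∈ A, x ≠ 1 → Subgroup.centralizer ({x} : Set G) = A)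
    (hab : ∀ a ∈ A, ∀ b ∈ A, a * b = b * a) (htop : ∀ M : Subgroup G, M.Normal → A ≤ M → M = ⊤)
    (hnn : ¬ A.Normal) {n d : ℕ} (hn : Nat.card A = n) (h7 : ∀ r : ℕ, r.Prime → r ∣ n → 7 ≤ r)
    (he : excIndex A ≤ 5) (hd : 1 ≤ d) (hbig : (5 * d + 2) ^ 2 ≤ n)
    (hdeg : ∀ (ψ : IrrCharacter G) (δ : ℕ), (ψ : G → ℂ) ≠ (fun _ => 1) → (ψ : G → ℂ) 1 = δ → δ = 1 ∨ n < (1 + δ) ^ 2)
    {χ : G → ℂ} (hχ : IsCharacter G χ) (hm : χ 1 = ((d * n - 1 : ℕ) : ℂ)) (hv : ∀ a ∈ A, a ≠ 1 → χ a = -1)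
    {B : ℝ} (hB0 : 0 ≤ B) (hbound : ∀ g : G, g ≠ 1 → ‖χ g‖ ≤ B)
    (hB : ((d * n - 1 : ℕ) : ℝ) - B < ((n : ℝ) + 1) * ((n : ℝ) - 1 - B)) (hBn : B < (n : ℝ) - 1) :
    ∃ δ x b : ℕ, δ ∣ Nat.card G ∧ δ + b = x * n ∧ 1 ≤ b ∧ b ≤ x ∧ x ≤ d := by
  classical
  haveI := Fintype.ofFinite A
  haveI := Fintype.ofFinite (IrrCharacter G)
  haveI := Fintype.ofFinite (Exc A)
  have hn49 : 49 ≤ n := le_trans (Nat.pow_le_pow_left (show 7 ≤ 5 * d + 2 by omega) 2) hbig
  haveI : Nontrivial A := Finite.one_lt_card_iff_nontrivial.1 (by omega)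
  haveI : Fintype ↥(Subgroup.normalizer (A : Set G)) := Fintype.ofFinite _
  have hrn : Fintype.card (Exc A) * excIndex A = n - 1 := by
    rw [← hn, ← card_exc A hA hab, Nat.card_eq_fintype_card]
  have hr5 : n ≤ 5 * Fintype.card (Exc A) + 1 := by
    have := Nat.mul_le_mul_left (Fintype.card (Exc A)) he
    omega
  haveI : Nontrivial (Exc A) := Fintype.one_lt_card_iff_nontrivial.1 (by omega)
  obtain ⟨D⟩ := nonempty_excData A hA hab
  choose dg hdg using fun ψ : IrrCharacter G => isCharacter_degree (isCharacter_irr ψ)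
  choose mu hmu using fun ψ : IrrCharacter G => classInner_isCharacter hχ (isCharacter_irr ψ)
  have hexp : ∀ g, χ g = ∑ ψ : IrrCharacter G, (mu ψ : ℂ) * (ψ : G → ℂ) g := fun g => by
    conv_lhs => rw [classFun_expand (isClassFunction_of_isCharacter hχ)]
    simp [hmu]
  have hdsum : d * n - 1 = ∑ ψ : IrrCharacter G, mu ψ * dg ψ := by
    have h := hexp 1
    simp only [hm, hdg] at h
    exact_mod_cast h
  let k : A → ↥(Subgroup.normalizer (A : Set G)) := fun a => Subgroup.inclusion Subgroup.le_normalizer a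
  have hk : ∀ a : A, a ≠ 1 → k a ≠ 1 := fun a ha h =>
    ha (Subgroup.inclusion_injective Subgroup.le_normalizer (h.trans (map_one _).symm))
  choose c hc using fun ψ : IrrCharacter G => exists_const_value A hA hab D ψ
  -- the value on `A`
  have hval : ∀ a : A, a ≠ 1 → (-1 : ℂ) = (∑ ψ : IrrCharacter G, (mu ψ : ℂ) * (c ψ : ℂ)) +
      (D.ε : ℂ) * ∑ χ' : Exc A, (mu (D.θ χ') : ℂ) * (χ'.1 : ↥(Subgroup.normalizer (A : Set G)) → ℂ) (k a) := by
    intro a ha
    rw [← hv a a.2 fun h => ha (Subtype.ext h), hexp]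
    have hsplit : ∀ ψ : IrrCharacter G, (ψ : G → ℂ) a = (c ψ : ℂ) +
        (D.ε : ℂ) * ∑ χ' : Exc A, if D.θ χ' = ψ then (χ'.1 : ↥(Subgroup.normalizer (A : Set G)) → ℂ) (k a) else 0 := by
      intro ψ
      obtain ⟨h1, h2⟩ := hc ψ (k a) a.2 (hk a ha)
      by_cases hex : ∃ χ', D.θ χ' = ψ
      · obtain ⟨χ', hχ'⟩ := hex
        rw [Finset.sum_eq_single χ' (fun η _ hη => if_neg fun e => hη (D.inj (e.trans hχ'.symm)))
          (fun h => absurd (Finset.mem_univ _) h), if_pos hχ', add_comm]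
        exact h1 χ' hχ'
      · push Not at hex
        rw [Finset.sum_eq_zero fun η _ => if_neg (hex η), mul_zero, add_zero]
        exact h2 hex
    simp only [hsplit, mul_add, Finset.sum_add_distrib, Finset.mul_sum]
    congr 1
    rw [Finset.sum_comm]
    refine Finset.sum_congr rfl fun χ' _ => ?_
    rw [Finset.sum_eq_single (D.θ χ') (fun ψ _ hψ => by rw [if_neg (Ne.symm hψ), mul_zero, mul_zero])
      (fun h => absurd (Finset.mem_univ _) h), if_pos rfl]
    ring
  obtain ⟨C, hC⟩ : ∃ C, C = ∑ ψ : IrrCharacter G, (mu ψ : ℂ) * (c ψ : ℂ) := ⟨_, rfl⟩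
  rw [← hC] at hval
  -- equal multiplicities
  have hmueq : ∀ χ₁ χ₂ : Exc A, mu (D.θ χ₁) = mu (D.θ χ₂) := by
    obtain ⟨S, hS⟩ : ∃ S, S = ∑ χ' : Exc A, (mu (D.θ χ') : ℂ) * (excIndex A : ℂ) := ⟨_, rfl⟩
    have key : ∀ ξ : Exc A, (D.ε : ℂ) * ((mu (D.θ ξ) : ℂ) * (Nat.card ↥(Subgroup.normalizer (A : Set G)) : ℂ)) =
        (1 + C + (D.ε : ℂ) * S) * (excIndex A : ℂ) := by
      intro ξ
      let g : A → ℂ := fun a => (1 + C + (D.ε : ℂ) *
        ∑ χ' : Exc A, (mu (D.θ χ') : ℂ) * (χ'.1 : ↥(Subgroup.normalizer (A : Set G)) → ℂ) (k a)) *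
        conj ((ξ.1 : ↥(Subgroup.normalizer (A : Set G)) → ℂ) (k a))
      have hg : ∑ a : A, g a = g 1 := Finset.sum_eq_single 1 (fun a _ ha => by
        simp only [g]
        rw [show (1 : ℂ) + C + (D.ε : ℂ) * _ = 0 by linear_combination -(hval a ha)]
        exact zero_mul _) fun h => absurd (Finset.mem_univ _) h
      have h1 : g 1 = (1 + C + (D.ε : ℂ) * S) * (excIndex A : ℂ) := by
        simp only [g, hS]
        rw [show k 1 = 1 from map_one _, exc_degree A hA hab, map_natCast]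
        congr 3
        exact Finset.sum_congr rfl fun χ' _ => by rw [exc_degree A hA hab]
      rw [← h1, ← hg]
      simp only [g, add_mul (1 + C), Finset.sum_add_distrib, ← Finset.mul_sum, mul_assoc (D.ε : ℂ), Finset.sum_mul]
      rw [Finset.sum_comm (γ := A), show ∑ a : A, conj ((ξ.1 : ↥(Subgroup.normalizer (A : Set G)) → ℂ) (k a)) = 0 by
        rw [← map_sum, (exc_sums A hA hab ξ ξ).1, map_zero], mul_zero, zero_add]
      simp only [mul_assoc, ← Finset.mul_sum]
      rw [Finset.sum_eq_single ξ (fun χ' _ hne => by rw [(exc_sums A hA hab χ' ξ).2, if_neg hne, mul_zero])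
        (fun h => absurd (Finset.mem_univ _) h), (exc_sums A hA hab ξ ξ).2, if_pos rfl]
    intro χ₁ χ₂
    have hε : (D.ε : ℂ) ≠ 0 := by rcases D.sign with h | h <;> simp [h]
    have h := mul_right_cancel₀ (Nat.cast_ne_zero.2 Nat.card_pos.ne')
      (mul_left_cancel₀ hε ((key χ₁).trans (key χ₂).symm))
    exact_mod_cast h
  have hdeq : ∀ χ₁ χ₂ : Exc A, dg (D.θ χ₁) = dg (D.θ χ₂) := fun χ₁ χ₂ => by
    have h := congrFun (D.ind χ₁ χ₂) 1
    rw [indFun_one, Pi.sub_apply, exc_degree A hA hab, exc_degree A hA hab, sub_self, mul_zero, Pi.smul_apply,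
      Pi.sub_apply, hdg, hdg, smul_eq_mul] at h
    rcases mul_eq_zero.1 h.symm with h | h
    · rcases D.sign with hs | hs <;> rw [hs] at h <;> simp at h
    · exact_mod_cast sub_eq_zero.1 h
  obtain ⟨χ₀⟩ : Nonempty (Exc A) := inferInstance
  by_cases hpos : 0 < mu (D.θ χ₀)
  · -- all exceptional characters occur, so they are linear
    exfalso
    have hle : Fintype.card (Exc A) * dg (D.θ χ₀) ≤ d * n - 1 := by
      rw [hdsum]
      calc Fintype.card (Exc A) * dg (D.θ χ₀) = ∑ χ' : Exc A, dg (D.θ χ') := by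
            rw [Finset.sum_congr rfl fun χ' _ => hdeq χ' χ₀, Finset.sum_const, Finset.card_univ, smul_eq_mul]
        _ ≤ ∑ χ' : Exc A, mu (D.θ χ') * dg (D.θ χ') := Finset.sum_le_sum fun χ' _ =>
            Nat.le_mul_of_pos_left _ (hmueq χ' χ₀ ▸ hpos)
        _ = ∑ ψ ∈ Finset.univ.image D.θ, mu ψ * dg ψ := (Finset.sum_image (f := fun ψ => mu ψ * dg ψ) fun x _ y _ h => D.inj h).symm
        _ ≤ _ := Finset.sum_le_sum_of_subset (Finset.subset_univ _)
    have hδ : dg (D.θ χ₀) = 1 := by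
      rcases hdeg (D.θ χ₀) _ (exc_not_one A hA hab D χ₀) (hdg _) with h | h
      · exact h
      exfalso
      have hlt : 5 * d + 2 < 1 + dg (D.θ χ₀) := lt_of_pow_lt_pow_left₀ 2 (Nat.zero_le _) (lt_of_le_of_lt hbig h)
      have h1 : (n - 1) * dg (D.θ χ₀) ≤ excIndex A * (d * n - 1) := by
        rw [← hrn, mul_comm (Fintype.card (Exc A)) (excIndex A), mul_assoc]
        exact Nat.mul_le_mul_left _ hle
      have h2 : (n - 1) * (5 * d + 2) ≤ (n - 1) * dg (D.θ χ₀) := Nat.mul_le_mul_left _ (by omega)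
      have h3 : excIndex A * (d * n - 1) ≤ 5 * (d * n - 1) := Nat.mul_le_mul_right _ he
      have h4 : (5 * d + 2) * 1 ≤ (5 * d + 2) ^ 2 := by rw [sq]; exact Nat.mul_le_mul_left _ (by omega)
      have h5 : (n - 1) * (5 * d + 2) + (5 * d + 2) = 5 * (d * n) + 2 * n := by
        rw [← Nat.succ_mul, show (n - 1).succ = n by omega]; ring
      omega
    exact linear_case A hA hab htop hnn hn h7 D.θ D.inj (fun j => by rw [hdg, hdeq j χ₀, hδ, Nat.cast_one]) hr5 hχ hm
      hv hB0 hbound hB hBn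
  -- only constituents constant off the identity
  have hzero : ∀ χ' : Exc A, mu (D.θ χ') = 0 := fun χ' => by rw [hmueq χ' χ₀]; omega
  obtain ⟨a₀, ha₀⟩ := exists_ne (1 : A)
  have hC1 : C = -1 := by
    have h := hval a₀ ha₀
    simp only [hzero, Nat.cast_zero, zero_mul, Finset.sum_const_zero, mul_zero, add_zero] at h
    exact h.symm
  have hC' : ∑ ψ : IrrCharacter G, (mu ψ : ℤ) * c ψ = -1 := by
    rw [hC] at hC1
    exact_mod_cast hC1
  obtain ⟨ψ, hψ⟩ : ∃ ψ, (mu ψ : ℤ) * c ψ < 0 := by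
    by_contra hcon
    push Not at hcon
    have := Finset.sum_nonneg (s := Finset.univ) fun ψ _ => hcon ψ
    omega
  have hmψ : 0 < mu ψ := by
    rcases Nat.eq_zero_or_pos (mu ψ) with h | h
    · rw [h, Nat.cast_zero, zero_mul] at hψ; exact absurd hψ (lt_irrefl _)
    · exact h
  have hcneg : c ψ < 0 := by
    by_contra hcon
    exact absurd hψ (not_lt.2 (mul_nonneg (by omega) (by omega)))
  have hnexc : ∀ χ' : Exc A, D.θ χ' ≠ ψ := fun χ' h => by
    have := hzero χ'
    rw [h] at this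
    omega
  -- the two multiplicities
  obtain ⟨lam, hlam⟩ : ∃ lam : A →* ℂˣ, lam ≠ 1 := by
    letI : CommGroup A := { (inferInstance : Group A) with mul_comm := fun a b => Subtype.ext (hab _ a.2 _ b.2) }
    obtain ⟨φ, hφ⟩ := CommGroup.exists_apply_ne_one_of_hasEnoughRootsOfUnity A ℂ ha₀
    exact ⟨φ, fun h => hφ (by rw [h]; rfl)⟩
  have hlam0 : ∑ a : A, conj (lam a : ℂ) = 0 := by
    have h := sum_hom_units ((Units.coeHom ℂ).comp lam)
    rw [if_neg fun h' => hlam (MonoidHom.ext fun a => Units.ext (DFunLike.congr_fun h' a))] at h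
    simp only [MonoidHom.coe_comp, Function.comp_apply, Units.coeHom_apply, Nat.cast_zero] at h
    rw [← map_sum, h, map_zero]
  have hψA : IsCharacter A (fun a : A => (ψ : G → ℂ) a) := isCharacter_comp (isCharacter_irr ψ) A.subtype
  obtain ⟨m0, hm0⟩ := classInner_isCharacter hψA (isCharacter_of_isIrr isIrrCharacter_one)
  obtain ⟨m1, hm1⟩ := classInner_isCharacter hψA (isCharacter_of_isIrr (isIrrCharacter_lin lam))
  have hψv : ∀ a : A, (ψ : G → ℂ) a = (c ψ : ℂ) + if a = 1 then (dg ψ : ℂ) - c ψ else 0 := fun a => by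
    by_cases ha : a = 1
    · rw [if_pos ha, ha, OneMemClass.coe_one, hdg]; ring
    · rw [if_neg ha, add_zero]
      exact (hc ψ (k a) a.2 (hk a ha)).2 hnexc
  have hn0 : (Nat.card A : ℂ) ≠ 0 := Nat.cast_ne_zero.2 Nat.card_pos.ne'
  have hk1 : (m1 : ℤ) * n = dg ψ - c ψ := by
    simp only [classInner] at hm1
    rw [Finset.sum_congr rfl fun a _ => by rw [hψv a, add_mul], Finset.sum_add_distrib, ← Finset.mul_sum, hlam0,
      mul_zero, zero_add] at hm1
    simp only [ite_mul, zero_mul, Finset.sum_ite_eq', Finset.mem_univ, if_true, map_one, Units.val_one, mul_one] at hm1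
    rw [inv_mul_eq_iff_eq_mul₀ hn0, hn] at hm1
    have h : ((m1 : ℤ) : ℂ) * (n : ℤ) = ((dg ψ : ℤ) : ℂ) - (c ψ : ℂ) := by push_cast; linear_combination -hm1
    exact_mod_cast h
  have hk0 : (m0 : ℤ) = m1 + c ψ := by
    simp only [classInner, map_one, mul_one] at hm0
    rw [Finset.sum_congr rfl fun a _ => hψv a, Finset.sum_add_distrib, Finset.sum_const, Finset.card_univ,
      Finset.sum_ite_eq', if_pos (Finset.mem_univ _), nsmul_eq_mul, ← Nat.card_eq_fintype_card,
      inv_mul_eq_iff_eq_mul₀ hn0, hn] at hm0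
    have h : (n : ℤ) * (m0 : ℤ) = n * (m1 + c ψ) := by
      have h' : ((n : ℤ) : ℂ) * (m0 : ℤ) = ((n : ℤ) : ℂ) * (c ψ : ℂ) + (((dg ψ : ℤ) : ℂ) - (c ψ : ℂ)) := by
        push_cast; linear_combination -hm0
      have h'' : (n : ℤ) * (m0 : ℤ) = n * c ψ + ((dg ψ : ℤ) - c ψ) := by exact_mod_cast h'
      rw [h'', ← hk1]; ring
    exact mul_left_cancel₀ (by omega) h
  have hxd : m1 ≤ d := by
    have h1 : mu ψ * dg ψ ≤ d * n - 1 := hdsum ▸ Finset.single_le_sum (f := fun ψ => mu ψ * dg ψ)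
      (fun _ _ => Nat.zero_le _) (Finset.mem_univ ψ)
    have h2 : dg ψ ≤ d * n - 1 := le_trans (Nat.le_mul_of_pos_left _ hmψ) h1
    by_contra hcon
    have h3 : ((d : ℤ) + 1) * n ≤ (m1 : ℤ) * n := mul_le_mul_of_nonneg_right (by omega) (by omega)
    have h4 : (dg ψ : ℤ) ≤ (d : ℤ) * n - 1 := by
      have h5 : 1 ≤ d * n := Nat.mul_pos hd (by omega)
      have : ((dg ψ : ℕ) : ℤ) ≤ ((d * n - 1 : ℕ) : ℤ) := by exact_mod_cast h2
      rw [Nat.cast_sub h5, Nat.cast_mul, Nat.cast_one] at this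
      exact this
    -- `-c ≤ m1` and `m1 * n = dg - c`
    nlinarith [h3, h4, hk0, hk1, hn49]
  refine ⟨dg ψ, m1, (-c ψ).toNat, degree_dvd_card ψ (hdg ψ), ?_, ?_, ?_, hxd⟩
  · have : ((dg ψ : ℤ) + ((-c ψ).toNat : ℤ)) = (m1 : ℤ) * n := by
      rw [Int.toNat_of_nonneg (by omega), hk1]; ring
    exact_mod_cast this
  · omega
  · omega

end CfsgLib.Perm.Trans.UnitFive.Singer
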