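import Cfsg.Agent.Lib.Perm.Trans.UnitFive.Singer.SecFacts
import Cfsg.Agent.Lib.Classical.HermOrder

/-!
# Three and four elements

The degree equation leaves no order for the minimal overgroup that is not divisible by the sixth power of the
number of elements of the ground field.
-/

set_option autoImplicit false
set_option linter.all false

namespace CfsgLib.Perm.Trans.UnitFive.Singer

open scoped Matrix
open Matrix Cfsg Cfsg.Geo CfsgLib.Perm.Asch CfsgLib.Perm.Trans CfsgLib.Char

universe u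

/-- the product of a list of prime powers -/
def facProd : List (ℕ × ℕ) → ℕ
  | [] => 1
  | (p, a) :: l => p ^ a * facProd l

/-- its divisors -/
def divList : List (ℕ × ℕ) → List ℕ
  | [] => [1]
  | (p, a) :: l => (List.range (a + 1)).flatMap fun i => (divList l).map fun x => p ^ i * x

theorem mem_divList : ∀ {l : List (ℕ × ℕ)}, (∀ x ∈ l, x.1.Prime) → ∀ {d : ℕ}, d ∣ facProd l → d ∈ divList l := by
  intro l
  induction l with
  | nil =>
    intro _ d hd
    rw [facProd, Nat.dvd_one] at hd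
    simp [divList, hd]
  | cons x l ih =>
    intro hl d hd
    obtain ⟨p, a⟩ := x
    obtain ⟨d1, d2, h1, h2, rfl⟩ := Nat.dvd_mul.1 (show d ∣ p ^ a * facProd l from hd)
    obtain ⟨i, hi, rfl⟩ := (Nat.dvd_prime_pow (hl _ List.mem_cons_self)).1 h1
    exact List.mem_flatMap.2 ⟨i, List.mem_range.2 (by omega), List.mem_map.2
      ⟨d2, ih (fun x hx => hl x (List.mem_cons_of_mem _ hx)) h2, rfl⟩⟩

/-- signed candidates for the degrees in a given class -/
def cls (P : ℕ) (r : ℤ) (D : List ℕ) : List ℤ :=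
  (D.flatMap fun d : ℕ => [(d : ℤ), -(d : ℤ)]).filter fun t => (t - r) % (P : ℤ) == 0

/-- no solution of the degree equation -/
def noSol (P : ℕ) (D : List ℕ) : Bool :=
  (cls P (-5) D).all fun te =>
    ((cls P 1 D).all fun t1 => (cls P 1 D).all fun t2 => (cls P 1 D).all fun t3 => (cls P 1 D).all fun t4 =>
      !(1 + te + (t1 + (t2 + (t3 + t4))) == 0)) &&
    (cls P 2 D).all fun t => !(1 + te + 2 * t == 0)

/-- the check for the index five -/
def okFive (P q6 : ℕ) (fac : List (ℕ × ℕ)) : Bool :=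
  (divList fac).all fun k => !(k % P == 1) || k == 1 || k % q6 == 0 ||
    noSol P ((divList fac).filter fun d => (5 * k) % d == 0 && decide (6 ≤ d) && decide (d ^ 2 ≤ 5 * P * k))

/-- the check for the index one -/
def okOne (P q6 : ℕ) (fac : List (ℕ × ℕ)) : Bool :=
  (divList fac).all fun k => !(k % P == 1) || k == 1 || k % q6 == 0 ||
    decide (2 ≤ (fac.filter fun x => k % x.1 == 0).length)

def facThree : List (ℕ × ℕ) := [(2, 11), (3, 10), (5, 1), (7, 1)]

def facFour : List (ℕ × ℕ) := [(2, 20), (3, 2), (5, 4), (13, 1), (17, 1)]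

theorem ok_three : okFive 61 (3 ^ 6) facThree = true ∧ okOne 61 (3 ^ 6) facThree = true := by
  decide +kernel

theorem ok_four : okFive 41 (4 ^ 6) facFour = true ∧ okOne 41 (4 ^ 6) facFour = true := by
  decide +kernel

variable {F : Type u} [Field F] [Fintype F] {q : ℕ}

theorem card_suG (hF : Fintype.card F = q ^ 2) :
    (q + 1) * Nat.card (suG F q) = q ^ 10 * ((q + 1) * ((q ^ 2 - 1) * ((q ^ 3 + 1) * ((q ^ 4 - 1) * (q ^ 5 + 1))))) := by
  obtain ⟨C⟩ := Unit.ctx_of_card hF
  have h : Nat.card (suG F q) = Nat.card (Cfsg.SU 5 F q) := by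
    refine Nat.card_congr (Equiv.ofBijective (fun g => ⟨⟨(g : GL (Fin 5) F).1, (mem_suG.1 g.2).2⟩,
      fun u v => (mem_suG.1 g.2).1 u v⟩) ⟨fun a b h => Subtype.ext (Units.ext
        (congrArg (fun z : ↥(Cfsg.SU 5 F q) => z.1.1) h)), fun A => ?_⟩)
    exact ⟨⟨Matrix.SpecialLinearGroup.toGL A.1, mem_suG.2 ⟨fun u v => A.2 u v, A.1.2⟩⟩, Subtype.ext (Subtype.ext rfl)⟩
  rw [h, CfsgLib.Classical.card_su_mul C hF (by norm_num), CfsgLib.Classical.card_gu_formula C hF 5]
  simp [Finset.prod_range_succ, mul_assoc, Nat.even_iff]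

variable {γ : GL (Fin 5) F} {M₁ : Subgroup (GL (Fin 5) F)} {L : Type u} [Group L] [Finite L] {π : M₁ →* L} {τ : L}

theorem Sec.sq_pow_dvd (S : Sec q γ M₁ π τ) {P q6 : ℕ} (hP : P.Prime) (hP7 : 41 ≤ P) (hnp : np q = P)
    {fac : List (ℕ × ℕ)} (hfac : ∀ x ∈ fac, x.1.Prime) (hfn : (fac.map Prod.fst).Nodup) (hdvd : Nat.card L ∣ P * facProd fac)
    (hcop : ¬ P ∣ facProd fac) (h5 : okFive P q6 fac = true) (h1 : okOne P q6 fac = true) : q6 ∣ Nat.card L := by
  classical
  haveI := Fintype.ofFinite L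
  haveI : Fact P.Prime := ⟨hP⟩
  obtain ⟨A, hA⟩ : ∃ A, A = Subgroup.zpowers τ := ⟨_, rfl⟩
  have hcA : Nat.card A = P := by rw [hA, S.card_A, hnp]
  haveI := Fintype.ofFinite A
  have hPA : IsPGroup P A := IsPGroup.of_card (n := 1) (by rw [hcA, pow_one])
  have hsq : ¬ P ^ 2 ∣ Nat.card L := fun h => by
    have h2 := h.trans hdvd
    rw [sq] at h2
    exact hcop (Nat.dvd_of_mul_dvd_mul_left hP.pos h2)
  obtain ⟨T, hTA⟩ := hPA.exists_le_sylow
  have hT : (T : Subgroup L) = A := by
    refine (Subgroup.eq_of_le_of_card_ge hTA ?_).symm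
    obtain ⟨n, hn⟩ := IsPGroup.iff_card.1 T.2
    rw [hcA, hn]
    rcases n with _ | _ | n
    · simp [hP.one_lt.le]
    · simp
    · exact absurd ((pow_dvd_pow P (show 2 ≤ n + 2 by omega)).trans (hn ▸ Subgroup.card_subgroup_dvd_card _)) hsq
  obtain ⟨k, hk⟩ : ∃ k, k = (Subgroup.normalizer (A : Set L)).index := ⟨_, rfl⟩
  have hk1 : k % P = 1 := by
    have h := card_sylow_modEq_one (p := P) (G := L)
    rw [T.card_eq_index_normalizer, show Subgroup.normalizer (T : Set L) = Subgroup.normalizer (A : Set L) by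
      rw [← hT]; rfl, ← hk] at h
    rw [h, Nat.mod_eq_of_lt hP.one_lt]
  have hne1 : k ≠ 1 := fun h => S.not_normal (by
    rw [← hA, ← Subgroup.normalizer_eq_top_iff]
    exact Subgroup.index_eq_one.1 (hk ▸ h))
  obtain ⟨e, he⟩ : ∃ e, e = excIndex A := ⟨_, rfl⟩
  have hL : Nat.card L = k * (e * P) := by
    rw [hk, he, ← hcA, ← Nat.card_congr (Subgroup.subgroupOfEquivOfLe (Subgroup.le_normalizer (H := A))).toEquiv,
      Subgroup.index_mul_card, Subgroup.index_mul_card]
  have hkd : e * k ∣ facProd fac := by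
    rw [hL, show k * (e * P) = P * (e * k) by ring] at hdvd
    exact Nat.dvd_of_mul_dvd_mul_left hP.pos hdvd
  have hkmem : k ∈ divList fac := mem_divList hfac ((dvd_mul_left k e).trans hkd)
  have hfin : k % q6 = 0 → q6 ∣ Nat.card L := fun h => hL ▸ (Nat.dvd_of_mod_eq_zero h).mul_right _
  have he5 : e ∣ 5 := by rw [he, hA]; exact S.relIndex
  rcases (Nat.dvd_prime (by norm_num)).1 he5 with he1 | he5'
  · -- the normaliser is the group
    simp only [okOne, List.all_eq_true, Bool.or_eq_true, Bool.not_eq_true', beq_eq_false_iff_ne, beq_iff_eq,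
      decide_eq_true_eq] at h1
    rcases h1 k hkmem with ((h | h) | h) | h
    · exact absurd hk1 h
    · exact absurd h hne1
    · exact hfin h
    exfalso
    have hNA : Subgroup.normalizer (A : Set L) = A := by
      refine le_antisymm ?_ Subgroup.le_normalizer
      rw [← Subgroup.relIndex_eq_one]
      exact he.symm.trans he1
    have hNC : Subgroup.normalizer ((T : Subgroup L) : Set L) ≤ Subgroup.centralizer ((T : Subgroup L) : Set L) := by
      rw [hT, hNA]
      intro x hx y hy
      exact S.comm y (hA ▸ hy) x (hA ▸ hx)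
    obtain ⟨Q, hQ⟩ : ∃ Q, Q = (MonoidHom.transferSylow T hNC).ker := ⟨_, rfl⟩
    have hcompl : Subgroup.IsComplement' Q (T : Subgroup L) := hQ ▸ MonoidHom.ker_transferSylow_isComplement' T hNC
    haveI : Q.Normal := hQ ▸ MonoidHom.normal_ker _
    have hQc : Nat.card Q = k := by
      have h := hcompl.card_mul
      rw [hT, hcA, hL, he1, one_mul] at h
      exact Nat.eq_of_mul_eq_mul_right hP.pos h
    have hone : ∀ r s : ℕ, r.Prime → s.Prime → r ∣ k → s ∣ k → s = r := by
      intro r s hr hs hrk hsk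
      haveI : Fact r.Prime := ⟨hr⟩
      obtain ⟨R⟩ : Nonempty (Sylow r Q) := inferInstance
      obtain ⟨R', hR'⟩ : ∃ R', R' = (R : Subgroup Q).map Q.subtype := ⟨_, rfl⟩
      have hfr : Subgroup.normalizer (R' : Set L) ⊔ Q = ⊤ := hR' ▸ Sylow.normalizer_sup_eq_top R
      have hPN : P ∣ Nat.card (Subgroup.normalizer (R' : Set L)) := by
        have h2 : Q.relIndex (Subgroup.normalizer (R' : Set L)) = Q.index := by
          rw [← Subgroup.relIndex_sup_right, hfr, Subgroup.relIndex_top_right]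
        have h3 : Q.index = P := by
          have h := Subgroup.card_mul_index Q
          rw [hQc, hL, he1, one_mul] at h
          exact Nat.eq_of_mul_eq_mul_left (by rw [← hQc]; exact Nat.card_pos) h
        have h4 := Subgroup.relIndex_dvd_card (H := Q) (K := Subgroup.normalizer (R' : Set L))
        rwa [h2, h3] at h4
      obtain ⟨x, hx⟩ := exists_prime_orderOf_dvd_card' (G := Subgroup.normalizer (R' : Set L)) P hPN
      have hxc : Nat.card (Subgroup.zpowers (x : L)) = P := by rw [Nat.card_zpowers, Subgroup.orderOf_coe, hx]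
      obtain ⟨U, hU⟩ := (IsPGroup.of_card (n := 1) (by rw [hxc, pow_one]) : IsPGroup P (Subgroup.zpowers (x : L))).exists_le_sylow
      obtain ⟨g, hg⟩ := MulAction.exists_smul_eq L U T
      obtain ⟨φ, hφ⟩ : ∃ φ : L →* L, φ = (MulAut.conj g).toMonoidHom := ⟨_, rfl⟩
      obtain ⟨R0, hR0⟩ : ∃ R0, R0 = R'.map φ := ⟨_, rfl⟩
      have hAle : A ≤ Subgroup.normalizer (R0 : Set L) := by
        intro a ha
        have hxA : φ (x : L) ∈ A := by
          rw [← hT, ← hg, hφ]
          exact Subgroup.mem_map_of_mem _ (hU (Subgroup.mem_zpowers _))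
        have hgen : Subgroup.zpowers (φ (x : L)) = A := by
          refine Subgroup.eq_of_le_of_card_ge (Subgroup.zpowers_le.2 hxA) (le_of_eq ?_)
          rw [hcA, Nat.card_zpowers, hφ, show (MulAut.conj g).toMonoidHom (x : L) = MulAut.conj g (x : L) from rfl,
            MulEquiv.orderOf_eq, Subgroup.orderOf_coe, hx]
        have hxN : φ (x : L) ∈ Subgroup.normalizer (R0 : Set L) := by
          rw [hR0, hφ]
          exact Subgroup.le_normalizer_map _ ⟨x, x.2, rfl⟩
        exact (Subgroup.zpowers_le.2 hxN) (hgen ▸ ha)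
      have hR0c : Nat.card R0 = Nat.card R := by
        rw [hR0, hR', Subgroup.map_map, Subgroup.card_map_of_injective]
        exact fun a b h => Subgroup.subtype_injective Q ((MulAut.conj g).injective (hφ ▸ h :))
      have hR0ne : ¬ R0 ≤ A := fun hle => by
        have h5 : Nat.card R0 ∣ P := hcA ▸ Subgroup.card_dvd_of_le hle
        rw [hR0c] at h5
        have h6 : r ∣ Nat.card R := R.dvd_card_of_dvd_card (hQc ▸ hrk)
        have h7 : r = P := (Nat.prime_dvd_prime_iff_eq hr hP).1 (h6.trans h5)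
        exact hcop ((h7 ▸ hrk).trans ((dvd_mul_left k e).trans hkd))
      have htop : A ⊔ R0 = ⊤ := by
        by_contra hne
        have := S.minimal (A ⊔ R0) (hA ▸ le_sup_left) hne
        rw [← hA, hNA] at this
        exact hR0ne (le_sup_right.trans this)
      haveI : R0.Normal := Subgroup.normalizer_eq_top_iff.1 (eq_top_iff.2 (htop ▸ sup_le hAle Subgroup.le_normalizer))
      have hidx : R0.index ∣ P := by
        have h8 := Subgroup.relIndex_dvd_card (H := R0) (K := A)
        rwa [← Subgroup.relIndex_sup_right, htop, Subgroup.relIndex_top_right, hcA] at h8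
      have h9 : k ∣ Nat.card R0 * R0.index := by
        rw [Subgroup.card_mul_index, hL]
        exact dvd_mul_right _ _
      rcases hs.dvd_mul.1 (hsk.trans h9) with h | h
      · obtain ⟨n, hn⟩ := IsPGroup.iff_card.1 R.2
        rw [hR0c, hn] at h
        exact (Nat.prime_dvd_prime_iff_eq hs hr).1 (hs.dvd_of_dvd_pow h)
      · have h7 : s = P := (Nat.prime_dvd_prime_iff_eq hs hP).1 (h.trans hidx)
        exact absurd ((h7 ▸ hsk).trans ((dvd_mul_left k e).trans hkd)) hcop
    obtain ⟨r, hr, hrk⟩ := Nat.exists_prime_and_dvd hne1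
    have hle : (fac.filter fun x => k % x.1 == 0).map Prod.fst = List.replicate (fac.filter fun x => k % x.1 == 0).length r := by
      rw [List.eq_replicate_iff, List.length_map]
      refine ⟨rfl, fun b hb => ?_⟩
      obtain ⟨x, hx, rfl⟩ := List.mem_map.1 hb
      rw [List.mem_filter, beq_iff_eq] at hx
      exact hone r x.1 hr (hfac x hx.1) hrk (Nat.dvd_of_mod_eq_zero hx.2)
    have hnd : ((fac.filter fun x => k % x.1 == 0).map Prod.fst).Nodup :=
      hfn.sublist (List.filter_sublist.map Prod.fst)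
    rw [hle, List.nodup_replicate] at hnd
    omega
  · -- index five
    simp only [okFive, List.all_eq_true, Bool.or_eq_true, Bool.not_eq_true', beq_eq_false_iff_ne, beq_iff_eq] at h5
    rcases h5 k hkmem with ((h | h) | h) | h
    · exact absurd hk1 h
    · exact absurd h hne1
    · exact hfin h
    exfalso
    have hτ1 : τ ≠ 1 := fun h => by
      have := S.one_lt_np
      rw [← S.order, h, orderOf_one] at this
      exact lt_irrefl _ this
    have hcent : ∀ x ∈ A, x ≠ 1 → Subgroup.centralizer ({x} : Set L) = A := hA ▸ S.cent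
    have hab : ∀ a ∈ A, ∀ b ∈ A, a * b = b * a := hA ▸ S.comm
    obtain ⟨g, hg, hgA⟩ : ∃ g ∈ Subgroup.normalizer (A : Set L), g ∉ A := by
      by_contra hcon
      push Not at hcon
      have : e = 1 := he ▸ Subgroup.relIndex_eq_one.2 hcon
      omega
    have hlin : ∀ χ : IrrCharacter L, (χ : L → ℂ) 1 = 1 → (χ : L → ℂ) = fun _ => 1 := by
      intro χ hχ
      obtain ⟨f, hf⟩ := linearCharEquiv.surjective ⟨χ, hχ⟩
      have hfχ : ∀ x, (χ : L → ℂ) x = (f x : ℂ) := fun x => by
        rw [show χ = (linearCharEquiv f).1 from (congrArg Subtype.val hf).symm]; rfl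
      have hτker : f τ = 1 := by
        obtain ⟨i, hi⟩ := mem_powers_iff_mem_zpowers.2 (hA ▸ (Subgroup.mem_normalizer_iff.1 hg τ).1
          (hA ▸ Subgroup.mem_zpowers τ) : g * τ * g⁻¹ ∈ Subgroup.zpowers τ)
        simp only at hi
        have hf' : f τ ^ i = f τ := by
          rw [← map_pow, hi, map_mul, map_mul, map_inv, mul_comm (f g) (f τ), mul_inv_cancel_right]
        by_contra hne
        have hord : orderOf (f τ) = P :=
          ((Nat.dvd_prime hP).1 (hnp ▸ S.order ▸ orderOf_map_dvd f τ)).resolve_left (fun h => hne (orderOf_eq_one_iff.1 h))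
        have hi2 : τ ^ i = τ := by
          have h := (pow_inj_mod (x := f τ) (n := i) (m := 1)).1 (by rw [pow_one, hf'])
          rw [hord, ← hnp, ← S.order] at h
          have h' := (pow_inj_mod (x := τ) (n := i) (m := 1)).2 h
          rwa [pow_one] at h'
        refine hgA ?_
        rw [← hcent τ (hA ▸ Subgroup.mem_zpowers τ) hτ1, Subgroup.mem_centralizer_singleton_iff]
        rw [hi2] at hi
        calc g * τ = (g * τ * g⁻¹) * g := by group
          _ = τ * g := by rw [← hi]
      have hker := S.normal_top f.ker inferInstance (Subgroup.zpowers_le.2 hτker)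
      funext x
      rw [hfχ, show f x = 1 from MonoidHom.mem_ker.1 (hker ▸ Subgroup.mem_top x), Units.val_one]
    obtain ⟨lam, hlam⟩ : ∃ lam : A →* ℂˣ, Function.Injective lam := by
      haveI : IsCyclic A := isCyclic_of_prime_card hcA
      obtain ⟨ζ, hζ⟩ : ∃ ζ : ℂˣ, orderOf ζ = P := by
        have hu := (Complex.isPrimitiveRoot_exp P hP.ne_zero)
        obtain ⟨ζ, hζ⟩ := hu.isUnit hP.ne_zero
        exact ⟨ζ, by rw [← orderOf_units, hζ, ← hu.eq_orderOf]⟩
      obtain ⟨a₀, ha₀⟩ := IsCyclic.exists_generator (α := A)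
      refine ⟨monoidHomOfForallMemZpowers ha₀ (g' := ζ) (by rw [hζ, orderOf_eq_card_of_forall_mem_zpowers ha₀, hcA]), ?_⟩
      rw [injective_iff_map_eq_one]
      intro x hx
      obtain ⟨j, rfl⟩ := Subgroup.mem_zpowers_iff.1 (ha₀ x)
      rw [map_zpow, monoidHomOfForallMemZpowers_apply_gen, ← orderOf_dvd_iff_zpow_eq_one, hζ] at hx
      rw [← orderOf_dvd_iff_zpow_eq_one, orderOf_eq_card_of_forall_mem_zpowers ha₀, hcA]
      exact hx
    obtain ⟨te, hte, htd, hsol⟩ := degree_equation A hcent hab (he ▸ he5') (hcA ▸ hP7) lam hlam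
    rw [hcA] at htd hsol
    have hmem : ∀ (r t : ℤ), IsSignedDegree L t → (P : ℤ) ∣ t - r → ¬ (P : ℤ) ∣ r →
        t ∈ cls P r ((divList fac).filter fun d => (5 * k) % d == 0 && decide (6 ≤ d) && decide (d ^ 2 ≤ 5 * P * k)) := by
      intro r t ht hdiv hr
      obtain ⟨ψ, d, hd, hne, hsign⟩ := ht
      have hd1 : d ≠ 1 := fun h => hne (hlin ψ (by rw [hd, h, Nat.cast_one]))
      have hgt := (S.degree_gt ψ hne hd).resolve_left hd1
      rw [hnp] at hgt
      have hd6 : 6 ≤ d := by
        by_contra hlt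
        have := Nat.pow_le_pow_left (show 1 + d ≤ 6 by omega) 2
        omega
      have hdL : d ∣ k * (5 * P) := by
        rw [← he5', ← hL]; exact degree_dvd_card ψ hd
      have hPd : ¬ P ∣ d := fun h => hr (by
        have h' : (P : ℤ) ∣ t := by rcases hsign with e | e <;> subst e <;> simpa using Int.natCast_dvd_natCast.2 h
        simpa using dvd_sub h' hdiv)
      have hd5 : d ∣ 5 * k := by
        rw [show k * (5 * P) = 5 * k * P by ring] at hdL
        exact ((hP.coprime_iff_not_dvd.2 hPd).symm).dvd_of_dvd_mul_right hdL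
      have hd2 : d ^ 2 ≤ 5 * P * k := by
        refine (degree_sq_le ψ hd).trans (le_of_eq ?_)
        rw [hL, he5']; ring
      rw [cls, List.mem_filter, List.mem_flatMap]
      refine ⟨⟨d, List.mem_filter.2 ⟨mem_divList hfac (hd5.trans (he5' ▸ hkd)), ?_⟩, ?_⟩, ?_⟩
      · rw [Bool.and_eq_true, Bool.and_eq_true, beq_iff_eq, decide_eq_true_eq, decide_eq_true_eq]
        exact ⟨⟨Nat.mod_eq_zero_of_dvd hd5, hd6⟩, hd2⟩
      · rcases hsign with e | e <;> simp [e]
      · rw [beq_iff_eq]; exact Int.emod_eq_zero_of_dvd hdiv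
    have hnot : ∀ j : ℕ, 0 < j → j < P → ¬ (P : ℤ) ∣ (j : ℤ) := fun j h0 hj h =>
      Nat.not_dvd_of_pos_of_lt h0 hj (Int.natCast_dvd_natCast.1 h)
    have hteM := hmem (-5) te hte (by rwa [sub_neg_eq_add]) (by rw [dvd_neg]; exact_mod_cast hnot 5 (by norm_num) (by omega))
    simp only [noSol, List.all_eq_true, Bool.and_eq_true, Bool.not_eq_true', beq_eq_false_iff_ne] at h
    obtain ⟨hA4, hA2⟩ := h te hteM
    rcases hsol with ⟨l, hl, hlt, hsum⟩ | ⟨t, ht, hdv, hsum⟩
    · obtain ⟨t1, t2, t3, t4, rfl⟩ : ∃ t1 t2 t3 t4, l = [t1, t2, t3, t4] := by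
        rcases l with _ | ⟨t1, _ | ⟨t2, _ | ⟨t3, _ | ⟨t4, _ | ⟨t5, l⟩⟩⟩⟩⟩ <;> simp at hl ⊢
      have m : ∀ t ∈ [t1, t2, t3, t4], t ∈ cls P 1 _ := fun t ht =>
        hmem 1 t (hlt t ht).1 (hlt t ht).2 (by exact_mod_cast hnot 1 (by norm_num) (by omega))
      refine hA4 t1 (m _ (by simp)) t2 (m _ (by simp)) t3 (m _ (by simp)) t4 (m _ (by simp)) ?_
      simpa using hsum
    · exact hA2 t (hmem 2 t ht hdv (by exact_mod_cast hnot 2 (by norm_num) (by omega))) hsum

/-- for three or four elements the overgroup has a large Sylow subgroup -/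
theorem sq_pow_dvd_small {K : Subalgebra F (Matrix (Fin 5) (Fin 5) F)} {y : GL (Fin 5) F} (G : Gens q K γ y)
    (D : Sing q K) (hq : q = 3 ∨ q = 4) {M : Subgroup (GL (Fin 5) F)} (hM : M ≤ suG F q) (ht : tg q γ ∈ M)
    (hne : ¬ M ≤ subalgebraNormalizer K) : q ^ 6 ∣ Nat.card M := by
  obtain ⟨M₁, L, _, _, π, τ, hle, S⟩ := exists_sec G D hM ht hne
  suffices h : q ^ 6 ∣ Nat.card L by
    refine h.trans (dvd_trans ?_ (Subgroup.card_dvd_of_le hle))
    rw [S.card]
    exact dvd_mul_left _ _
  have hd : dd q * Nat.card L ∣ Nat.card (suG F q) := S.card ▸ Subgroup.card_dvd_of_le S.le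
  have hc := card_suG D.card
  rcases hq with rfl | rfl
  · have hc' : Nat.card (suG F 3) = 61 * facProd facThree := by
      refine Nat.eq_of_mul_eq_mul_left (show 0 < 3 + 1 by norm_num) (hc.trans ?_)
      norm_num [facProd, facThree]
    rw [hc', show dd 3 = 1 from rfl, one_mul] at hd
    refine S.sq_pow_dvd (by norm_num) (by norm_num) (show np 3 = 61 by decide) (by simp [facThree]; norm_num)
      (by decide) hd ?_ ok_three.1 ok_three.2
    norm_num [facProd, facThree]
  · have hc' : Nat.card (suG F 4) = 5 * (41 * facProd facFour) := by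
      refine Nat.eq_of_mul_eq_mul_left (show 0 < 4 + 1 by norm_num) (hc.trans ?_)
      norm_num [facProd, facFour]
    rw [hc', show dd 4 = 5 from rfl] at hd
    refine S.sq_pow_dvd (by norm_num) (by norm_num) (show np 4 = 41 by decide) (by simp [facFour]; norm_num)
      (by decide) (Nat.dvd_of_mul_dvd_mul_left (by norm_num) hd) ?_ ok_four.1 ok_four.2
    norm_num [facProd, facFour]

end CfsgLib.Perm.Trans.UnitFive.Singer
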