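import Cfsg.Agent.Lib.Perm.Trans.UnitFive.Singer.Norm
import Cfsg.Agent.Lib.Char.Basic

/-!
# The properties of the small Weil character of the special unitary group of dimension five

A character of degree `phi q - 1`, trivial on scalars, equal to minus one on the nonscalar elements of the Singer
group, and small outside the scalars.
-/

set_option autoImplicit false
set_option linter.all false

namespace CfsgLib.Perm.Trans.UnitFive.Singer

open scoped Matrix
open Matrix Cfsg Cfsg.Geo CfsgLib.Perm.Asch CfsgLib.Perm.Trans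

variable {F : Type*} [Field F] [Fintype F]

/-- the properties of the Weil character used for the Singer group -/
structure WeilChar (q : ℕ) (γ : GL (Fin 5) F) (χ : suG F q → ℂ) : Prop where
  char : IsCharacter (suG F q) χ
  one : χ 1 = ((phi q - 1 : ℕ) : ℂ)
  scalar : ∀ g z : suG F q, (∃ c : F, ((z : GL (Fin 5) F) : Matrix (Fin 5) (Fin 5) F) = c • 1) → χ (g * z) = χ g
  torus : ∀ (ht : tg q γ ∈ suG F q) (i : ℕ), ¬ np q ∣ i → χ (⟨tg q γ, ht⟩ ^ i) = -1
  bound : ∀ g : suG F q, (¬ ∃ c : F, ((g : GL (Fin 5) F) : Matrix (Fin 5) (Fin 5) F) = c • 1) →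
    4 * ((q : ℝ) + 1) * ‖χ g‖ ≤ 5 * (q : ℝ) ^ 4 + 4 * q

end CfsgLib.Perm.Trans.UnitFive.Singer
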