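import Cfsg.Agent.Lib.Perm.Trans.UnitFive.Singer.SecFacts
import Cfsg.Agent.Lib.Perm.Trans.UnitFive.Singer.Small
import Cfsg.Agent.Lib.Perm.Trans.UnitFive.Singer.WeilChar
import Cfsg.Agent.Lib.Perm.Trans.UnitFive.Singer.CharCore

/-!
# The character step for the Singer overgroup

The Weil character gives a constituent of degree `phi q - 1` of the minimal overgroup.
-/

set_option autoImplicit false
set_option linter.all false

namespace CfsgLib.Perm.Trans.UnitFive.Singer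

open scoped Matrix
open Matrix Cfsg Cfsg.Geo CfsgLib.Perm.Asch CfsgLib.Perm.Trans CfsgLib.Char

universe u

variable {F : Type u} [Field F] [Fintype F] {q : ℕ} {γ : GL (Fin 5) F} {M₁ : Subgroup (GL (Fin 5) F)}
  {L : Type u} [Group L] {π : M₁ →* L} {τ : L}

/-- a character of the unitary group, trivial on scalars, descends to the overgroup modulo scalars -/
theorem Sec.exists_lift [Finite L] (S : Sec q γ M₁ π τ) {χ : suG F q → ℂ} (W : WeilChar q γ χ) :
    ∃ χL : L → ℂ, IsCharacter L χL ∧ χL 1 = ((phi q - 1 : ℕ) : ℂ) ∧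
      (∀ a ∈ Subgroup.zpowers τ, a ≠ 1 → χL a = -1) ∧
      ∀ l : L, l ≠ 1 → 4 * ((q : ℝ) + 1) * ‖χL l‖ ≤ 5 * (q : ℝ) ^ 4 + 4 * q := by
  classical
  obtain ⟨m, ρ, hρ⟩ := W.char
  let ι : M₁ →* suG F q := Subgroup.inclusion S.le
  obtain ⟨s, hs⟩ : ∃ s : L → M₁, ∀ l, π (s l) = l := ⟨fun l => (S.surj l).choose, fun l => (S.surj l).choose_spec⟩
  have hdim : (Module.finrank ℂ (Fin m → ℂ) : ℂ) = ((phi q - 1 : ℕ) : ℂ) := by
    rw [← Representation.char_one ρ, hρ, W.one]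
  have hid : ∀ z : M₁, π z = 1 → ρ (ι z) = LinearMap.id := fun z hz => by
    rw [← char_eq_degree_iff ρ, hρ, hdim, ← W.one]
    obtain ⟨c, hc⟩ := (S.ker z).1 hz
    have := W.scalar 1 (ι z) ⟨c, hc⟩
    rwa [one_mul] at this
  let ρL : Representation ℂ L (Fin m → ℂ) :=
    { toFun := fun l => ρ (ι (s l))
      map_one' := hid (s 1) (hs 1)
      map_mul' := fun a b => by
        obtain ⟨z, hz⟩ : ∃ z, z = (s a * s b)⁻¹ * s (a * b) := ⟨_, rfl⟩
        have hz1 : π z = 1 := by rw [hz, map_mul, map_inv, map_mul, hs, hs, hs, inv_mul_cancel]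
        rw [show s (a * b) = s a * s b * z by rw [hz, mul_inv_cancel_left], map_mul, map_mul ρ, hid z hz1]
        rw [map_mul, map_mul]
        exact mul_one _ }
  have hval : ∀ l, ρL.character l = χ (ι (s l)) := fun l => by rw [← hρ]; rfl
  refine ⟨ρL.character, ⟨m, ρL, rfl⟩, ?_, fun a ha ha1 => ?_, fun l hl => ?_⟩
  · rw [Representation.char_one, hdim]
  · obtain ⟨i, rfl⟩ := mem_powers_iff_mem_zpowers.2 ha
    simp only at ha1 ⊢
    have hi : ¬ np q ∣ i := fun h => ha1 (orderOf_dvd_iff_pow_eq_one.1 (S.order.symm ▸ h))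
    have ht : tg q γ ∈ suG F q := S.le S.t_mem
    obtain ⟨z, hz⟩ : ∃ z, z = (⟨tg q γ, S.t_mem⟩ ^ i)⁻¹ * s (τ ^ i) := ⟨_, rfl⟩
    have hz1 : π z = 1 := by rw [hz, map_mul, map_inv, map_pow, S.map_t, hs, inv_mul_cancel]
    obtain ⟨c, hc⟩ := (S.ker z).1 hz1
    rw [hval, show ι (s (τ ^ i)) = (⟨tg q γ, ht⟩ : suG F q) ^ i * ι z by
      rw [hz, map_mul, map_inv, map_pow, show ι ⟨tg q γ, S.t_mem⟩ = ⟨tg q γ, ht⟩ from rfl, mul_inv_cancel_left],
      W.scalar _ (ι z) ⟨c, hc⟩, W.torus ht i hi]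
  · rw [hval]
    refine W.bound _ fun hc => hl ?_
    rw [← hs l]
    exact (S.ker (s l)).2 hc

/-- the character step: `phi q - 1` divides the order of the minimal overgroup -/
theorem Sec.phi_sub_one_dvd [Finite L] (S : Sec q γ M₁ π τ) {K : Subalgebra F (Matrix (Fin 5) (Fin 5) F)}
    (D : Sing q K) (hq : 5 ≤ q) {χ : suG F q → ℂ} (W : WeilChar q γ χ)
    (hkill : dd q = 5 → ∀ x b : ℕ, 1 ≤ b → b ≤ x → x ≤ 5 → ¬ (x = 5 ∧ b = 1) →
      ¬ x * phi q - 5 * b ∣ q ^ 10 * ((q ^ 2 - 1) * ((q ^ 3 + 1) * ((q ^ 4 - 1) * (q ^ 5 + 1))))) :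
    phi q - 1 ∣ Nat.card M₁ := by
  classical
  haveI := Fintype.ofFinite L
  obtain ⟨χL, hχL, h1, hA, hB⟩ := S.exists_lift W
  have hnd := np_mul q
  have hphi := succ_mul_phi q
  have hd5 : dd q = 1 ∨ dd q = 5 ∧ 9 ≤ q := by
    refine (dd_cases q).imp id fun h => ⟨h, ?_⟩
    have h5 : 5 ∣ q + 1 := h ▸ (Nat.gcd_dvd_right 5 (q + 1) : dd q ∣ q + 1)
    omega
  obtain ⟨B, hBdef⟩ : ∃ B : ℝ, B = (5 * (q : ℝ) ^ 4 + 4 * q) / (4 * ((q : ℝ) + 1)) := ⟨_, rfl⟩
  have hpos : (0 : ℝ) < 4 * ((q : ℝ) + 1) := by positivity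
  have hbig : (5 * dd q + 2) ^ 2 ≤ np q := by
    have hq' : q ^ 4 * q = q ^ 5 := by ring
    rcases hd5 with h | ⟨h, h9⟩
    · rw [h, mul_one] at hnd
      rw [h]
      have h2 : 5 ^ 4 * q ≤ q ^ 5 := hq' ▸ Nat.mul_le_mul_right _ (Nat.pow_le_pow_left hq 4)
      by_contra hlt
      have h4 := Nat.mul_le_mul_left (q + 1) (show phi q ≤ 48 by rw [← hnd]; norm_num at hlt; omega)
      omega
    · rw [h] at hnd ⊢
      have h2 : 9 ^ 4 * q ≤ q ^ 5 := hq' ▸ Nat.mul_le_mul_right _ (Nat.pow_le_pow_left h9 4)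
      by_contra hlt
      have h4 := Nat.mul_le_mul_left (q + 1) (show phi q ≤ 5 * 728 by rw [← hnd]; norm_num at hlt; omega)
      omega
  have hB6 : B ≤ (np q : ℝ) - 6 := by
    rw [hBdef, div_le_iff₀ hpos]
    have hphi' : ((q : ℝ) + 1) * (phi q : ℝ) = (q : ℝ) ^ 5 + 1 := by exact_mod_cast hphi
    rcases hd5 with h | ⟨h, h9⟩
    · have hn : (np q : ℝ) = phi q := by rw [h, mul_one] at hnd; rw [hnd]
      rw [hn]
      have h5 : (5 : ℝ) ≤ q := by exact_mod_cast hq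
      have h6 : 20 * (q : ℝ) ^ 4 ≤ 4 * (q : ℝ) ^ 5 := by nlinarith [pow_nonneg (Nat.cast_nonneg (α := ℝ) q) 4]
      have h7 : (125 : ℝ) * q ≤ (q : ℝ) ^ 4 := by nlinarith [mul_le_mul h5 h5 (by norm_num) (by linarith)]
      nlinarith
    · have hn : 5 * (np q : ℝ) = phi q := by rw [h] at hnd; rw [← hnd]; push_cast; ring
      have h5 : (9 : ℝ) ≤ q := by exact_mod_cast h9
      have h6 : 36 * (q : ℝ) ^ 4 ≤ 4 * (q : ℝ) ^ 5 := by nlinarith [pow_nonneg (Nat.cast_nonneg (α := ℝ) q) 4]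
      have h7 : (729 : ℝ) * q ≤ (q : ℝ) ^ 4 := by nlinarith [mul_le_mul h5 h5 (by norm_num) (by linarith)]
      nlinarith
  have hB0 : 0 ≤ B := by rw [hBdef]; positivity
  have hdR : (dd q : ℝ) ≤ 5 := by rcases dd_cases q with h | h <;> simp [h]
  obtain ⟨δ, x, b, hδ, heq, hb, hbx, hx⟩ := exists_degree (Subgroup.zpowers τ) S.cent S.comm S.normal_top S.not_normal
    S.card_A (fun r hr h => prime_ge_seven hr h) (Nat.le_of_dvd (by norm_num) S.relIndex) (dd_pos q) hbig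
    (fun ψ δ hψ hδ => S.degree_gt ψ hψ hδ) hχL (by rw [h1, mul_comm, hnd]) hA hB0
    (fun g hg => by rw [hBdef, le_div_iff₀ hpos, mul_comm]; exact hB g hg)
    (by
      have hn1 : (1 : ℝ) ≤ (np q : ℝ) := by exact_mod_cast np_pos q
      rw [Nat.cast_sub (Nat.mul_pos (dd_pos q) (np_pos q)), Nat.cast_mul, Nat.cast_one]
      have h6 := mul_le_mul_of_nonneg_left (show (5 : ℝ) ≤ (np q : ℝ) - 1 - B by linarith) (show (0 : ℝ) ≤ (np q : ℝ) + 1 by linarith)
      have h7 := mul_le_mul_of_nonneg_right hdR (show (0 : ℝ) ≤ np q by linarith)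
      nlinarith)
    (by linarith)
  rw [S.card]
  rcases dd_cases q with h | h
  · rw [h] at hx hnd ⊢
    rw [mul_one] at hnd
    obtain rfl : x = 1 := by omega
    obtain rfl : b = 1 := by omega
    rw [one_mul] at heq ⊢
    rwa [show phi q - 1 = δ by omega]
  · rw [h] at hx hnd
    have h5 : 5 * δ = x * phi q - 5 * b := by
      rw [← hnd, show x * (np q * 5) = 5 * (x * np q) by ring, ← heq]
      omega
    by_cases hxb : x = 5 ∧ b = 1
    · obtain ⟨rfl, rfl⟩ := hxb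
      rw [h]
      refine Dvd.dvd.mul_left ?_ 5
      rwa [show phi q - 1 = δ by omega]
    exfalso
    refine hkill h x b hb hbx hx hxb ?_
    have hM : 5 * δ ∣ Nat.card (suG F q) := by
      refine (mul_dvd_mul (dvd_of_eq h.symm) hδ).trans ?_
      rw [← S.card]
      exact Subgroup.card_dvd_of_le S.le
    have hc := card_suG (F := F) D.card
    have hc' : Nat.card (suG F q) = q ^ 10 * ((q ^ 2 - 1) * ((q ^ 3 + 1) * ((q ^ 4 - 1) * (q ^ 5 + 1)))) :=
      Nat.eq_of_mul_eq_mul_left (show 0 < q + 1 by omega) (hc.trans (by ring))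
    rwa [← h5, ← hc']

end CfsgLib.Perm.Trans.UnitFive.Singer
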