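import Cfsg.Agent.Lib.Perm.Trans.UnitFive.Singer.Poly

/-!
# Small combinations of the Singer order do not divide the group order
-/

set_option autoImplicit false
set_option linter.all false
set_option maxRecDepth 100000

namespace CfsgLib.Perm.Trans.UnitFive.Singer

/-- the check of one small field -/
def chkD (q : ℕ) : Bool :=
  q % 5 != 4 || (List.range 6).all fun x => (List.range 6).all fun b =>
    decide (b = 0 ∨ x < b ∨ (x = 5 ∧ b = 1)) ||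
      (q ^ 10 * ((q ^ 2 - 1) * ((q ^ 3 + 1) * ((q ^ 4 - 1) * (q ^ 5 + 1))))) % (x * phi q - 5 * b) != 0

theorem chkD_one : (List.range' 5 1000).all chkD = true := by decide +kernel
theorem chkD_two : (List.range' 1005 1000).all chkD = true := by decide +kernel

namespace Co

/-- the bound for a divisor of the group order -/
def bndB (b : ℕ) (a : Co) : ℕ :=
  5 * b * (a.a0.natAbs * (a.s1.natAbs ^ 2 *
    ((if a.s2 = 0 then 2 * a.s2'.natAbs ^ 3 else a.s2.natAbs ^ 4) * (a.s3.natAbs * a.s4.natAbs))))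

/-- the check of one polynomial -/
def okB (b Q : ℕ) (a : Co) : Bool :=
  decide (a.a0 ≠ 0 ∧ a.a0.natAbs < Q ∧ a.s1 ≠ 0 ∧ (a.s2 ≠ 0 ∨ a.s2' ≠ 0) ∧ a.s3 ≠ 0 ∧ a.s4 ≠ 0) &&
    a.tooBig Q (bndB b a) (if a.s2 = 0 then 1 else 0)

end Co

/-- the polynomial of one case -/
def degCo (x b : ℕ) : Co := Co.comb (x : ℤ) Co.phiC (-(5 * b : ℤ)) (Co.mon 0)

theorem all_deg : ((List.range 6).all fun x => (List.range 6).all fun b =>
    decide (b = 0 ∨ x < b ∨ (x = 5 ∧ b = 1)) || ((degCo x b).primOk && (degCo x b).prim.okB b 2000)) = true := by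
  decide +kernel

theorem mod_five {q : ℕ} (hd : dd q = 5) : q % 5 = 4 := by
  have h : 5 ∣ q + 1 := hd ▸ Nat.gcd_dvd_right 5 (q + 1)
  omega

theorem degree_kill {p f q x b : ℕ} (hp : p.Prime) (hq : q = p ^ f) (h5 : 5 ≤ q) (hd : dd q = 5) (hb : 1 ≤ b)
    (hbx : b ≤ x) (hx : x ≤ 5) (hne : ¬ (x = 5 ∧ b = 1)) :
    ¬ x * phi q - 5 * b ∣ q ^ 10 * ((q ^ 2 - 1) * ((q ^ 3 + 1) * ((q ^ 4 - 1) * (q ^ 5 + 1)))) := by
  intro hdvd
  have hm := mod_five hd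
  rcases Nat.lt_or_ge q 2000 with hlt | hge
  · have key : chkD q = true := by
      have h : ∀ s, (List.range' s 1000).all chkD = true → s ≤ q → q < s + 1000 → chkD q = true := fun s h h1 h2 =>
        List.all_eq_true.1 h q (List.mem_range'_1.2 ⟨h1, h2⟩)
      rcases Nat.lt_or_ge q 1005 with h1 | h1
      · exact h 5 chkD_one h5 h1
      · exact h 1005 chkD_two h1 (by omega)
    simp only [chkD, Bool.or_eq_true, List.all_eq_true, List.mem_range, decide_eq_true_eq, bne_iff_ne] at key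
    rcases key with key | key
    · exact key hm
    · rcases key x (by omega) b (by omega) with h | h
      · omega
      · exact h (Nat.mod_eq_zero_of_dvd hdvd)
  have hok := all_deg
  simp only [List.all_eq_true, List.mem_range, Bool.or_eq_true, Bool.and_eq_true, decide_eq_true_eq] at hok
  obtain ⟨hp', hok'⟩ : (degCo x b).primOk = true ∧ (degCo x b).prim.okB b 2000 = true := by
    rcases hok x (by omega) b (by omega) with h | h
    · omega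
    · exact h
  simp only [Co.okB, Bool.and_eq_true, decide_eq_true_eq] at hok'
  obtain ⟨⟨k0, k0', k1, k2, k3, k4⟩, hbig⟩ := hok'
  have hqz : (2000 : ℤ) ≤ q := by exact_mod_cast hge
  have hphi : 5 < phi q := by
    have h := Co.ev_phiC q
    simp only [Co.ev, Co.phiC] at h
    have h3 : (q : ℤ) ^ 3 * 2000 ≤ (q : ℤ) ^ 4 := by rw [pow_succ _ 3]; gcongr
    have h1 : (q : ℤ) ≤ (q : ℤ) ^ 3 := le_self_pow₀ (by omega) (by norm_num)
    have h2 : (0 : ℤ) ≤ (q : ℤ) ^ 2 := by positivity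
    have : (5 : ℤ) < (phi q : ℤ) := by rw [← h]; nlinarith
    exact_mod_cast this
  have hlt' : 5 * b < x * phi q := by
    have h1 : 5 * b ≤ 5 * x := by omega
    have h2 : 5 * x < x * phi q := by rw [mul_comm x]; exact Nat.mul_lt_mul_of_pos_right hphi (by omega)
    omega
  have hev : (degCo x b).ev (q : ℤ) = ((x * phi q - 5 * b : ℕ) : ℤ) := by
    rw [Nat.cast_sub hlt'.le, degCo, Co.ev_comb, Co.ev_mon (by norm_num), Co.ev_phiC]
    push_cast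
    ring
  obtain ⟨he, hpos⟩ := Co.ev_prim hp' q
  obtain ⟨a, ha⟩ : ∃ a, a = (degCo x b).prim := ⟨_, rfl⟩
  rw [← ha] at k0 k0' k1 k2 k3 k4 hbig he hpos
  have hpos' := hpos (by rw [hev]; exact_mod_cast Nat.sub_pos_of_lt hlt')
  have hK : a.ev (q : ℤ) ∣ ((x * phi q - 5 * b : ℕ) : ℤ) := by
    rw [← hev, he]
    exact dvd_mul_left _ _
  have hG : a.ev (q : ℤ) ∣ ((q : ℤ) ^ 10) * (((q : ℤ) - 1) ^ 2 * (((q : ℤ) + 1) ^ 4 *
      (((q : ℤ) ^ 2 - q + 1) * (((q : ℤ) ^ 2 + 1) * (phi q : ℤ))))) := by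
    refine hK.trans ((Int.natCast_dvd_natCast.2 hdvd).trans (dvd_of_eq ?_))
    have hs := congrArg (Nat.cast : ℕ → ℤ) (succ_mul_phi q)
    push_cast at hs
    rw [Nat.cast_mul, Nat.cast_mul, Nat.cast_mul, Nat.cast_mul, Nat.cast_sub (Nat.one_le_pow _ _ (by omega)),
      Nat.cast_sub (Nat.one_le_pow _ _ (by omega))]
    push_cast
    rw [← hs]
    ring
  have h0 : a.ev (q : ℤ) ∣ |a.a0| * ((((q : ℤ) - 1) ^ 2) * (((q : ℤ) + 1) ^ 4 *
      (((q : ℤ) ^ 2 - q + 1) * (((q : ℤ) ^ 2 + 1) * (phi q : ℤ))))) := by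
    have hr0 : Nat.gcd (a.ev (q : ℤ)).natAbs (p ^ f) ∣ a.a0.natAbs := by
      rw [← hq, ← Int.natCast_dvd]
      have h1 : ((Nat.gcd (a.ev (q : ℤ)).natAbs q : ℕ) : ℤ) ∣ a.ev (q : ℤ) :=
        Int.natCast_dvd.2 (Nat.gcd_dvd_left _ _)
      have h2 : ((Nat.gcd (a.ev (q : ℤ)).natAbs q : ℕ) : ℤ) ∣ (q : ℤ) :=
        Int.natCast_dvd_natCast.2 (Nat.gcd_dvd_right _ _)
      conv_rhs => rw [Co.res0 a q]
      exact dvd_add (dvd_mul_of_dvd_left h1 _) (dvd_mul_of_dvd_left h2 _)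
    have hr := CfsgLib.Perm.Trans.FiveDim.gcd_power_field hp 10 hr0 (Int.natAbs_pos.2 k0)
      (by rw [← hq]; omega)
    rw [← hq] at hr
    obtain ⟨c, hc⟩ := hr
    have hg := Int.gcd_eq_gcd_ab (a.ev (q : ℤ)) ((q : ℤ) ^ 10)
    have hgc : Int.gcd (a.ev (q : ℤ)) ((q : ℤ) ^ 10) = Nat.gcd (a.ev (q : ℤ)).natAbs (q ^ 10) := by
      rw [Int.gcd, Int.natAbs_pow, Int.natAbs_natCast]
    rw [hgc] at hg
    have hr' : |a.a0| = a.ev (q : ℤ) * (Int.gcdA (a.ev (q : ℤ)) ((q : ℤ) ^ 10) * c) +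
        (q : ℤ) ^ 10 * (Int.gcdB (a.ev (q : ℤ)) ((q : ℤ) ^ 10) * c) := by
      rw [Int.abs_eq_natAbs, hc, Nat.cast_mul, hg]
      ring
    exact Co.drop hG hr'
  have h1 : a.ev (q : ℤ) ∣ |a.s1| ^ 2 * (|a.a0| * (((q : ℤ) + 1) ^ 4 *
      (((q : ℤ) ^ 2 - q + 1) * (((q : ℤ) ^ 2 + 1) * (phi q : ℤ))))) :=
    Co.drop_pow (Co.res1 a q) 2 (h0.trans (dvd_of_eq (by ring)))
  have h2 := Co.drop_succ (a := a) (q := (q : ℤ)) (Y := |a.s1| ^ 2 * (|a.a0| *
      (((q : ℤ) ^ 2 - q + 1) * (((q : ℤ) ^ 2 + 1) * (phi q : ℤ))))) (by omega) (h1.trans (dvd_of_eq (by ring)))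
  generalize hX2 : (if a.s2 = 0 then ((q : ℤ) + 1) * |a.s2'| ^ 3 else |a.s2| ^ 4) = X2 at h2
  have h3 : a.ev (q : ℤ) ∣ |a.s3| * (X2 * (|a.s1| ^ 2 * (|a.a0| * (((q : ℤ) ^ 2 + 1) * (phi q : ℤ))))) :=
    Co.drop_abs (h2.trans (dvd_of_eq (by ring))) (Co.res3 a q)
  have h4 : a.ev (q : ℤ) ∣ |a.s4| * (|a.s3| * (X2 * (|a.s1| ^ 2 * (|a.a0| * (phi q : ℤ))))) :=
    Co.drop_abs (h3.trans (dvd_of_eq (by ring))) (Co.res4 a q)
  have h5' : a.ev (q : ℤ) ∣ (5 * b : ℤ) * (|a.s4| * (|a.s3| * (X2 * (|a.s1| ^ 2 * |a.a0|)))) := by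
    refine Co.drop (x := (phi q : ℤ)) (u := -((degCo x b).content : ℤ)) (v := (x : ℤ))
      (h4.trans (dvd_of_eq (by ring))) ?_
    have h := hev
    rw [he, Nat.cast_sub hlt'.le] at h
    push_cast at h
    linarith
  have p2 : 0 < X2 := by
    rw [← hX2]
    split_ifs with e
    · exact mul_pos (by omega) (pow_pos (abs_pos.2 (k2.resolve_left (not_not.2 e))) 3)
    · exact pow_pos (abs_pos.2 e) 4
  have b2 : X2 ≤ ((if a.s2 = 0 then 2 * a.s2'.natAbs ^ 3 else a.s2.natAbs ^ 4 : ℕ) : ℤ) *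
      (q : ℤ) ^ (if a.s2 = 0 then 1 else 0) := by
    rw [← hX2]
    split_ifs
    · push_cast
      rw [pow_one]
      have : (0 : ℤ) ≤ |a.s2'| ^ 3 := by positivity
      nlinarith
    · simp
  have hb0 : (0 : ℤ) < 5 * b := by omega
  refine Co.false_of_tooBig hbig (by norm_num) (by exact_mod_cast hge) hpos' ?_
  refine (Int.le_of_dvd ?_ h5').trans ?_
  · exact mul_pos hb0 (mul_pos (abs_pos.2 k4) (mul_pos (abs_pos.2 k3) (mul_pos p2 (mul_pos (pow_pos (abs_pos.2 k1) 2) (abs_pos.2 k0)))))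
  · calc (5 * b : ℤ) * (|a.s4| * (|a.s3| * (X2 * (|a.s1| ^ 2 * |a.a0|))))
        ≤ (5 * b : ℤ) * (|a.s4| * (|a.s3| * ((((if a.s2 = 0 then 2 * a.s2'.natAbs ^ 3 else a.s2.natAbs ^ 4 : ℕ) : ℤ) *
            (q : ℤ) ^ (if a.s2 = 0 then 1 else 0)) * (|a.s1| ^ 2 * |a.a0|)))) := by gcongr
      _ = _ := by simp only [Co.bndB, Nat.cast_mul, Nat.cast_pow, Int.natCast_natAbs, Nat.cast_ofNat]; ring

end CfsgLib.Perm.Trans.UnitFive.Singer
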