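import Cfsg.Agent.Lib.Perm.Trans.UnitFive.Singer.Spectrum
import Cfsg.Agent.Lib.Perm.Trans.UnitFive.Singer.WeilChar

/-!
# The eigenspaces of the intertwiner of the scalars

The intertwiner `Γ ^ phi q` of a generating scalar has eigenspaces of dimensions `phi q - 1` and `phi q`, preserved
by every intertwiner.
-/

set_option autoImplicit false
set_option linter.all false

namespace CfsgLib.Perm.Trans.UnitFive.Singer

open scoped Matrix ComplexConjugate Classical
open Matrix Cfsg Module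

section Proj

variable {V : Type*} [AddCommGroup V] [Module ℂ V]

/-- the projector attached to an operator of period `n` and a root of unity -/
noncomputable def proj (n : ℕ) (w : ℂ) (Z : Module.End ℂ V) : Module.End ℂ V :=
  (n : ℂ)⁻¹ • ∑ j ∈ Finset.range n, w ^ j • Z ^ j

theorem proj_comm {n : ℕ} (w : ℂ) {Z T : Module.End ℂ V} (h : Commute T Z) : Commute T (proj n w Z) :=
  (Commute.sum_right _ _ _ fun j _ => (h.pow_right j).smul_right _).smul_right _

theorem mul_proj {n : ℕ} (hn : 0 < n) {w : ℂ} (hw : w ^ n = 1) {Z : Module.End ℂ V} (hZ : Z ^ n = 1) :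
    (w • Z) * proj n w Z = proj n w Z := by
  have h : ∑ j ∈ Finset.range n, w ^ (j + 1) • Z ^ (j + 1) = ∑ j ∈ Finset.range n, w ^ j • Z ^ j := by
    obtain ⟨m, rfl⟩ : ∃ m, n = m + 1 := ⟨n - 1, by omega⟩
    rw [Finset.sum_range_succ, Finset.sum_range_succ' (fun j => w ^ j • Z ^ j), hw, hZ]
    simp
  rw [proj, mul_smul_comm, Finset.mul_sum]
  congr 1
  conv_rhs => rw [← h]
  exact Finset.sum_congr rfl fun j _ => by rw [smul_mul_smul_comm, pow_succ' w, pow_succ' Z]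

theorem pow_mul_proj {n : ℕ} (hn : 0 < n) {w : ℂ} (hw : w ^ n = 1) {Z : Module.End ℂ V} (hZ : Z ^ n = 1) (j : ℕ) :
    (w ^ j • Z ^ j) * proj n w Z = proj n w Z := by
  induction j with
  | zero => simp
  | succ j ih => rw [pow_succ w, pow_succ Z, ← smul_mul_smul_comm, mul_assoc, mul_proj hn hw hZ, ih]

theorem proj_idem {n : ℕ} (hn : 0 < n) {w : ℂ} (hw : w ^ n = 1) {Z : Module.End ℂ V} (hZ : Z ^ n = 1) :
    proj n w Z * proj n w Z = proj n w Z := by
  conv_lhs => arg 1; rw [proj]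
  rw [smul_mul_assoc, Finset.sum_mul, Finset.sum_congr rfl fun j _ => pow_mul_proj hn hw hZ j, Finset.sum_const,
    Finset.card_range, ← Nat.cast_smul_eq_nsmul ℂ, smul_smul, inv_mul_cancel₀ (Nat.cast_ne_zero.2 hn.ne'), one_smul]

theorem proj_apply_mem {n : ℕ} (hn : 0 < n) {w : ℂ} (hw : w ^ n = 1) {Z : Module.End ℂ V} (hZ : Z ^ n = 1)
    {f : V} (hf : f ∈ LinearMap.range (proj n w Z)) : proj n w Z f = f := by
  obtain ⟨g, rfl⟩ := hf
  rw [← Module.End.mul_apply, proj_idem hn hw hZ]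

theorem mapsTo_range {P T : Module.End ℂ V} (h : Commute T P) : ∀ f ∈ LinearMap.range P, T f ∈ LinearMap.range P := by
  rintro _ ⟨g, rfl⟩
  exact ⟨T g, by rw [← Module.End.mul_apply, ← h.eq, Module.End.mul_apply]⟩

theorem trace_restrict_range [FiniteDimensional ℂ V] {P : Module.End ℂ V} (hP : P * P = P) {T : Module.End ℂ V}
    (hT : ∀ f ∈ LinearMap.range P, T f ∈ LinearMap.range P) :
    LinearMap.trace ℂ _ (T.restrict hT) = LinearMap.trace ℂ V (T * P) := by
  let π : V →ₗ[ℂ] LinearMap.range P := P.rangeRestrict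
  let ι : LinearMap.range P →ₗ[ℂ] V := (LinearMap.range P).subtype
  have h1 : T.restrict hT = π ∘ₗ (T ∘ₗ ι) := by
    refine LinearMap.ext fun f => Subtype.ext ?_
    show T f = P (T f)
    obtain ⟨g, hg⟩ := hT f f.2
    rw [← hg, ← Module.End.mul_apply, hP]
  rw [h1, LinearMap.trace_comp_comm']
  rfl

end Proj

variable {F : Type*} [Field F] [Fintype F] {q : ℕ} {C : CfsgLib.SU.UCtx F q}
  {W : (Fin 5 → F) → Module.End ℂ (Fun5 C)} {ψ : AddChar F ℂ} {K : Subalgebra F (Matrix (Fin 5) (Fin 5) F)}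
  {γ y : GL (Fin 5) F}

local notation "V5" => (Fin 5 → F)
local notation "M5" => Matrix (Fin 5) (Fin 5) F
local notation "G5" => GL (Fin 5) F

/-- the intertwiner of the Singer generator with its missing eigenvalue, and the two roots used -/
structure Spec (W : V5 → Module.End ℂ (Fun5 C)) (γ : G5) (Γ : (Module.End ℂ (Fun5 C))ˣ) (l0 w₀ w₁ : ℂ) : Prop where
  inter : IsInter W γ Γ
  period : Γ ^ (q ^ 5 + 1) = 1
  root : l0 ^ (q ^ 5 + 1) = 1
  trace : ∀ l : ℕ, LinearMap.trace ℂ _ (Γ ^ l).val =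
    (if q ^ 5 + 1 ∣ l then ((q ^ 5 + 1 : ℕ) : ℂ) else 0) - l0 ^ l
  w₀_mul : w₀ * l0 ^ phi q = 1
  w₁_pow : w₁ ^ (q + 1) = 1
  w₁_ne : w₁ * l0 ^ phi q ≠ 1

theorem Heis.exists_spec (H : Heis C W ψ) (G : Gens q K γ y) (D : Sing q K) :
    ∃ (Γ : (Module.End ℂ (Fun5 C))ˣ) (l0 w₀ w₁ : ℂ), Spec W γ Γ l0 w₀ w₁ := by
  obtain ⟨Γ, l0, h1, h2, h3, h4⟩ := H.spectrum G D
  have hl : l0 ^ phi q ≠ 0 := pow_ne_zero _ fun h => by rw [h, zero_pow (Nat.succ_ne_zero _)] at h3; exact zero_ne_one h3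
  have hprim := Complex.isPrimitiveRoot_exp (q + 1) (by omega)
  refine ⟨Γ, l0, (l0 ^ phi q)⁻¹, (l0 ^ phi q)⁻¹ * Complex.exp (2 * Real.pi * Complex.I / ((q + 1 : ℕ) : ℂ)),
    h1, h2, h3, h4, inv_mul_cancel₀ hl, ?_, ?_⟩
  · rw [mul_pow, hprim.pow_eq_one, mul_one, inv_pow, ← pow_mul, mul_comm, succ_mul_phi, h3, inv_one]
  · rw [mul_right_comm, inv_mul_cancel₀ hl, one_mul]
    exact hprim.ne_one (by have := D.two_le; omega)

variable {Γ : (Module.End ℂ (Fun5 C))ˣ} {l0 w₀ w₁ : ℂ}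

theorem Spec.w₀_pow (S : Spec W γ Γ l0 w₀ w₁) : w₀ ^ (q + 1) = 1 := by
  have h := congrArg (· ^ (q + 1)) S.w₀_mul
  simp only [mul_pow, one_pow, ← pow_mul, mul_comm (phi q) (q + 1), succ_mul_phi, S.root, mul_one] at h
  exact h

theorem Spec.z_pow (S : Spec W γ Γ l0 w₀ w₁) : ((Γ ^ phi q).val) ^ (q + 1) = 1 := by
  rw [← Units.val_pow_eq_pow_val, ← pow_mul, mul_comm, succ_mul_phi, S.period, Units.val_one]

/-- the projectors -/
noncomputable def Spec.P (S : Spec W γ Γ l0 w₀ w₁) (w : ℂ) : Module.End ℂ (Fun5 C) := proj (q + 1) w (Γ ^ phi q).val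

theorem Spec.trace_pow_P (S : Spec W γ Γ l0 w₀ w₁) (l : ℕ) :
    LinearMap.trace ℂ _ ((Γ ^ l).val * S.P w₀) =
      ((if phi q ∣ l then (phi q : ℂ) else 0) - 1) * l0 ^ l := by
  have hq1 : ((q + 1 : ℕ) : ℂ) ≠ 0 := by exact_mod_cast Nat.succ_ne_zero q
  have hterm : ∀ j ∈ Finset.range (q + 1), LinearMap.trace ℂ _ ((Γ ^ l).val * (w₀ ^ j • (Γ ^ phi q).val ^ j)) =
      (if q ^ 5 + 1 ∣ l + phi q * j then ((q ^ 5 + 1 : ℕ) : ℂ) * l0 ^ l else 0) - l0 ^ l := fun j _ => by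
    have h1 : w₀ ^ j * l0 ^ (phi q * j) = 1 := by rw [pow_mul, ← mul_pow, S.w₀_mul, one_pow]
    rw [mul_smul_comm, map_smul, ← Units.val_pow_eq_pow_val, ← Units.val_mul, ← pow_mul, ← pow_add, S.trace, smul_eq_mul]
    split_ifs with h
    · have h2 : l0 ^ (l + phi q * j) = 1 := by
        obtain ⟨k, hk⟩ := h
        rw [hk, pow_mul, S.root, one_pow]
      have h3 : w₀ ^ j = l0 ^ l := by
        rw [pow_add] at h2
        calc w₀ ^ j = w₀ ^ j * (l0 ^ l * l0 ^ (phi q * j)) := by rw [h2, mul_one]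
          _ = l0 ^ l * (w₀ ^ j * l0 ^ (phi q * j)) := by ring
          _ = l0 ^ l := by rw [h1, mul_one]
      rw [h2, h3]; ring
    · rw [pow_add]
      linear_combination (-(l0 ^ l)) * h1
  rw [Spec.P, proj, mul_smul_comm, map_smul, Finset.mul_sum, map_sum, Finset.sum_congr rfl hterm,
    Finset.sum_sub_distrib, Finset.sum_const, Finset.card_range, nsmul_eq_mul, smul_eq_mul]
  by_cases hl : phi q ∣ l
  · obtain ⟨k, rfl⟩ := hl
    rw [if_pos (dvd_mul_right _ _)]
    obtain ⟨j0, hj0, hj1⟩ : ∃ j0 < q + 1, q + 1 ∣ k + j0 := by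
      refine ⟨(q + 1 - k % (q + 1)) % (q + 1), Nat.mod_lt _ (by omega), Nat.dvd_of_mod_eq_zero ?_⟩
      rw [Nat.add_mod_mod]
      have h := Nat.mod_add_div k (q + 1)
      have h' := Nat.mod_lt k (show q + 1 > 0 by omega)
      rw [show k + (q + 1 - k % (q + 1)) = (q + 1) * (k / (q + 1) + 1) by rw [mul_add, mul_one]; omega,
        Nat.mul_mod_right]
    have hiff : ∀ j, q ^ 5 + 1 ∣ phi q * k + phi q * j ↔ q + 1 ∣ k + j := fun j => by
      rw [← mul_add, ← succ_mul_phi, mul_comm (q + 1), Nat.mul_dvd_mul_iff_left (phi_pos q)]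
    rw [Finset.sum_eq_single j0 (fun j hj hne => by
        rw [if_neg]
        intro h
        refine hne ?_
        rw [hiff] at h
        have e1 : (k + j) % (q + 1) = (k + j0) % (q + 1) := by rw [Nat.mod_eq_zero_of_dvd h, Nat.mod_eq_zero_of_dvd hj1]
        have e2 : j ≡ j0 [MOD q + 1] := Nat.ModEq.add_left_cancel' k e1
        exact Nat.ModEq.eq_of_lt_of_lt e2 (Finset.mem_range.1 hj) hj0)
      (fun h => absurd (Finset.mem_range.2 hj0) h), if_pos ((hiff j0).2 hj1), ← succ_mul_phi]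
    push_cast
    push_cast at hq1
    field_simp
  · rw [if_neg hl, Finset.sum_eq_zero fun j _ => ?_]
    · field_simp; ring
    · rw [if_neg]
      intro h
      exact hl ((Nat.dvd_add_left (dvd_mul_right _ j)).1 ((dvd_mul_left _ _).trans (succ_mul_phi q ▸ h)))

theorem Spec.finrank_zero (S : Spec W γ Γ l0 w₀ w₁) :
    finrank ℂ ↥(LinearMap.range (S.P w₀)) = phi q - 1 := by
  have hid := proj_idem (show 0 < q + 1 by omega) S.w₀_pow S.z_pow
  have h := LinearMap.IsProj.trace (p := LinearMap.range (S.P w₀)) (f := S.P w₀)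
    ⟨fun f => LinearMap.mem_range_self _ f, fun f hf => proj_apply_mem (by omega) S.w₀_pow S.z_pow hf⟩
  have h0 := S.trace_pow_P 0
  rw [pow_zero, Units.val_one, one_mul, h, if_pos (dvd_zero _), pow_zero, mul_one] at h0
  have : (((finrank ℂ ↥(LinearMap.range (S.P w₀))) + 1 : ℕ) : ℂ) = (phi q : ℂ) := by
    push_cast; rw [h0]; ring
  have := Nat.cast_injective this
  omega

theorem Spec.finrank_one (S : Spec W γ Γ l0 w₀ w₁) : finrank ℂ ↥(LinearMap.range (S.P w₁)) = phi q := by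
  have h := LinearMap.IsProj.trace (p := LinearMap.range (S.P w₁)) (f := S.P w₁)
    ⟨fun f => LinearMap.mem_range_self _ f, fun f hf => proj_apply_mem (by omega) S.w₁_pow S.z_pow hf⟩
  have hq1 : ((q + 1 : ℕ) : ℂ) ≠ 0 := by exact_mod_cast Nat.succ_ne_zero q
  have e : LinearMap.trace ℂ _ (S.P w₁) = (phi q : ℂ) := by
    have hgeom : ∑ j ∈ Finset.range (q + 1), (w₁ * l0 ^ phi q) ^ j = 0 := by
      rw [geom_sum_eq S.w₁_ne, mul_pow, S.w₁_pow, ← pow_mul, mul_comm (phi q), succ_mul_phi, S.root]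
      simp
    have hterm : ∀ j ∈ Finset.range (q + 1), LinearMap.trace ℂ _ (w₁ ^ j • (Γ ^ phi q).val ^ j) =
        (if j = 0 then ((q ^ 5 + 1 : ℕ) : ℂ) else 0) - (w₁ * l0 ^ phi q) ^ j := fun j hj => by
      rw [map_smul, ← Units.val_pow_eq_pow_val, ← pow_mul, S.trace, smul_eq_mul, mul_sub, mul_pow, ← pow_mul]
      congr 1
      by_cases h0 : j = 0
      · subst h0; simp
      · rw [if_neg h0, if_neg, mul_zero]
        rw [← succ_mul_phi, mul_comm (q + 1), Nat.mul_dvd_mul_iff_left (phi_pos q)]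
        exact Nat.not_dvd_of_pos_of_lt (Nat.pos_of_ne_zero h0) (Finset.mem_range.1 hj)
    rw [Spec.P, proj, map_smul, map_sum, Finset.sum_congr rfl hterm, Finset.sum_sub_distrib, hgeom, sub_zero,
      Finset.sum_ite_eq', if_pos (Finset.mem_range.2 (Nat.succ_pos q)), smul_eq_mul, ← succ_mul_phi, Nat.cast_mul,
      ← mul_assoc, inv_mul_cancel₀ hq1, one_mul]
  rw [h] at e
  exact_mod_cast e

theorem Gens.scalar_commute (G : Gens q K γ y) (g : G5) : g * γ ^ phi q = γ ^ phi q * g := by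
  obtain ⟨c, hc⟩ := (G.scalar _).2 dvd_rfl
  exact Units.ext (by rw [Units.val_mul, Units.val_mul, hc, Matrix.mul_smul, mul_one, Matrix.smul_mul, one_mul])

theorem Spec.commute_P (S : Spec W γ Γ l0 w₀ w₁) (H : Heis C W ψ) (G : Gens q K γ y) (D : Sing q K) {g : G5}
    {T : (Module.End ℂ (Fun5 C))ˣ} (hT : IsInter W g T) (w : ℂ) : Commute T.val (S.P w) := by
  refine proj_comm w ?_
  have htr : LinearMap.trace ℂ _ (Γ ^ phi q).val ≠ 0 := by
    have hl : l0 ^ phi q ≠ 0 := fun h => by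
      have := S.w₀_mul; rw [h, mul_zero] at this; exact zero_ne_one this
    rw [S.trace, if_neg, zero_sub, neg_ne_zero]
    · exact hl
    · intro h
      have h2 := Nat.le_of_dvd (phi_pos q) h
      rw [← succ_mul_phi] at h2
      have h3 : 3 * phi q ≤ (q + 1) * phi q := Nat.mul_le_mul_right _ (by have := D.two_le; omega)
      have := phi_pos q
      omega
  exact congrArg Units.val (H.inter_commute (G.scalar_commute g) hT (S.inter.pow _) htr)

end CfsgLib.Perm.Trans.UnitFive.Singer
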