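import Cfsg.Agent.Lib.Char.ExceptionalConst
import Cfsg.Agent.Lib.Char.AbelianTIBound

/-!
# The degree equation of a cyclic self-centralising subgroup of index five in its normaliser

The character induced from `1 - λ` has norm six and degree zero; this gives a linear relation with small
coefficients between the degrees.
-/

set_option autoImplicit false
set_option linter.all false

namespace CfsgLib.Perm.Trans.UnitFive.Singer

open scoped ComplexConjugate
open Cfsg CfsgLib.Char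

universe u

variable {G : Type u} [Group G] [Fintype G] (A : Subgroup G)

theorem conj_hom {H : Type*} [Group H] [Finite H] (f : H →* ℂˣ) (a : H) : conj (f a : ℂ) = (f a⁻¹ : ℂ) := by
  have h : ((f a : ℂ)) ^ orderOf a = 1 := by
    rw [← Units.val_pow_eq_pow_val, ← map_pow, pow_orderOf_eq_one, map_one, Units.val_one]
  rw [map_inv, Units.val_inv_eq_inv_val, Complex.inv_eq_conj (Complex.norm_eq_one_of_pow_eq_one h (orderOf_pos a).ne')]

/-- the function `1 - λ` -/
noncomputable def oneSub (lam : A →* ℂˣ) : A → ℂ := fun a => 1 - (lam a : ℂ)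

theorem classInner_oneSub [Fintype A] (g : A → ℂ) (lam : A →* ℂˣ) :
    classInner g (oneSub A lam) = classInner g (fun _ => 1) - classInner g (fun a => (lam a : ℂ)) := by
  simp only [classInner, oneSub, map_sub, map_one, mul_sub, Finset.sum_sub_distrib, mul_one]

theorem norm_induced [Fintype A] (hA : ∀ x ∈ A, x ≠ 1 → Subgroup.centralizer ({x} : Set G) = A)
    (hab : ∀ a ∈ A, ∀ b ∈ A, a * b = b * a)
    (lam : A →* ℂˣ) (hlam : Function.Injective lam) (hne : A ≠ ⊥) :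
    classInner (fun a : A => indFun A (oneSub A lam) a) (oneSub A lam) = (excIndex A : ℂ) + 1 := by
  classical
  obtain ⟨⟨z, hz⟩, hzne⟩ := A.ne_bot_iff_exists_ne_one.1 hne
  have hz1 : z ≠ 1 := fun h => hzne (Subtype.ext h)
  have hlam1 : ∀ f : A →* ℂˣ, ∑ a : A, (f a : ℂ) = if f = 1 then (Fintype.card A : ℂ) else 0 := fun f => by
    have h := sum_hom_units ((Units.coeHom ℂ).comp f)
    have e : (Units.coeHom ℂ).comp f = 1 ↔ f = 1 :=
      ⟨fun h => MonoidHom.ext fun a => Units.ext (DFunLike.congr_fun h a), fun h => by rw [h]; rfl⟩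
    rw [if_congr e rfl rfl] at h
    simpa using h
  have hlamne : lam ≠ 1 := fun h => hz1 (congrArg Subtype.val
    (hlam (show lam ⟨(z : G), hz⟩ = lam 1 by rw [h]; rfl)))
  let N : Subgroup G := Subgroup.normalizer (A : Set G)
  have key : ∀ x : G, ∑ a : A, extendByZero A (oneSub A lam) (x⁻¹ * a * x) * conj (oneSub A lam a) =
      (if x ∈ N then (Fintype.card A : ℂ) else 0) + (if x ∈ A then (Fintype.card A : ℂ) else 0) := by
    intro x
    by_cases hx : x ∈ N
    · have hm : ∀ a : A, x⁻¹ * a * x ∈ A := fun a => by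
        have := (Subgroup.mem_normalizer_iff.1 (N.inv_mem hx) (a : G)).1 a.2
        rwa [inv_inv] at this
      let μ : A →* ℂˣ :=
        { toFun := fun a => lam ⟨x⁻¹ * a * x, hm a⟩ * (lam a)⁻¹
          map_one' := by
            rw [show (⟨x⁻¹ * ((1 : A) : G) * x, hm 1⟩ : A) = 1 from Subtype.ext (by simp)]
            simp
          map_mul' := fun a b => by
            rw [show (⟨x⁻¹ * (a * b : A) * x, hm _⟩ : A) = ⟨x⁻¹ * a * x, hm a⟩ * ⟨x⁻¹ * b * x, hm b⟩ from
              Subtype.ext (by simp [mul_assoc]), map_mul, map_mul, mul_inv, mul_mul_mul_comm] }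
      let ν : A →* ℂˣ :=
        { toFun := fun a => lam ⟨x⁻¹ * a * x, hm a⟩
          map_one' := by
            rw [show (⟨x⁻¹ * ((1 : A) : G) * x, hm 1⟩ : A) = 1 from Subtype.ext (by simp)]
            simp
          map_mul' := fun a b => by
            rw [show (⟨x⁻¹ * (a * b : A) * x, hm _⟩ : A) = ⟨x⁻¹ * a * x, hm a⟩ * ⟨x⁻¹ * b * x, hm b⟩ from
              Subtype.ext (by simp [mul_assoc]), map_mul] }
      have hterm : ∀ a : A, extendByZero A (oneSub A lam) (x⁻¹ * a * x) * conj (oneSub A lam a) =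
          1 - (ν a : ℂ) - ((lam⁻¹ : A →* ℂˣ) a : ℂ) + (μ a : ℂ) := fun a => by
        rw [extendByZero_mem A _ (hm a)]
        simp only [oneSub, map_sub, map_one, conj_hom, MonoidHom.inv_apply, ν, μ, MonoidHom.coe_mk, OneHom.coe_mk,
          map_inv, Units.val_mul]
        ring
      have hν : ν ≠ 1 := fun h => by
        have hm' : x * z * x⁻¹ ∈ A := (Subgroup.mem_normalizer_iff.1 hx _).1 hz
        have h2 := DFunLike.congr_fun h ⟨_, hm'⟩
        rw [MonoidHom.one_apply, ← map_one lam] at h2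
        have h3 := congrArg Subtype.val (hlam h2)
        simp only [mul_assoc, inv_mul_cancel_left, inv_mul_cancel, mul_one, OneMemClass.coe_one] at h3
        exact hz1 h3
      have hμ : μ = 1 ↔ x ∈ A := by
        constructor
        · intro h
          have h2 := DFunLike.congr_fun h ⟨(z : G), hz⟩
          rw [MonoidHom.one_apply] at h2
          have h3 := congrArg Subtype.val (hlam (mul_inv_eq_one.1 h2))
          rw [← hA _ hz hz1, Subgroup.mem_centralizer_singleton_iff]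
          calc x * z = x * (x⁻¹ * z * x) := congrArg (x * ·) h3.symm
            _ = z * x := by group
        · intro h
          refine MonoidHom.ext fun a => ?_
          show lam ⟨x⁻¹ * a * x, hm a⟩ * (lam a)⁻¹ = 1
          rw [show (⟨x⁻¹ * a * x, hm a⟩ : A) = a from Subtype.ext (by
            show x⁻¹ * (a : G) * x = a
            rw [mul_assoc, hab _ a.2 _ h, inv_mul_cancel_left]), mul_inv_cancel]
      rw [Finset.sum_congr rfl fun a _ => hterm a, Finset.sum_add_distrib, Finset.sum_sub_distrib,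
        Finset.sum_sub_distrib, hlam1, hlam1, hlam1, if_neg hν, if_neg (fun h : lam⁻¹ = 1 => hlamne (MonoidHom.ext fun a => inv_eq_one.1 (DFunLike.congr_fun h a))), if_pos hx,
        if_congr hμ rfl rfl]
      simp
    · rw [if_neg hx, if_neg (fun h => hx (Subgroup.le_normalizer h)), add_zero]
      refine Finset.sum_eq_zero fun a _ => ?_
      by_cases ha : a = 1
      · simp [oneSub, ha]
      · rw [extendByZero_not_mem A _ fun hm => ha (Subtype.ext (ca_ti A hA x⁻¹
          (fun h => hx (N.inv_mem_iff.1 h)) (a : G) a.2 (by rwa [inv_inv]))), zero_mul]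
  have hN : ∀ (H : Subgroup G), (∑ x : G, if x ∈ H then (Fintype.card A : ℂ) else 0) =
      (Nat.card H : ℂ) * (Fintype.card A : ℂ) := fun H => by
    rw [← Finset.sum_filter, Finset.sum_const, nsmul_eq_mul, show Nat.card H = (Finset.univ.filter fun x => x ∈ H).card from by
      rw [Nat.card_eq_fintype_card]; exact Fintype.card_of_subtype _ (fun x => by simp)]
  simp only [classInner, indFun]
  rw [Finset.sum_congr rfl fun a _ => mul_assoc _ _ _, ← Finset.mul_sum]
  rw [Finset.sum_congr rfl fun a _ => Finset.sum_mul .., Finset.sum_comm, Finset.sum_congr rfl fun x _ => key x,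
    Finset.sum_add_distrib, hN, hN]
  have hcard : (Nat.card N : ℂ) = (excIndex A : ℂ) * (Nat.card A : ℂ) := by
    rw [← Nat.cast_mul, ← Nat.card_congr (Subgroup.subgroupOfEquivOfLe (Subgroup.le_normalizer (H := A))).toEquiv,
      Subgroup.index_mul_card]
  rw [hcard, Nat.card_eq_fintype_card]
  have : (Fintype.card A : ℂ) ≠ 0 := Nat.cast_ne_zero.2 Fintype.card_ne_zero
  field_simp

/-- a signed degree of a nontrivial irreducible character -/
def IsSignedDegree (G : Type u) [Group G] (t : ℤ) : Prop :=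
  ∃ (ψ : IrrCharacter G) (d : ℕ), (ψ : G → ℂ) 1 = d ∧ (ψ : G → ℂ) ≠ (fun _ => 1) ∧ (t = d ∨ t = -(d : ℤ))

theorem degree_equation [Fintype A] (hA : ∀ x ∈ A, x ≠ 1 → Subgroup.centralizer ({x} : Set G) = A)
    (hab : ∀ a ∈ A, ∀ b ∈ A, a * b = b * a) (he : excIndex A = 5) (hcard : 41 ≤ Nat.card A)
    (lam : A →* ℂˣ) (hlam : Function.Injective lam) :
    ∃ te : ℤ, IsSignedDegree G te ∧ (Nat.card A : ℤ) ∣ te + 5 ∧
      ((∃ l : List ℤ, l.length = 4 ∧ (∀ t ∈ l, IsSignedDegree G t ∧ (Nat.card A : ℤ) ∣ t - 1) ∧ 1 + te + l.sum = 0) ∨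
        ∃ t, IsSignedDegree G t ∧ (Nat.card A : ℤ) ∣ t - 2 ∧ 1 + te + 2 * t = 0) := by
  classical
  have hne : A ≠ ⊥ := fun h => by rw [h, Subgroup.card_bot] at hcard; omega
  haveI : Nontrivial A := (Subgroup.nontrivial_iff_ne_bot A).2 hne
  haveI := Fintype.ofFinite (IrrCharacter G)
  haveI := Fintype.ofFinite (Exc A)
  obtain ⟨D⟩ := nonempty_excData A hA hab
  have hr : Fintype.card (Exc A) * 5 = Nat.card A - 1 := by rw [← he, ← card_exc A hA hab, Nat.card_eq_fintype_card]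
  have hr8 : 8 ≤ Fintype.card (Exc A) := by omega
  haveI : Nontrivial (Exc A) := Fintype.one_lt_card_iff_nontrivial.1 (by omega)
  have hψA : ∀ ψ : IrrCharacter G, IsCharacter A (fun a : A => (ψ : G → ℂ) a) :=
    fun ψ => isCharacter_comp (isCharacter_irr ψ) A.subtype
  have honeA : IsCharacter A (fun _ : A => (1 : ℂ)) := isCharacter_of_isIrr isIrrCharacter_one
  have hlamA : IsCharacter A (fun a : A => (lam a : ℂ)) := isCharacter_of_isIrr (isIrrCharacter_lin lam)
  choose d hd using fun ψ : IrrCharacter G => isCharacter_degree (isCharacter_irr ψ)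
  choose m₀ hm₀ using fun ψ : IrrCharacter G => classInner_isCharacter (hψA ψ) honeA
  choose m₁ hm₁ using fun ψ : IrrCharacter G => classInner_isCharacter (hψA ψ) hlamA
  obtain ⟨a, ha⟩ : ∃ a : IrrCharacter G → ℤ, ∀ ψ, a ψ = (m₀ ψ : ℤ) - m₁ ψ := ⟨_, fun _ => rfl⟩
  obtain ⟨f, hf⟩ : ∃ f, f = indFun A (oneSub A lam) := ⟨_, rfl⟩
  have hfcl : IsClassFunction G f := hf ▸ isClassFunction_indFun A _
  have hcoef : ∀ ψ : IrrCharacter G, classInner f (ψ : G → ℂ) = (a ψ : ℂ) := fun ψ => by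
    rw [← classInner_conj, hf, classInner_indFun_right A _ _ (isClassFunction_irr ψ), classInner_oneSub, hm₀, hm₁, ha]
    simp
  have hsum0 : ∑ ψ : IrrCharacter G, a ψ * (d ψ : ℤ) = 0 := by
    have h := congrFun (classFun_expand hfcl) 1
    rw [hf, indFun_one, ← hf] at h
    simp only [oneSub, map_one, Units.val_one, sub_self, mul_zero, Finset.sum_apply, Pi.smul_apply, smul_eq_mul,
      hcoef, hd] at h
    exact_mod_cast h.symm
  have hsq : ∑ ψ : IrrCharacter G, a ψ * a ψ = 6 := by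
    have h := classInner_expand (f := f) hfcl
    simp only [hcoef, map_intCast] at h
    have h2 : classInner f f = (6 : ℂ) := by
      have e := classInner_indFun_right A (oneSub A lam) f hfcl
      rw [← hf] at e
      rw [e]
      have e2 := norm_induced A hA hab lam hlam hne
      rw [← hf] at e2
      rw [e2, he]; norm_num
    rw [h2] at h
    exact_mod_cast h.symm
  -- values on the subgroup
  let k : A → ↥(Subgroup.normalizer (A : Set G)) := fun x => ⟨(x : G), Subgroup.le_normalizer x.2⟩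
  have hk1 : ∀ x : A, x ≠ 1 → k x ≠ 1 := fun x hx h =>
    hx (Subtype.ext (congrArg (fun z : ↥(Subgroup.normalizer (A : Set G)) => (z : G)) h))
  let kh : A →* ↥(Subgroup.normalizer (A : Set G)) := Subgroup.inclusion Subgroup.le_normalizer
  have hχA : ∀ χ : Exc A, IsCharacter A (fun x : A => (χ.1 : ↥(Subgroup.normalizer (A : Set G)) → ℂ) (k x)) :=
    fun χ => isCharacter_comp (isCharacter_irr χ.1) kh
  choose n₀ hn₀ using fun χ : Exc A => classInner_isCharacter (hχA χ) honeA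
  choose n₁ hn₁ using fun χ : Exc A => classInner_isCharacter (hχA χ) hlamA
  have hlamsum : ∑ x : A, conj (lam x : ℂ) = 0 := by
    simp only [conj_hom]
    rw [Fintype.sum_equiv (Equiv.inv A) (fun x => (lam x⁻¹ : ℂ)) (fun x => (lam x : ℂ)) fun x => rfl]
    have h := sum_hom_units ((Units.coeHom ℂ).comp lam)
    rw [if_neg fun h' => by
      obtain ⟨z, hz⟩ := exists_ne (1 : A)
      exact hz (hlam (Units.ext (by simpa using DFunLike.congr_fun h' z)))] at h
    simpa using h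
  have hinner1 : ∀ (g : A → ℂ) (c : ℂ), (∀ x : A, x ≠ 1 → g x = c) →
      classInner g (fun _ => 1) = (Nat.card A : ℂ)⁻¹ * (g 1 - c) + c ∧
      classInner g (fun x => (lam x : ℂ)) = (Nat.card A : ℂ)⁻¹ * (g 1 - c) := by
    intro g c hg
    have hn : (Nat.card A : ℂ) ≠ 0 := Nat.cast_ne_zero.2 Nat.card_pos.ne'
    have e : ∀ x : A, g x = c + if x = 1 then g 1 - c else 0 := fun x => by
      by_cases hx : x = 1
      · rw [if_pos hx, hx]; ring
      · rw [if_neg hx, hg x hx, add_zero]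
    constructor
    · simp only [classInner, map_one, mul_one]
      rw [Finset.sum_congr rfl fun x _ => e x, Finset.sum_add_distrib, Finset.sum_const, Finset.sum_ite_eq',
        if_pos (Finset.mem_univ _), Finset.card_univ, ← Nat.card_eq_fintype_card, nsmul_eq_mul]
      field_simp
      ring
    · simp only [classInner]
      rw [Finset.sum_congr rfl fun x _ => by rw [e x, add_mul], Finset.sum_add_distrib, ← Finset.mul_sum, hlamsum,
        mul_zero, zero_add]
      simp [ite_mul]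
  have hn₀sum : ∑ χ : Exc A, n₀ χ = 0 ∧ ∑ χ : Exc A, n₁ χ = 1 := by
    have hall : ∀ x : A, x ≠ 1 → ∑ χ : Exc A, (χ.1 : ↥(Subgroup.normalizer (A : Set G)) → ℂ) (k x) = -1 :=
      fun x hx => (sum_exc_column A hA hab (k := k x) x.2 (hk1 x hx)).1
    have h1 : ∑ χ : Exc A, (χ.1 : ↥(Subgroup.normalizer (A : Set G)) → ℂ) (k 1) = (Nat.card A : ℂ) - 1 := by
      rw [show k 1 = 1 from rfl, Finset.sum_congr rfl fun χ _ => show _ = (excIndex A : ℂ) from exc_degree A hA hab χ, Finset.sum_const,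
        Finset.card_univ, nsmul_eq_mul, he, ← Nat.cast_mul, hr, Nat.cast_sub (by omega), Nat.cast_one]
    obtain ⟨e0, e1⟩ := hinner1 (fun x => ∑ χ : Exc A, (χ.1 : ↥(Subgroup.normalizer (A : Set G)) → ℂ) (k x)) (-1) hall
    rw [h1, show (fun x => ∑ χ : Exc A, (χ.1 : ↥(Subgroup.normalizer (A : Set G)) → ℂ) (k x)) =
        ∑ χ : Exc A, fun x => (χ.1 : ↥(Subgroup.normalizer (A : Set G)) → ℂ) (k x) from
      funext fun x => (Finset.sum_apply x Finset.univ fun (χ : Exc A) (x : A) =>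
        (χ.1 : ↥(Subgroup.normalizer (A : Set G)) → ℂ) (k x)).symm] at e0 e1
    rw [classInner_sum_left, Finset.sum_congr rfl fun χ _ => hn₀ χ] at e0
    rw [classInner_sum_left, Finset.sum_congr rfl fun χ _ => hn₁ χ] at e1
    have hn : (Nat.card A : ℂ) ≠ 0 := Nat.cast_ne_zero.2 Nat.card_pos.ne'
    rw [sub_neg_eq_add, sub_add_cancel, inv_mul_cancel₀ hn] at e0 e1
    constructor
    · rw [add_neg_cancel] at e0; exact_mod_cast e0
    · exact_mod_cast e1
  -- nonexceptional characters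
  have hA0 : (Nat.card A : ℂ) ≠ 0 := Nat.cast_ne_zero.2 Nat.card_pos.ne'
  have hnonexc : ∀ ψ, (∀ χ : Exc A, D.θ χ ≠ ψ) → (Nat.card A : ℤ) ∣ (d ψ : ℤ) - a ψ := fun ψ hψ => by
    obtain ⟨c, hc⟩ := exists_const_value A hA hab D ψ
    obtain ⟨e0, e1⟩ := hinner1 (fun x => (ψ : G → ℂ) x) c fun x hx => (hc (k x) x.2 (hk1 x hx)).2 hψ
    rw [hm₀] at e0
    rw [hm₁] at e1
    simp only [OneMemClass.coe_one, hd] at e0 e1
    refine ⟨(m₁ ψ : ℤ), ?_⟩
    have h1 : (a ψ : ℂ) = c := by rw [ha]; push_cast; linear_combination e0 - e1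
    have h2 : ((d ψ : ℤ) : ℂ) - (a ψ : ℂ) = (Nat.card A : ℂ) * (m₁ ψ : ℂ) := by
      rw [h1, e1]; push_cast; field_simp
    exact_mod_cast h2
  -- exceptional characters
  have hexc : ∀ χ : Exc A, ∃ c : ℤ, a (D.θ χ) = c - D.ε * n₁ χ ∧
      (Nat.card A : ℤ) ∣ (d (D.θ χ) : ℤ) - c - D.ε * 5 := fun χ => by
    obtain ⟨c, hc⟩ := exists_const_value A hA hab D (D.θ χ)
    refine ⟨c, ?_⟩
    obtain ⟨e0, e1⟩ := hinner1 (fun x => (D.θ χ : G → ℂ) x -
      (D.ε : ℂ) * (χ.1 : ↥(Subgroup.normalizer (A : Set G)) → ℂ) (k x)) c fun x hx => by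
        rw [(hc (k x) x.2 (hk1 x hx)).1 χ rfl]; ring
    have hsplit : (fun x : A => (D.θ χ : G → ℂ) x -
        (D.ε : ℂ) * (χ.1 : ↥(Subgroup.normalizer (A : Set G)) → ℂ) (k x)) = (fun x : A => (D.θ χ : G → ℂ) x) -
        (D.ε : ℂ) • fun x : A => (χ.1 : ↥(Subgroup.normalizer (A : Set G)) → ℂ) (k x) := rfl
    have hz : (n₀ χ : ℕ) = 0 := Finset.sum_eq_zero_iff.1 hn₀sum.1 χ (Finset.mem_univ _)
    rw [hsplit, classInner_sub_left, classInner_smul_left, hm₀, hn₀, hz] at e0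
    rw [hsplit, classInner_sub_left, classInner_smul_left, hm₁, hn₁] at e1
    simp only [Pi.sub_apply, Pi.smul_apply, smul_eq_mul, OneMemClass.coe_one, hd,
      show k 1 = 1 from rfl, exc_degree A hA hab χ, he] at e0 e1
    refine ⟨?_, (m₁ (D.θ χ) : ℤ) - D.ε * n₁ χ, ?_⟩
    · have : (a (D.θ χ) : ℂ) = (c : ℂ) - (D.ε : ℂ) * (n₁ χ : ℂ) := by
        rw [ha]; push_cast; push_cast at e0 e1; linear_combination e0 - e1
      exact_mod_cast this
    · have : ((d (D.θ χ) : ℤ) : ℂ) - (c : ℂ) - (D.ε : ℂ) * 5 =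
          (Nat.card A : ℂ) * ((m₁ (D.θ χ) : ℂ) - (D.ε : ℂ) * (n₁ χ : ℂ)) := by
        rw [e1]; push_cast; field_simp; ring
      exact_mod_cast this
  choose c hca hcd using hexc
  let one : IrrCharacter G := ⟨fun _ => 1, isIrrCharacter_one⟩
  have hexc1 : ∀ χ : Exc A, D.θ χ ≠ one := fun χ h => exc_not_one A hA hab D χ (congrArg Subtype.val h)
  have ha1 : a one = 1 := by
    obtain ⟨e0, e1⟩ := hinner1 (fun x => (one : G → ℂ) x) 1 fun x _ => rfl
    rw [hm₀] at e0
    rw [hm₁] at e1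
    rw [sub_self, mul_zero] at e1
    rw [sub_self, mul_zero, zero_add] at e0
    have : (a one : ℂ) = 1 := by rw [ha]; push_cast; rw [e0, e1, sub_zero]
    exact_mod_cast this
  have hd1 : d one = 1 := by
    have h : (1 : ℂ) = d one := hd one
    exact_mod_cast h.symm
  obtain ⟨E, hE⟩ : ∃ E : Finset (IrrCharacter G), E = Finset.univ.image D.θ := ⟨_, rfl⟩
  have h1E : one ∉ E := by simp [hE, hexc1]
  have hsum3 : ∀ g : IrrCharacter G → ℤ, ∑ ψ : IrrCharacter G, g ψ =
      g one + ∑ χ : Exc A, g (D.θ χ) + ∑ ψ ∈ (Finset.univ.erase one) \ E, g ψ := fun g => by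
    rw [← Finset.add_sum_erase _ _ (Finset.mem_univ one), ← Finset.sum_sdiff (s₁ := E) (s₂ := Finset.univ.erase one)
      (fun ψ hψ => Finset.mem_erase.2 ⟨fun h => h1E (h ▸ hψ), Finset.mem_univ _⟩), hE,
      Finset.sum_image (fun x _ y _ h => D.inj h)]
    ring
  have hsq' := hsq
  rw [hsum3, ha1] at hsq'
  have hEle : ∑ χ : Exc A, a (D.θ χ) * a (D.θ χ) ≤ 5 := by
    have : (0 : ℤ) ≤ ∑ ψ ∈ (Finset.univ.erase one) \ E, a ψ * a ψ := Finset.sum_nonneg fun ψ _ => mul_self_nonneg _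
    omega
  have habs : ∀ χ : Exc A, -3 ≤ c χ ∧ c χ ≤ 3 := fun χ => by
    have h1 : a (D.θ χ) * a (D.θ χ) ≤ 5 :=
      (Finset.single_le_sum (f := fun χ => a (D.θ χ) * a (D.θ χ)) (fun _ _ => mul_self_nonneg _)
        (Finset.mem_univ χ)).trans hEle
    have h2 : -2 ≤ a (D.θ χ) ∧ a (D.θ χ) ≤ 2 := ⟨by nlinarith, by nlinarith⟩
    have h3 : (n₁ χ : ℤ) ≤ 1 := by
      have := Finset.single_le_sum (f := n₁) (fun _ _ => Nat.zero_le _) (Finset.mem_univ χ)
      omega
    have h4 := hca χ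
    rcases D.sign with hs | hs <;> rw [hs] at h4 <;> constructor <;> omega
  have hdeq : ∀ χ ξ : Exc A, d (D.θ χ) = d (D.θ ξ) := fun χ ξ => by
    have h := congrFun (D.ind χ ξ) 1
    rw [indFun_one, Pi.sub_apply, exc_degree A hA hab, exc_degree A hA hab, sub_self, mul_zero, Pi.smul_apply,
      Pi.sub_apply, hd, hd, smul_eq_mul] at h
    rcases mul_eq_zero.1 h.symm with h | h
    · rcases D.sign with hs | hs <;> rw [hs] at h <;> simp at h
    · exact_mod_cast sub_eq_zero.1 h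
  obtain ⟨χ₀, hχ₀⟩ : ∃ χ₀ : Exc A, n₁ χ₀ ≠ 0 := by
    by_contra hcon
    push Not at hcon
    simp [hcon] at hn₀sum
  have hceq : ∀ χ : Exc A, c χ = c χ₀ := fun χ => by
    obtain ⟨h1, h2⟩ := habs χ
    obtain ⟨h3, h4⟩ := habs χ₀
    have h5 := dvd_sub (hcd χ₀) (hcd χ)
    rw [hdeq χ₀ χ] at h5
    have h6 : (Nat.card A : ℤ) ∣ c χ - c χ₀ := by
      rwa [show ((d (D.θ χ) : ℤ) - c χ₀ - D.ε * 5) - ((d (D.θ χ) : ℤ) - c χ - D.ε * 5) = c χ - c χ₀ by ring] at h5
    have := Int.eq_zero_of_dvd_of_natAbs_lt_natAbs h6 (by omega)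
    omega
  have hn1 : n₁ χ₀ = 1 ∧ ∀ χ, χ ≠ χ₀ → n₁ χ = 0 := by
    have h := hn₀sum.2
    rw [← Finset.add_sum_erase _ _ (Finset.mem_univ χ₀)] at h
    have h0 : ∑ χ ∈ Finset.univ.erase χ₀, n₁ χ = 0 := by omega
    exact ⟨by omega, fun χ hχ => Finset.sum_eq_zero_iff.1 h0 χ (Finset.mem_erase.2 ⟨hχ, Finset.mem_univ _⟩)⟩
  have hc0 : c χ₀ = 0 := by
    by_contra hne0
    have h1 : ∀ χ ∈ Finset.univ.erase χ₀, (1 : ℤ) ≤ a (D.θ χ) * a (D.θ χ) := fun χ hχ => by
      rw [hca χ, hn1.2 χ (Finset.mem_erase.1 hχ).1, hceq χ]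
      have : 0 < c χ₀ * c χ₀ := mul_self_pos.2 hne0
      simp
      omega
    have h2 := (Finset.sum_le_sum h1).trans (Finset.sum_le_sum_of_subset_of_nonneg (Finset.subset_univ _)
      fun χ _ _ => mul_self_nonneg (a (D.θ χ)))
    rw [Finset.sum_const, Finset.card_erase_of_mem (Finset.mem_univ _), Finset.card_univ, nsmul_one] at h2
    omega
  have haE : ∀ χ, a (D.θ χ) = if χ = χ₀ then -D.ε else 0 := fun χ => by
    rw [hca χ, hceq χ, hc0]
    by_cases h : χ = χ₀
    · rw [if_pos h, h, hn1.1]; simp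
    · rw [if_neg h, hn1.2 χ h]; simp
  have hε : D.ε * D.ε = 1 := by rcases D.sign with h | h <;> rw [h] <;> norm_num
  have hsd : ∀ ψ : IrrCharacter G, ψ ≠ one → (a ψ = 1 ∨ a ψ = -1) → IsSignedDegree G (a ψ * d ψ) :=
    fun ψ hψ h => ⟨ψ, d ψ, hd ψ, fun e => hψ (Subtype.ext e), by rcases h with h | h <;> rw [h] <;> simp⟩
  have haχ₀ : a (D.θ χ₀) = -D.ε := by rw [haE, if_pos rfl]
  refine ⟨a (D.θ χ₀) * d (D.θ χ₀), hsd _ (hexc1 _) (by rcases D.sign with h | h <;> simp [haχ₀, h]), ?_, ?_⟩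
  · have h := hcd χ₀
    rw [hc0, sub_zero] at h
    rw [haχ₀, show -D.ε * (d (D.θ χ₀) : ℤ) + 5 = -D.ε * ((d (D.θ χ₀) : ℤ) - D.ε * 5) by
      linear_combination (-5 : ℤ) * hε]
    exact dvd_mul_of_dvd_right h _
  obtain ⟨R, hR⟩ : ∃ R : Finset (IrrCharacter G), R = ((Finset.univ.erase one) \ E).filter fun ψ => a ψ ≠ 0 :=
    ⟨_, rfl⟩
  have hRg : ∀ g : IrrCharacter G → ℤ,
      ∑ ψ ∈ (Finset.univ.erase one) \ E, a ψ * g ψ = ∑ ψ ∈ R, a ψ * g ψ := fun g => by
    rw [hR, Finset.sum_filter]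
    exact Finset.sum_congr rfl fun ψ _ => by split_ifs with h <;> simp_all
  have hR4 : ∑ ψ ∈ R, a ψ * a ψ = 4 := by
    have h : ∑ χ : Exc A, a (D.θ χ) * a (D.θ χ) = 1 := by
      simp [haE, hε]
    rw [h, hRg] at hsq'
    omega
  have hR0 : a (D.θ χ₀) * d (D.θ χ₀) + ∑ ψ ∈ R, a ψ * (d ψ : ℤ) = -1 := by
    have h := hsum0
    rw [hsum3, ha1, hd1, hRg] at h
    have h' : ∑ χ : Exc A, a (D.θ χ) * (d (D.θ χ) : ℤ) = a (D.θ χ₀) * d (D.θ χ₀) := by
      rw [Finset.sum_eq_single χ₀ (fun χ _ hχ => by rw [haE, if_neg hχ, zero_mul])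
        fun h => absurd (Finset.mem_univ _) h]
    rw [h'] at h
    push_cast at h
    linarith
  have hmem : ∀ ψ ∈ R, ψ ≠ one ∧ a ψ ≠ 0 ∧ (Nat.card A : ℤ) ∣ (d ψ : ℤ) - a ψ ∧ -2 ≤ a ψ ∧ a ψ ≤ 2 := fun ψ hψ => by
    have h4 : a ψ * a ψ ≤ 4 := hR4 ▸ Finset.single_le_sum (f := fun ψ => a ψ * a ψ) (fun _ _ => mul_self_nonneg _) hψ
    rw [hR, Finset.mem_filter, Finset.mem_sdiff, Finset.mem_erase] at hψ
    refine ⟨hψ.1.1.1, hψ.2, hnonexc ψ fun χ h => hψ.1.2 (hE ▸ Finset.mem_image.2 ⟨χ, Finset.mem_univ _, h⟩),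
      by nlinarith, by nlinarith⟩
  by_cases htwo : ∃ ψ ∈ R, a ψ * a ψ = 4
  · obtain ⟨ψ, hψR, hψ4⟩ := htwo
    obtain ⟨h1, -, hdv, hl, hu⟩ := hmem ψ hψR
    have hsingle : R = {ψ} := by
      refine Finset.eq_singleton_iff_unique_mem.2 ⟨hψR, fun φ hφ => ?_⟩
      by_contra hne
      have h := hR4
      rw [← Finset.add_sum_erase _ _ hψR, hψ4] at h
      have h2 := Finset.single_le_sum (f := fun x => a x * a x) (fun _ _ => mul_self_nonneg _)
        (Finset.mem_erase.2 ⟨hne, hφ⟩)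
      have := mul_self_pos.2 (hmem φ hφ).2.1
      omega
    rw [hsingle, Finset.sum_singleton] at hR0
    rcases mul_self_eq_mul_self_iff.1 (show a ψ * a ψ = 2 * 2 by rw [hψ4]; norm_num) with h | h
    · refine Or.inr ⟨d ψ, ⟨ψ, d ψ, hd ψ, fun e => h1 (Subtype.ext e), Or.inl rfl⟩, h ▸ hdv, ?_⟩
      rw [h] at hR0; linarith
    · refine Or.inr ⟨-(d ψ : ℤ), ⟨ψ, d ψ, hd ψ, fun e => h1 (Subtype.ext e), Or.inr rfl⟩, ?_, ?_⟩
      · rw [show -(d ψ : ℤ) - 2 = -((d ψ : ℤ) - (-2)) by ring, dvd_neg, ← h]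
        exact hdv
      · rw [h] at hR0; linarith
  · push Not at htwo
    have hunit : ∀ ψ ∈ R, a ψ = 1 ∨ a ψ = -1 := fun ψ hψ => by
      obtain ⟨-, h0, -, hl, hu⟩ := hmem ψ hψ
      have := htwo ψ hψ
      obtain h | h | h | h | h : a ψ = -2 ∨ a ψ = -1 ∨ a ψ = 0 ∨ a ψ = 1 ∨ a ψ = 2 := by omega
      all_goals first
        | exact Or.inl h
        | exact Or.inr h
        | exact absurd h h0
        | (rw [h] at this; norm_num at this)
    refine Or.inl ⟨R.toList.map fun ψ => a ψ * d ψ, ?_, fun t ht => ?_, ?_⟩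
    · rw [List.length_map, Finset.length_toList]
      have h := hR4
      rw [Finset.sum_congr rfl (g := fun _ => (1 : ℤ)) fun ψ hψ => by
        rcases hunit ψ hψ with h | h <;> rw [h] <;> norm_num, Finset.sum_const, nsmul_one] at h
      exact_mod_cast h
    · obtain ⟨ψ, hψ, rfl⟩ := List.mem_map.1 ht
      rw [Finset.mem_toList] at hψ
      refine ⟨hsd ψ (hmem ψ hψ).1 (hunit ψ hψ), ?_⟩
      have hu : a ψ * a ψ = 1 := by rcases hunit ψ hψ with h | h <;> rw [h] <;> norm_num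
      rw [show a ψ * (d ψ : ℤ) - 1 = a ψ * ((d ψ : ℤ) - a ψ) by rw [mul_sub, hu]]
      exact dvd_mul_of_dvd_right (hmem ψ hψ).2.2.1 _
    · rw [Finset.sum_map_toList R]
      linarith

end CfsgLib.Perm.Trans.UnitFive.Singer
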