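import Cfsg.Agent.Lib.Perm.Trans.SingerNorm.Field
import Cfsg.Agent.Lib.Perm.Trans.UnitSU
import Cfsg.Agent.Lib.Perm.Asch.Forms.Commutative

/-!
# The Singer group of a unitary group of dimension five and its normaliser

The isometries inside a field subalgebra of degree five closed under adjoints form a cyclic group of order `q⁵ + 1`,
and an element of the special unitary group acts on it as the power `q²`.
-/

set_option autoImplicit false
set_option linter.all false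

namespace CfsgLib.Perm.Trans.UnitFive.Singer

open scoped Matrix
open Matrix Cfsg Cfsg.Geo CfsgLib.Perm.Asch CfsgLib.Perm.Trans

/-- the order of the Singer group -/
def phi (q : ℕ) : ℕ := q ^ 4 + q ^ 2 + 1 - (q ^ 3 + q)

/-- the order of the group of scalars -/
def dd (q : ℕ) : ℕ := Nat.gcd 5 (q + 1)

/-- the order of the Singer group modulo scalars -/
def np (q : ℕ) : ℕ := phi q / dd q

theorem phi_add (q : ℕ) : phi q + (q ^ 3 + q) = q ^ 4 + q ^ 2 + 1 := by
  refine Nat.sub_add_cancel ?_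
  rcases q with _ | q
  · simp
  · have h3 : (q + 1) ^ 3 ≤ (q + 1) ^ 4 := Nat.pow_le_pow_right (by omega) (by norm_num)
    have h1 : q + 1 ≤ (q + 1) ^ 2 := Nat.le_self_pow two_ne_zero _
    omega

theorem succ_mul_phi (q : ℕ) : (q + 1) * phi q = q ^ 5 + 1 := by
  have h := phi_add q
  zify at h ⊢
  linear_combination ((q : ℤ) + 1) * h

theorem phi_mul_psi (q : ℕ) :
    phi q * ((q + 1) * (q ^ 3 + q) + 1) = q ^ 8 + q ^ 6 + q ^ 4 + q ^ 2 + 1 := by
  have h := phi_add q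
  zify at h ⊢
  linear_combination (((q : ℤ) + 1) * ((q : ℤ) ^ 3 + q) + 1) * h

theorem phi_pos (q : ℕ) : 0 < phi q := Nat.pos_of_ne_zero fun h => by
  have := succ_mul_phi q
  rw [h, mul_zero] at this
  omega

theorem gcd_phi (q : ℕ) : Nat.gcd (phi q) (q + 1) = dd q := by
  have h : phi q + (q + 1) * (2 * q ^ 2 + 4) = (q + 1) * (q ^ 3 + 3 * q) + 5 := by
    have := phi_add q
    zify at this ⊢
    linear_combination this
  have h' := congrArg (fun x => Nat.gcd x (q + 1)) h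
  simp only [Nat.gcd_add_mul_left_left, Nat.gcd_mul_left_add_left] at h'
  exact h'

theorem dd_dvd (q : ℕ) : dd q ∣ phi q := gcd_phi q ▸ Nat.gcd_dvd_left _ _

theorem dd_cases (q : ℕ) : dd q = 1 ∨ dd q = 5 :=
  (Nat.dvd_prime (by norm_num)).1 (Nat.gcd_dvd_left 5 (q + 1))

theorem dd_pos (q : ℕ) : 0 < dd q := Nat.gcd_pos_of_pos_left _ (by norm_num)

theorem np_mul (q : ℕ) : np q * dd q = phi q := Nat.div_mul_cancel (dd_dvd q)

theorem np_pos (q : ℕ) : 0 < np q := Nat.pos_of_ne_zero fun h => (phi_pos q).ne' (by rw [← np_mul, h, zero_mul])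

theorem np_coprime (q : ℕ) : Nat.Coprime (np q) 120 := by
  have key : ∀ r : ℕ, r < 150 → (r ^ 4 + r ^ 2 + 1 + 149 * (r ^ 3 + r)) % 150 / Nat.gcd 5 (r + 1) % 30 ∈
      [1, 7, 11, 13, 17, 19, 23, 29] := by decide +kernel
  have h1 : phi q % 150 = ((q % 150) ^ 4 + (q % 150) ^ 2 + 1 + 149 * ((q % 150) ^ 3 + q % 150)) % 150 := by
    have e : (phi q : ZMod 150) = (((q % 150) ^ 4 + (q % 150) ^ 2 + 1 + 149 * ((q % 150) ^ 3 + q % 150) : ℕ) : ZMod 150) := by
      have h := congrArg (Nat.cast : ℕ → ZMod 150) (phi_add q)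
      push_cast at h ⊢
      rw [ZMod.natCast_mod, show (149 : ZMod 150) = -1 from rfl]
      linear_combination h
    rw [ZMod.natCast_eq_natCast_iff'] at e
    exact e
  have h2 : dd q = Nat.gcd 5 (q % 150 + 1) := by
    rw [dd, Nat.gcd_rec 5 (q + 1), Nat.gcd_rec 5 (q % 150 + 1)]
    congr 1
    omega
  obtain ⟨m, hm⟩ : ∃ m, phi q = m * 150 + phi q % 150 := ⟨phi q / 150, by omega⟩
  have h3 : dd q ∣ phi q % 150 := (Nat.dvd_mod_iff ((Nat.gcd_dvd_left 5 _).trans (by norm_num))).2 (dd_dvd q)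
  have h4 : np q % 30 = phi q % 150 / dd q % 30 := by
    rcases dd_cases q with e | e <;> rw [np, e] at * <;> omega
  have h5 := key (q % 150) (Nat.mod_lt _ (by norm_num))
  rw [← h1, ← h2, ← h4] at h5
  have h7 : Nat.Coprime (np q) 30 := by
    rw [Nat.coprime_comm, Nat.Coprime, Nat.gcd_rec]
    have : ∀ r ∈ [1, 7, 11, 13, 17, 19, 23, 29], Nat.gcd r 30 = 1 := by decide
    exact this _ h5
  exact Nat.Coprime.coprime_dvd_right (show 120 ∣ 30 ^ 3 by norm_num) (h7.pow_right 3)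

theorem prime_ge_seven {q r : ℕ} (hr : r.Prime) (h : r ∣ np q) : 7 ≤ r := by
  by_contra hlt
  have hd : ∀ s < 7, s.Prime → s ∣ 120 := by decide
  exact hr.ne_one (Nat.eq_one_of_dvd_coprimes (np_coprime q) h (hd r (by omega) hr))

variable {F : Type*} [Field F] [Fintype F] {q : ℕ}

local notation "M5" => Matrix (Fin 5) (Fin 5) F
local notation "G5" => GL (Fin 5) F

/-- the special unitary group inside the general linear group -/
abbrev suG (F : Type*) [Field F] (q : ℕ) : Subgroup (GL (Fin 5) F) :=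
  Cfsg.GU 5 F q ⊓ Cfsg.Geo.specialLinear (Fin 5) F

theorem mem_suG {g : G5} : g ∈ suG F q ↔
    (∀ u v, Cfsg.hermForm 5 F q ((g : M5) *ᵥ u) ((g : M5) *ᵥ v) = Cfsg.hermForm 5 F q u v) ∧ (g : M5).det = 1 :=
  ⟨fun h => ⟨h.1, SingerNorm.det_one h.2⟩, fun h => ⟨h.1, show Matrix.GeneralLinearGroup.det g = 1 from
    Units.ext (by rw [Matrix.GeneralLinearGroup.val_det_apply, Units.val_one]; exact h.2)⟩⟩

/-- the hypotheses on the field subalgebra -/
structure Sing (q : ℕ) (K : Subalgebra F M5) : Prop where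
  card : Fintype.card F = q ^ 2
  field : IsFieldSubalgebra 5 K
  adj : IsAdjointClosedFor (Cfsg.hermForm 5 F q) K

variable {K : Subalgebra F (Matrix (Fin 5) (Fin 5) F)}

theorem Sing.two_le (D : Sing q K) : 2 ≤ q := by
  have := Fintype.one_lt_card (α := F)
  rw [D.card] at this
  rcases q with _ | _ | q <;> simp_all

/-- the adjoint on the field is the power `q⁵` -/
theorem Sing.adjoint_eq (D : Sing q K) : ∀ k ∈ K, ∀ u v : Fin 5 → F,
    Cfsg.hermForm 5 F q (k *ᵥ u) v = Cfsg.hermForm 5 F q u ((k ^ q ^ 5) *ᵥ v) := by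
  classical
  obtain ⟨C⟩ := Unit.ctx_of_card D.card
  have hf := Unit.isUnitary_hermForm C (n := 5)
  obtain ⟨p, b, hp, hchar, hcard, hb⟩ := exists_char_card (F := F)
  haveI := hchar
  haveI : Fact p.Prime := ⟨hp⟩
  obtain ⟨a, -, rfl⟩ : ∃ a ≤ b, q = p ^ a :=
    (Nat.dvd_prime_pow hp).1 (hcard ▸ D.card ▸ dvd_pow_self q two_ne_zero)
  have hb2 : b = 2 * a := Nat.pow_right_injective hp.two_le (by
    show p ^ b = p ^ (2 * a)
    rw [← hcard, D.card, ← pow_mul, mul_comm])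
  subst hb2
  obtain ⟨hfix, hfrob⟩ := fieldSubalgebra_frob D.field hcard
  have hbar : ∀ x : F, C.bar x = x ^ p ^ a := C.bar_eq
  let φ : M5 → M5 := fun k => kᵀ.map C.bar
  have hφf : ∀ (k : M5) u v, Cfsg.hermForm 5 F (p ^ a) (k *ᵥ u) v = Cfsg.hermForm 5 F (p ^ a) u (φ k *ᵥ v) := by
    intro k u v
    simp only [Cfsg.hermForm, φ, Matrix.mulVec, dotProduct, Fin.sum_univ_five, ← hbar, map_add, map_mul,
      Matrix.map_apply, Matrix.transpose_apply, C.bar_bar]
    ring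
  have hmem : ∀ k ∈ K, φ k ∈ K := fun k hk => by
    obtain ⟨k', hk', h⟩ := D.adj k hk
    have : φ k = k' := Matrix.ext_iff_mulVec.2 fun v => eq_of_herm hf fun u => by rw [← hφf, h]
    exact this ▸ hk'
  have hφ1 : φ 1 = 1 := by simp [φ, Matrix.map_one]
  obtain ⟨i, hi⟩ := hfrob φ hmem hφ1 (fun x _ y _ => by
      show (x + y)ᵀ.map C.bar = _
      rw [transpose_add, Matrix.map_add _ (fun r s => map_add C.bar r s)])
    (fun x hx y hy => by
      rw [D.field.comm x hx y hy]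
      show (y * x)ᵀ.map C.bar = _
      rw [transpose_mul, Matrix.map_mul])
  have hφφ : ∀ k, φ (φ k) = k := fun k => by
    ext r s
    simp [φ, C.bar_bar]
  have h2i : 2 * a * 5 ∣ i + i := (hfix _).1 fun x hx => by
    rw [pow_add, pow_mul, ← hi x hx, ← hi _ (hmem x hx), hφφ]
  obtain ⟨t, ht⟩ : ∃ t, i = a * 5 * t := by
    obtain ⟨t, ht⟩ := h2i
    refine ⟨t, ?_⟩
    have : 2 * i = 2 * (a * 5 * t) := by rw [two_mul, ht]; ring
    omega
  have hodd : ¬ Even t := by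
    rintro ⟨j, rfl⟩
    obtain ⟨y, hy⟩ := C.exists_not_fixed
    have h := hi _ (K.smul_mem K.one_mem y)
    have h' := congrFun (congrFun h 0) 0
    rw [smul_pow, one_pow] at h'
    simp only [φ, transpose_smul, transpose_one, Matrix.map_apply, Matrix.smul_apply, Matrix.one_apply_eq,
      smul_eq_mul, mul_one] at h'
    refine hy (h'.trans ?_)
    rw [ht, show a * 5 * (j + j) = 2 * a * (5 * j) by ring, pow_mul, ← hcard]
    exact FiniteField.pow_card_pow _ _
  intro k hk u v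
  rw [hφf, hi k hk, ← pow_mul p a 5]
  congr 2
  obtain ⟨r, rfl⟩ := Nat.not_even_iff_odd.1 hodd
  rw [ht, show a * 5 * (2 * r + 1) = a * 5 + 2 * a * 5 * r by ring, pow_add, pow_mul]
  exact (hfix _).2 ⟨r, rfl⟩ _ (K.pow_mem hk _)

/-- the generators -/
structure Gens (q : ℕ) (K : Subalgebra F M5) (γ y : G5) : Prop where
  mem_gu : γ ∈ Cfsg.GU 5 F q
  mem_field : (γ : M5) ∈ K
  order : orderOf γ = q ^ 5 + 1
  gen : ∀ g ∈ Cfsg.GU 5 F q, (g : M5) ∈ K → ∃ i : ℕ, g = γ ^ i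
  det_eq_one : ∀ i : ℕ, ((γ ^ i : G5) : M5).det = 1 ↔ q + 1 ∣ i
  scalar : ∀ i : ℕ, (∃ c : F, ((γ ^ i : G5) : M5) = c • 1) ↔ phi q ∣ i
  y_mem : y ∈ subalgebraNormalizer K ⊓ suG F q
  y_conj : y⁻¹ * γ * y = γ ^ q ^ 2
  act : ∀ g ∈ subalgebraNormalizer K, ∃ i < 5, g⁻¹ * γ * g = γ ^ (q ^ 2) ^ i

set_option maxHeartbeats 1000000 in
theorem Sing.exists_gens (D : Sing q K) : ∃ γ y : G5, Gens q K γ y := by
  classical
  obtain ⟨C⟩ := Unit.ctx_of_card D.card
  have hf := Unit.isUnitary_hermForm C (n := 5)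
  have hadj := D.adjoint_eq
  have hn : Nat.Prime 5 := by norm_num
  have hq : 2 ≤ q := D.two_le
  letI : CommRing K := { (inferInstance : Ring K) with mul_comm := fun x y => Subtype.ext (D.field.comm _ x.2 _ y.2) }
  letI : Field K := (SingerNorm.fld hn D.field).toField
  haveI : Finite K := Module.finite_of_finite F
  have hcard : Nat.card K = q ^ 10 := by
    rw [Module.natCard_eq_pow_finrank (K := F), Nat.card_eq_fintype_card, D.field.finrank_eq, D.card, ← pow_mul]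
  let v : Fin 5 → F := fun _ => 1
  have hv : v ≠ 0 := fun h => one_ne_zero (congrFun h 0)
  let L : K →ₗ[F] (Fin 5 → F) :=
    { toFun := fun k => (k : M5) *ᵥ v
      map_add' := fun a b => Matrix.add_mulVec ..
      map_smul' := fun c a => Matrix.smul_mulVec .. }
  have hinj : Function.Injective L := (injective_iff_map_eq_zero L).2 fun k hk =>
    Subtype.ext (SingerNorm.eq_zero_of_mulVec D.field k.2 hv hk)
  let e : K ≃ₗ[F] (Fin 5 → F) := LinearEquiv.ofBijective L ⟨hinj,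
    (LinearMap.injective_iff_surjective_of_finrank_eq_finrank (by rw [D.field.finrank_eq]; simp)).1 hinj⟩
  have he : ∀ k : K, e k = (k : M5) *ᵥ v := fun k => rfl
  have hmul : ∀ a b : K, (a : M5) *ᵥ e b = e (a * b) := fun a b => by rw [he, he, mulVec_mulVec]; rfl
  let emb : Kˣ →* G5 := Units.map (K.val : K →* M5)
  have hemb : Function.Injective emb := Units.map_injective Subtype.val_injective
  have hlift : ∀ g : G5, (g : M5) ∈ K → ∃ u : Kˣ, emb u = g := fun g hg => by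
    have hu : IsUnit (⟨g, hg⟩ : K) := Ne.isUnit fun h => g.ne_zero (congrArg Subtype.val h)
    exact ⟨hu.unit, Units.ext (by show ((hu.unit : K) : M5) = g; rw [hu.unit_spec])⟩
  have hdet : ∀ k : K, (k : M5).det = Algebra.norm F k := by
    intro k
    rw [Algebra.norm_apply, ← LinearMap.det_conj (Algebra.lmul F K k) e, ← LinearMap.det_toLin' (k : M5)]
    congr 1
    refine LinearMap.ext fun x => ?_
    obtain ⟨m, rfl⟩ := e.surjective x
    simp only [LinearMap.coe_comp, LinearEquiv.coe_coe, Function.comp_apply, e.symm_apply_apply, Matrix.toLin'_apply,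
      hmul]
    rfl
  have hnorm : ∀ k : K, algebraMap F K (Algebra.norm F k) = k ^ (q ^ 8 + q ^ 6 + q ^ 4 + q ^ 2 + 1) := by
    intro k
    rw [FiniteField.algebraMap_norm_eq_pow_sum, D.field.finrank_eq, Nat.card_eq_fintype_card, D.card]
    congr 1
    simp only [Finset.sum_range_succ, Finset.sum_range_zero]
    ring
  -- the isometries in the field
  have hgu : ∀ u : Kˣ, emb u ∈ Cfsg.GU 5 F q ↔ u ^ (q ^ 5 + 1) = 1 := by
    intro u
    have h0 : ∀ a b, Cfsg.hermForm 5 F q ((emb u : M5) *ᵥ a) ((emb u : M5) *ᵥ b) =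
        Cfsg.hermForm 5 F q a ((((u ^ (q ^ 5 + 1) : Kˣ) : K) : M5) *ᵥ b) := fun a b => by
      show Cfsg.hermForm 5 F q (((u : K) : M5) *ᵥ a) (((u : K) : M5) *ᵥ b) = _
      rw [hadj _ (u : K).2, mulVec_mulVec, ← pow_succ, Units.val_pow_eq_pow_val, SubmonoidClass.coe_pow]
    refine ⟨fun h => Units.ext (Subtype.ext (Matrix.ext_iff_mulVec.2 fun b => eq_of_herm hf fun a => ?_)),
      fun h a b => ?_⟩
    · rw [← h0]
      refine (h a b).trans ?_
      rw [Units.val_one, show ((1 : K) : M5) = 1 from rfl, one_mulVec]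
    · refine (h0 a b).trans ?_
      rw [h, Units.val_one, show ((1 : K) : M5) = 1 from rfl, one_mulVec]
  obtain ⟨g0, hg0⟩ := IsCyclic.exists_ofOrder_eq_natCard (α := Kˣ)
  rw [Nat.card_units, hcard] at hg0
  obtain ⟨r, hr⟩ : ∃ r, q ^ 5 = r + 1 := ⟨q ^ 5 - 1, by have := pow_pos (show 0 < q by omega) 5; omega⟩
  have hr0 : 0 < r := by
    have : 2 ^ 5 ≤ q ^ 5 := Nat.pow_le_pow_left hq 5
    omega
  have h10 : q ^ 10 - 1 = r * (q ^ 5 + 1) := by
    rw [show q ^ 10 = q ^ 5 * q ^ 5 by ring, hr]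
    ring_nf
    omega
  obtain ⟨γu, hγu⟩ : ∃ γu, γu = g0 ^ r := ⟨_, rfl⟩
  have hordu : orderOf γu = q ^ 5 + 1 := by
    rw [hγu, orderOf_pow, hg0, h10, Nat.gcd_eq_right (dvd_mul_right _ _), Nat.mul_div_cancel_left _ hr0]
  have hgenu : ∀ u : Kˣ, u ^ (q ^ 5 + 1) = 1 → ∃ i : ℕ, u = γu ^ i := fun u hu => by
    obtain ⟨m, hm⟩ := mem_powers_iff_mem_zpowers.2 (show u ∈ Subgroup.zpowers g0 by
      rw [Subgroup.eq_top_of_card_eq (Subgroup.zpowers g0) (by rw [Nat.card_zpowers, hg0, Nat.card_units, hcard])]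
      exact Subgroup.mem_top _)
    simp only at hm
    rw [← hm, ← pow_mul] at hu
    have h2 := orderOf_dvd_of_pow_eq_one hu
    rw [hg0, h10] at h2
    obtain ⟨i, rfl⟩ := Nat.dvd_of_mul_dvd_mul_right (Nat.succ_pos _) h2
    exact ⟨i, by rw [← hm, hγu, ← pow_mul]⟩
  obtain ⟨γ, hγ⟩ : ∃ γ, γ = emb γu := ⟨_, rfl⟩
  have hγpow : ∀ i, γ ^ i = emb (γu ^ i) := fun i => by rw [map_pow, hγ]
  have hγgu : γ ∈ Cfsg.GU 5 F q := hγ ▸ (hgu γu).2 (hordu ▸ pow_orderOf_eq_one γu)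
  have hγK : (γ : M5) ∈ K := hγ ▸ (γu : K).2
  have hord : orderOf γ = q ^ 5 + 1 := by rw [hγ, orderOf_injective emb hemb, hordu]
  have hone : ∀ i : ℕ, γu ^ i = 1 ↔ q ^ 5 + 1 ∣ i := fun i => by rw [← orderOf_dvd_iff_pow_eq_one, hordu]
  have hdetone : ∀ i : ℕ, ((γ ^ i : G5) : M5).det = 1 ↔ q + 1 ∣ i := fun i => by
    rw [hγpow]
    show (((γu ^ i : Kˣ) : K) : M5).det = 1 ↔ _
    rw [hdet, ← (algebraMap F K).injective.eq_iff, hnorm, map_one, ← Units.val_pow_eq_pow_val, Units.val_eq_one,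
      ← pow_mul, hone, ← succ_mul_phi, ← phi_mul_psi, mul_comm i, mul_comm (q + 1) (phi q), mul_assoc (phi q),
      Nat.mul_dvd_mul_iff_left (phi_pos q)]
    exact ⟨fun h => ((Nat.coprime_mul_left_add_right _ 1 _).2 (Nat.coprime_one_right _)).dvd_of_dvd_mul_left h,
      fun h => dvd_mul_of_dvd_right h _⟩
  have hscal : ∀ i : ℕ, (∃ c : F, ((γ ^ i : G5) : M5) = c • 1) ↔ phi q ∣ i := fun i => by
    have hq2 : q ^ 5 + 1 = (q + 1) + (q ^ 2 - 1) * (q * (q ^ 2 + 1)) := by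
      obtain ⟨s, rfl⟩ : ∃ s, q = s + 1 := ⟨q - 1, by omega⟩
      rw [show (s + 1) ^ 2 - 1 = s * (s + 2) by
        rw [show (s + 1) ^ 2 = s * (s + 2) + 1 by ring, Nat.add_sub_cancel]]
      ring
    constructor
    · rintro ⟨c, hc⟩
      rw [hγpow] at hc
      have hc' : ((γu ^ i : Kˣ) : K) = algebraMap F K c := Subtype.ext (hc.trans (Algebra.algebraMap_eq_smul_one c).symm)
      have hc0 : c ≠ 0 := fun h => (γu ^ i).ne_zero (by rw [hc', h, map_zero])
      have h1 : (γu ^ i) ^ (q ^ 2 - 1) = 1 := Units.ext (by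
        rw [Units.val_pow_eq_pow_val, hc', ← map_pow, ← D.card, FiniteField.pow_card_sub_one_eq_one c hc0, map_one,
          Units.val_one])
      have h2 : (γu ^ i) ^ (q ^ 5 + 1) = 1 := by rw [← pow_mul, hone]; exact dvd_mul_left _ _
      rw [hq2, pow_add, pow_mul _ (q ^ 2 - 1), h1, one_pow, mul_one, ← pow_mul, hone, ← succ_mul_phi,
        mul_comm (q + 1)] at h2
      exact Nat.dvd_of_mul_dvd_mul_right (Nat.succ_pos _) h2
    · rintro ⟨j, rfl⟩
      obtain ⟨w, hw⟩ : ∃ w, w = γu ^ (phi q * j) := ⟨_, rfl⟩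
      have h1 : w ^ (q + 1) = 1 := by
        rw [hw, ← pow_mul, hone, ← succ_mul_phi]
        exact ⟨j, by ring⟩
      have h2 : w ^ (q ^ 2 - 1) = 1 := by
        rw [← one_pow 2, Nat.sq_sub_sq, pow_mul, h1, one_pow]
      let ι : Fˣ →* Kˣ := Units.map (algebraMap F K).toMonoidHom
      have hι : Function.Injective ι := Units.map_injective (algebraMap F K).injective
      have hle : ι.range ≤ (powMonoidHom (q ^ 2 - 1) : Kˣ →* Kˣ).ker := by
        rintro _ ⟨c, rfl⟩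
        show ι c ^ (q ^ 2 - 1) = 1
        rw [← map_pow, ← D.card, show c ^ (Fintype.card F - 1) = 1 from Units.ext (by
          rw [Units.val_pow_eq_pow_val, FiniteField.pow_card_sub_one_eq_one _ c.ne_zero, Units.val_one]), map_one]
      have heq : ι.range = (powMonoidHom (q ^ 2 - 1) : Kˣ →* Kˣ).ker := by
        refine Subgroup.eq_of_le_of_card_ge hle ?_
        rw [IsCyclic.card_powMonoidHom_ker, Nat.card_units, hcard, Nat.gcd_eq_right,
          Nat.card_congr (MonoidHom.ofInjective hι).symm.toEquiv, Nat.card_units, Nat.card_eq_fintype_card, D.card]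
        exact ⟨q ^ 8 + q ^ 6 + q ^ 4 + q ^ 2 + 1, by
          have h1 : 1 ≤ q ^ 2 := Nat.one_le_pow _ _ (by omega)
          have h2 : 1 ≤ q ^ 10 := Nat.one_le_pow _ _ (by omega)
          zify [h1, h2]
          ring⟩
      obtain ⟨c, hc⟩ := heq ▸ (show w ∈ (powMonoidHom (q ^ 2 - 1) : Kˣ →* Kˣ).ker from h2)
      refine ⟨(c : F), ?_⟩
      rw [hγpow, ← hw, ← hc, ← Algebra.algebraMap_eq_smul_one]
      rfl
  -- the field automorphism
  let τ : K →ₐ[F] K := FiniteField.frobeniusAlgHom F K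
  have hτ : ∀ k : K, τ k = k ^ q ^ 2 := fun k => by
    rw [← D.card]; exact congrFun (FiniteField.coe_frobeniusAlgHom F K) k
  have hq10 : ∀ k : K, k ^ q ^ 10 = k := fun k => by
    letI : Fintype K := Fintype.ofFinite K
    rw [← hcard, Nat.card_eq_fintype_card, FiniteField.pow_card]
  have hadj' : ∀ (l : K) (u w : Fin 5 → F),
      Cfsg.hermForm 5 F q u ((l : M5) *ᵥ w) = Cfsg.hermForm 5 F q (((l ^ q ^ 5 : K) : M5) *ᵥ u) w := fun l u w => by
    rw [hadj _ (l ^ q ^ 5 : K).2, ← SubmonoidClass.coe_pow, ← pow_mul, ← pow_add, show 5 + 5 = 10 from rfl, hq10]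
  let Λ : K →ₗ[F] F :=
    { toFun := fun k => Cfsg.hermForm 5 F q ((k : M5) *ᵥ v) v
      map_add' := fun a b => by rw [show ((a + b : K) : M5) = (a : M5) + b from rfl, add_mulVec, hf.add_left]
      map_smul' := fun c a => by
        rw [show ((c • a : K) : M5) = c • (a : M5) from rfl, smul_mulVec, hf.smul_left, RingHom.id_apply, smul_eq_mul] }
  have hΛe : ∀ k l : K, Cfsg.hermForm 5 F q (e k) (e l) = Λ (l ^ q ^ 5 * k) := fun k l => by
    rw [he, he, hadj', mulVec_mulVec]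
    rfl
  have hΛbar : ∀ k : K, Λ (k ^ q ^ 5) = C.bar (Λ k) := fun k => by
    show Cfsg.hermForm 5 F q (((k ^ q ^ 5 : K) : M5) *ᵥ v) v = C.bar (Cfsg.hermForm 5 F q ((k : M5) *ᵥ v) v)
    rw [← hadj', hf.herm v]
  have hΛne : ∀ b : K, (∀ x : K, Λ (b * x) = 0) → b = 0 := fun b hb => by
    by_contra h0
    refine hv (eq_of_herm hf fun w => ?_)
    rw [herm_zero_right hf]
    obtain ⟨x, rfl⟩ := e.surjective w
    have := hb (b⁻¹ * x)
    rw [← mul_assoc, mul_inv_cancel₀ h0, one_mul] at this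
    rw [he]
    exact this
  let Ψ : K →ₗ[F] (K →ₗ[F] F) := (LinearMap.mul F K).compr₂ Λ
  have hΨ : ∀ b x : K, Ψ b x = Λ (b * x) := fun b x => rfl
  have hΨinj : Function.Injective Ψ := (injective_iff_map_eq_zero Ψ).2 fun b hb => hΛne b fun x => by
    rw [← hΨ, hb]; rfl
  have hΨsurj : Function.Surjective Ψ := (LinearMap.injective_iff_surjective_of_finrank_eq_finrank
    (by rw [Module.finrank_linearMap, Module.finrank_self, mul_one])).1 hΨinj
  obtain ⟨b, hb⟩ := hΨsurj (Λ ∘ₗ τ.toLinearMap)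
  have hb' : ∀ x : K, Λ (τ x) = Λ (b * x) := fun x => by rw [← hΨ, hb]; rfl
  have hb0 : b ≠ 0 := fun h => one_ne_zero (α := K) (hΛne 1 fun x => by
    rw [one_mul]
    obtain ⟨z, rfl⟩ : ∃ z, τ z = x := (FiniteField.frobeniusAlgHom F K).toRingHom.injective.bijective_of_finite.2 x
    rw [hb', h, zero_mul, map_zero])
  have hbfix : b ^ q ^ 5 = b := sub_eq_zero.1 (hΛne _ fun x => by
    have hx : (x ^ q ^ 5) ^ q ^ 5 = x := by rw [← pow_mul, ← pow_add, show 5 + 5 = 10 from rfl, hq10]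
    rw [sub_mul, map_sub, sub_eq_zero]
    conv_lhs => rw [← hx, ← mul_pow, hΛbar, ← hb', ← hΛbar, ← map_pow, hx, hb'])
  obtain ⟨m, hm⟩ : ∃ m : Kˣ, m ^ (q ^ 5 + 1) * Units.mk0 b hb0 = 1 := by
    obtain ⟨j, hj⟩ := mem_powers_iff_mem_zpowers.2 (show (Units.mk0 b hb0)⁻¹ ∈ Subgroup.zpowers g0 by
      rw [Subgroup.eq_top_of_card_eq (Subgroup.zpowers g0) (by rw [Nat.card_zpowers, hg0, Nat.card_units, hcard])]
      exact Subgroup.mem_top _)
    simp only at hj
    have h1 : (Units.mk0 b hb0) ^ r = 1 := Units.ext (by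
      rw [Units.val_pow_eq_pow_val, Units.val_mk0, Units.val_one]
      refine mul_right_cancel₀ hb0 ?_
      rw [← pow_succ, ← hr, hbfix, one_mul])
    have h2 := orderOf_dvd_of_pow_eq_one (show g0 ^ (j * r) = 1 by rw [pow_mul, hj, inv_pow, h1, inv_one])
    rw [hg0, h10, mul_comm j] at h2
    obtain ⟨i, rfl⟩ := Nat.dvd_of_mul_dvd_mul_left hr0 h2
    exact ⟨g0 ^ i, by rw [← pow_mul, mul_comm i, hj, inv_mul_cancel]⟩
  obtain ⟨G, hG⟩ : ∃ G : G5, ∀ k : K, (G : M5) *ᵥ e k = e (τ k) := by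
    obtain ⟨A, hA⟩ : ∃ A : M5, A = LinearMap.toMatrix' (e.toLinearMap ∘ₗ τ.toLinearMap ∘ₗ e.symm.toLinearMap) :=
      ⟨_, rfl⟩
    have hAk : ∀ k : K, A *ᵥ e k = e (τ k) := fun k => by
      rw [hA, LinearMap.toMatrix'_mulVec]
      simp
    have hu : IsUnit A := Matrix.mulVec_injective_iff_isUnit.1 fun a b hab => by
      obtain ⟨x, rfl⟩ := e.surjective a
      obtain ⟨z, rfl⟩ := e.surjective b
      rw [hAk, hAk, e.injective.eq_iff] at hab
      rw [τ.toRingHom.injective hab]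
    exact ⟨hu.unit, fun k => by rw [IsUnit.unit_spec]; exact hAk k⟩
  have hGk : ∀ k : K, (G : M5) * (k : M5) = ((τ k : K) : M5) * G := fun k => by
    refine Matrix.ext_iff_mulVec.2 fun w => ?_
    obtain ⟨j, rfl⟩ := e.surjective w
    rw [← mulVec_mulVec, ← mulVec_mulVec, hmul, hG, hG, hmul, map_mul]
  obtain ⟨y0, hy0⟩ : ∃ y0, y0 = G * emb m := ⟨_, rfl⟩
  have hy0e : ∀ k : K, (y0 : M5) *ᵥ e k = e (τ (m * k)) := fun k => by
    rw [hy0, Units.val_mul, ← mulVec_mulVec, show (emb m : M5) *ᵥ e k = e (m * k) from hmul _ _, hG]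
  have hy0gu : y0 ∈ Cfsg.GU 5 F q := fun u w => by
    obtain ⟨k, rfl⟩ := e.surjective u
    obtain ⟨l, rfl⟩ := e.surjective w
    show Cfsg.hermForm 5 F q ((y0 : M5) *ᵥ e k) ((y0 : M5) *ᵥ e l) = _
    rw [hy0e, hy0e, hΛe, hΛe, ← map_pow, ← map_mul, hb']
    congr 1
    have := congrArg Units.val hm
    rw [Units.val_mul, Units.val_pow_eq_pow_val, Units.val_mk0, Units.val_one, pow_succ] at this
    rw [mul_pow]
    linear_combination (l ^ q ^ 5 * k) * this
  obtain ⟨ζ, hζ⟩ : ∃ ζ, ζ = ((γ : G5) : M5).det := ⟨_, rfl⟩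
  have hζpow : ∀ i : ℕ, ζ ^ i = ((γ ^ i : G5) : M5).det := fun i => by
    rw [Units.val_pow_eq_pow_val, Matrix.det_pow, hζ]
  have hprim : IsPrimitiveRoot ζ (q + 1) :=
    ⟨by rw [hζpow, hdetone], fun l hl => by rwa [hζpow, hdetone] at hl⟩
  have hδ : ((y0 : M5).det) ^ (q + 1) = 1 := by
    have hφ : ∀ (A : M5) (u z : Fin 5 → F),
        Cfsg.hermForm 5 F q (A *ᵥ u) z = Cfsg.hermForm 5 F q u ((Aᵀ.map C.bar) *ᵥ z) := fun A u z => by
      simp only [Cfsg.hermForm, Matrix.mulVec, dotProduct, Fin.sum_univ_five, ← C.bar_eq, map_add, map_mul,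
        Matrix.map_apply, Matrix.transpose_apply, C.bar_bar]
      ring
    have hA : ((y0 : M5))ᵀ.map C.bar * (y0 : M5) = 1 := Matrix.ext_iff_mulVec.2 fun w => eq_of_herm hf fun u => by
      rw [← mulVec_mulVec, one_mulVec, ← hφ]
      exact hy0gu u w
    have := congrArg Matrix.det hA
    rw [Matrix.det_mul, Matrix.det_one,
      show ((y0 : M5)ᵀ.map C.bar).det = C.bar (y0 : M5)ᵀ.det from ((C.bar : F →+* F).map_det _).symm,
      Matrix.det_transpose] at this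
    rw [pow_succ, ← this, C.bar_eq]
  obtain ⟨i, -, hi⟩ := hprim.eq_pow_of_pow_eq_one (show ((y0 : M5).det)⁻¹ ^ (q + 1) = 1 by rw [inv_pow, hδ, inv_one])
  obtain ⟨y, hy⟩ : ∃ y, y = (y0 * γ ^ i)⁻¹ := ⟨_, rfl⟩
  have hyG : y0 * γ ^ i ∈ suG F q := mem_suG.2 ⟨mul_mem hy0gu (pow_mem hγgu i), by
    rw [Units.val_mul, Matrix.det_mul, ← hζpow, hi, mul_inv_cancel₀]
    rw [← Matrix.GeneralLinearGroup.val_det_apply]
    exact Units.ne_zero _⟩
  have hγns : ∀ c : F, (γ : M5) ≠ c • 1 := fun c hc => by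
    have h := (hscal 1).1 ⟨c, by rw [pow_one]; exact hc⟩
    rw [Nat.dvd_one] at h
    have h5 := succ_mul_phi q
    rw [h, mul_one] at h5
    have h7 : q ^ 1 < q ^ 5 := Nat.pow_lt_pow_right (by omega) (by norm_num)
    rw [pow_one] at h7
    omega
  have hyc : y⁻¹ * γ * y = γ ^ q ^ 2 := by
    rw [hy, inv_inv, _root_.mul_inv_rev]
    have hcomm : emb m * γ = γ * emb m := by rw [hγ, ← map_mul, ← map_mul, mul_comm]
    calc y0 * γ ^ i * γ * ((γ ^ i)⁻¹ * y0⁻¹) = y0 * γ * y0⁻¹ := by group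
      _ = G * (emb m * γ) * (emb m)⁻¹ * G⁻¹ := by rw [hy0]; group
      _ = G * γ * G⁻¹ := by rw [hcomm]; group
      _ = γ ^ q ^ 2 := by
        rw [mul_inv_eq_iff_eq_mul]
        refine Units.ext ?_
        rw [Units.val_mul, Units.val_mul, hγpow, hγ]
        show _ * (((γu : Kˣ) : K) : M5) = (((γu ^ q ^ 2 : Kˣ) : K) : M5) * _
        rw [hGk, hτ, Units.val_pow_eq_pow_val]
  have hyN : y ∈ subalgebraNormalizer K := by
    refine inv_mem_iff.1 (SingerNorm.mem_normalizer hn D.field hγK hγns ?_)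
    rw [inv_inv, ← Units.val_mul, ← Units.val_mul, hyc, Units.val_pow_eq_pow_val]
    exact pow_mem hγK _
  refine ⟨γ, y, hγgu, hγK, hord, fun g hg hgK => ?_, hdetone, hscal, ⟨hyN, hy ▸ (suG F q).inv_mem hyG⟩, hyc, fun g hg => ?_⟩
  · obtain ⟨u, rfl⟩ := hlift g hgK
    obtain ⟨j, rfl⟩ := hgenu u ((hgu u).1 hg)
    exact ⟨j, (hγpow j).symm⟩
  · have hmap : ∀ x : K, ((g⁻¹ : G5) : M5) * (x : M5) * (g : M5) ∈ K := fun x => by
      have h2 := ((subalgebraNormalizer K).inv_mem hg x.1).1 x.2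
      rwa [inv_inv] at h2
    let ρ : K →ₐ[F] K := AlgHom.codRestrict ((cjAlg g⁻¹).toAlgHom.comp K.val) K fun x => by
      show ((g⁻¹ : G5) : M5) * (x : M5) * (((g⁻¹)⁻¹ : G5) : M5) ∈ K
      rw [inv_inv]
      exact hmap x
    obtain ⟨⟨j, hj⟩, hρ⟩ := (FiniteField.bijective_frobeniusAlgHom_pow F K).2 ρ
    refine ⟨j, D.field.finrank_eq ▸ hj, ?_⟩
    have h1 := AlgHom.congr_fun hρ ((γu : Kˣ) : K)
    simp only [AlgHom.coe_pow, FiniteField.coe_frobeniusAlgHom, pow_iterate, D.card] at h1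
    refine Units.ext ?_
    have h2 := congrArg Subtype.val h1
    rw [SubmonoidClass.coe_pow] at h2
    rw [Units.val_mul, Units.val_mul, Units.val_pow_eq_pow_val, hγ]
    refine Eq.trans ?_ h2.symm
    show _ = ((g⁻¹ : G5) : M5) * ((γu : K) : M5) * (((g⁻¹)⁻¹ : G5) : M5)
    rw [inv_inv]
    rfl

end CfsgLib.Perm.Trans.UnitFive.Singer
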