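import Cfsg.Agent.Lib.Perm.Trans.UnitFive.Singer.Field
import Cfsg.Agent.Lib.Char.Basic

/-!
# Heisenberg operators of a hermitian space of dimension five

Operators on the functions on the real vectors, multiplying with the cocycle `ψ (f u v)` of the hermitian form; they
are a basis of all operators, so every isometry has an intertwiner, unique up to a scalar.
-/

set_option autoImplicit false
set_option linter.all false

namespace CfsgLib.Perm.Trans.UnitFive.Singer

open scoped Matrix ComplexConjugate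
open Matrix Cfsg Module

/-- a symmetric bicharacter of a group of prime exponent is the defect of a nonvanishing function -/
theorem exists_quad {A R : Type*} [AddCommGroup A] [Finite A] [AddCommGroup R] {p : ℕ} (hp : p.Prime)
    (hA : ∀ a : A, p • a = 0) (g : A →+ A →+ R) (hg : ∀ a b, g a b = g b a) (ψ : AddChar R ℂ) :
    ∃ φ : A → ℂ, (∀ a, φ a ≠ 0) ∧ ∀ a b, φ (a + b) = φ a * φ b * ψ (g a b) := by
  classical
  have hψ0 : ∀ x, ψ x ≠ 0 := fun x => (ψ.val_isUnit x).ne_zero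
  obtain ⟨H, hH⟩ := Set.Finite.exists_maximal (s := {H : AddSubgroup A | ∃ φ : A → ℂ,
    (∀ a ∈ H, φ a ≠ 0) ∧ ∀ a ∈ H, ∀ b ∈ H, φ (a + b) = φ a * φ b * ψ (g a b)}) (Set.toFinite _)
    ⟨⊥, fun _ => 1, fun _ _ => one_ne_zero, fun a ha b hb => by
      rw [AddSubgroup.mem_bot] at ha hb
      simp [ha, hb]⟩
  obtain ⟨⟨φ, hφ0, hφ⟩, hmax⟩ := hH
  suffices htop : H = ⊤ by
    subst htop
    exact ⟨φ, fun a => hφ0 a trivial, fun a b => hφ a trivial b trivial⟩
  by_contra hne
  obtain ⟨e, he⟩ : ∃ e, e ∉ H := by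
    by_contra hcon
    push Not at hcon
    exact hne (eq_top_iff.2 fun a _ => hcon a)
  obtain ⟨t, ht⟩ := IsAlgClosed.exists_pow_nat_eq (ψ (g e e)) (show 0 < 2 by norm_num)
  have ht0 : t ≠ 0 := fun h => hψ0 (g e e) (by rw [← ht, h]; simp)
  obtain ⟨r, hr⟩ := IsAlgClosed.exists_pow_nat_eq ((t ^ (p * p))⁻¹) hp.pos
  have hr0 : r ≠ 0 := fun h => by
    rw [h, zero_pow hp.ne_zero] at hr
    exact inv_ne_zero (pow_ne_zero _ ht0) hr.symm
  let R0 : ℤ → ℂ := fun j => r ^ j * t ^ (j * j)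
  have hR : ∀ i j, R0 (i + j) = R0 i * R0 j * ψ (g (i • e) (j • e)) := fun i j => by
    have h2 : ψ (g (i • e) (j • e)) = t ^ (2 * (i * j)) := by
      rw [show g (i • e) (j • e) = (i * j) • g e e by simp [map_zsmul, smul_smul, mul_comm],
        AddChar.map_zsmul_eq_zpow, ← ht, ← _root_.zpow_natCast, ← _root_.zpow_mul]
      norm_num
    simp only [R0]
    rw [h2, show (i + j) * (i + j) = i * i + j * j + 2 * (i * j) by ring, zpow_add₀ hr0, zpow_add₀ ht0,
      zpow_add₀ ht0]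
    ring
  have hRp : R0 (p : ℤ) = 1 := by
    simp only [R0]
    rw [← Nat.cast_mul, zpow_natCast, zpow_natCast, hr, inv_mul_cancel₀ (pow_ne_zero _ ht0)]
  have hpe : ∀ k : ℤ, ((p : ℤ) * k) • e = 0 := fun k => by rw [mul_comm, mul_zsmul, natCast_zsmul, hA, smul_zero]
  have hR0' : R0 0 = 1 := by simp [R0]
  have hper : ∀ j k : ℤ, R0 (j + (p : ℤ) * k) = R0 j := by
    have h1 : ∀ j, R0 (j + (p : ℤ)) = R0 j := fun j => by
      rw [hR, hRp, show ((p : ℤ)) • e = 0 by rw [natCast_zsmul, hA], map_zero, AddChar.map_zero_eq_one, mul_one, mul_one]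
    intro j k
    induction k using Int.induction_on with
    | zero => simp
    | succ k ih => rw [show j + (p : ℤ) * (k + 1) = j + (p : ℤ) * k + (p : ℤ) by ring, h1, ih]
    | pred k ih => rw [← ih, show j + (p : ℤ) * -(k : ℤ) = j + (p : ℤ) * (-(k : ℤ) - 1) + (p : ℤ) by ring, h1]
  have hdisj : ∀ j : ℤ, j • e ∈ H → ∃ k, j = (p : ℤ) * k := fun j hj => by
    by_contra hcon
    have hco : IsCoprime (p : ℤ) j := (Nat.prime_iff_prime_int.1 hp).coprime_iff_not_dvd.2 fun ⟨k, hk⟩ => hcon ⟨k, hk⟩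
    obtain ⟨a, b, hab⟩ := hco
    refine he ?_
    rw [← one_zsmul e, ← hab, add_zsmul, mul_zsmul, mul_zsmul, natCast_zsmul, hA, smul_zero, zero_add]
    exact H.zsmul_mem hj b
  let P : A → Prop := fun a => ∃ x : H × ℤ, (x.1 : A) + x.2 • e = a
  let Φ : H × ℤ → ℂ := fun x => φ x.1 * ψ (g x.1 (x.2 • e)) * R0 x.2
  let φ' : A → ℂ := fun a => if h : P a then Φ h.choose else 1
  have hwd : ∀ x : H × ℤ, φ' ((x.1 : A) + x.2 • e) = Φ x := fun x => by
    have hP : P ((x.1 : A) + x.2 • e) := ⟨x, rfl⟩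
    simp only [φ', dif_pos hP]
    obtain ⟨y, hy⟩ : ∃ y, y = hP.choose := ⟨_, rfl⟩
    have hye : (y.1 : A) + y.2 • e = (x.1 : A) + x.2 • e := hy ▸ hP.choose_spec
    rw [← hy]
    obtain ⟨k, hk⟩ := hdisj (y.2 - x.2) (by
      rw [sub_zsmul, ← sub_eq_add_neg, show y.2 • e - x.2 • e = (x.1 : A) - y.1 by
        rw [sub_eq_sub_iff_add_eq_add, add_comm (y.2 • e), hye]]
      exact H.sub_mem x.1.2 y.1.2)
    have h2 : y.2 • e = x.2 • e := by
      rw [show y.2 = x.2 + (p : ℤ) * k by omega, add_zsmul, hpe, add_zero]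
    have h1 : (y.1 : A) = x.1 := by rwa [h2, add_left_inj] at hye
    simp only [Φ]
    rw [h1, h2, show y.2 = x.2 + (p : ℤ) * k by omega, hper]
  refine hne ?_
  have hle : H ⊔ AddSubgroup.zmultiples e ≤ H := hmax ⟨φ', fun a ha => ?_, fun a ha b hb => ?_⟩ le_sup_left
  · exact absurd (hle (AddSubgroup.mem_sup_right (AddSubgroup.mem_zmultiples e))) he
  · obtain ⟨h, hh, z, hz, rfl⟩ := AddSubgroup.mem_sup.1 ha
    obtain ⟨j, rfl⟩ := AddSubgroup.mem_zmultiples_iff.1 hz
    rw [hwd (⟨h, hh⟩, j)]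
    exact mul_ne_zero (mul_ne_zero (hφ0 h hh) (hψ0 _))
      (mul_ne_zero (zpow_ne_zero _ hr0) (zpow_ne_zero _ ht0))
  · obtain ⟨h, hh, z, hz, rfl⟩ := AddSubgroup.mem_sup.1 ha
    obtain ⟨i, rfl⟩ := AddSubgroup.mem_zmultiples_iff.1 hz
    obtain ⟨h', hh', z, hz, rfl⟩ := AddSubgroup.mem_sup.1 hb
    obtain ⟨j, rfl⟩ := AddSubgroup.mem_zmultiples_iff.1 hz
    rw [hwd (⟨h, hh⟩, i), hwd (⟨h', hh'⟩, j), show h + i • e + (h' + j • e) = (h + h') + (i + j) • e by
      rw [add_zsmul]; abel, hwd (⟨h + h', H.add_mem hh hh'⟩, i + j)]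
    simp only [Φ]
    rw [hφ h hh h' hh', hR, add_zsmul]
    simp only [map_add, AddMonoidHom.add_apply, AddChar.map_add_eq_mul]
    rw [hg h' (i • e)]
    ring

variable {F : Type*} [Field F] [Fintype F] {q : ℕ} (C : CfsgLib.SU.UCtx F q)

local notation "V5" => (Fin 5 → F)

/-- the real vectors -/
def realV : AddSubgroup V5 where
  carrier := {x | ∀ i, C.bar (x i) = x i}
  add_mem' ha hb i := by simp only [Pi.add_apply, map_add, ha i, hb i]
  zero_mem' i := map_zero _
  neg_mem' ha i := by simp only [Pi.neg_apply, map_neg, ha i]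

/-- the functions on the real vectors -/
abbrev Fun5 : Type _ := ↥(realV C) → ℂ

/-- a system of Heisenberg operators for the form -/
structure Heis (W : V5 → Module.End ℂ (Fun5 C)) (ψ : AddChar F ℂ) : Prop where
  zero : W 0 = 1
  mul : ∀ u v, W u * W v = ψ (Cfsg.hermForm 5 F q u v) • W (u + v)
  trace : ∀ u, u ≠ 0 → LinearMap.trace ℂ _ (W u) = 0
  li : LinearIndependent ℂ W
  card : Fintype.card V5 = finrank ℂ (Module.End ℂ (Fun5 C))
  skew : ∀ v, v ≠ 0 → ∃ u, ψ (Cfsg.hermForm 5 F q u v - Cfsg.hermForm 5 F q v u) ≠ 1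
  dim : finrank ℂ (Fun5 C) = q ^ 5

theorem sum_char_eq_zero {H : Type*} [AddCommGroup H] [Fintype H] (χ : H → ℂ) (hχ : ∀ a b, χ (a + b) = χ a * χ b)
    {a : H} (ha : χ a ≠ 1) : ∑ x, χ x = 0 := by
  have h : ∑ x, χ (a + x) = ∑ x, χ x := Fintype.sum_equiv (Equiv.addLeft a) _ _ fun x => rfl
  simp only [hχ, ← Finset.mul_sum] at h
  by_contra hne
  exact ha (mul_right_cancel₀ hne (by rw [h, one_mul]))

theorem exists_heis (hF : Fintype.card F = q ^ 2) :
    ∃ (W : V5 → Module.End ℂ (Fun5 C)) (ψ : AddChar F ℂ), Heis C W ψ := by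
  classical
  have hf := Unit.isUnitary_hermForm C (n := 5)
  have hherm : ∀ u v : V5, Cfsg.hermForm 5 F q u v = ∑ i, u i * C.bar (v i) := fun u v => by
    simp only [Cfsg.hermForm, C.bar_eq]
  obtain ⟨ω, hω⟩ := C.exists_not_fixed
  obtain ⟨δ, hδ⟩ : ∃ δ, δ = ω - C.bar ω := ⟨_, rfl⟩
  have hδ0 : δ ≠ 0 := by rw [hδ, sub_ne_zero]; exact Ne.symm hω
  have hδs : C.bar δ = -δ := by rw [hδ, map_sub, C.bar_bar]; ring
  obtain ⟨ψ₁, hψ₁⟩ : ∃ ψ : AddChar F ℂ, ψ δ ≠ 1 := AddChar.exists_apply_ne_zero.2 hδ0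
  let Bf : V5 →+ realV C :=
    { toFun := fun u => ⟨fun i => (u i - C.bar (u i)) / δ, fun i => by
        rw [map_div₀, map_sub, C.bar_bar, hδs, ← neg_sub (u i) (C.bar (u i)), neg_div_neg_eq]⟩
      map_zero' := Subtype.ext (funext fun i => by simp)
      map_add' := fun u v => Subtype.ext (funext fun i => by simp [add_div]; ring) }
  have hB : ∀ (u : V5) i, u i - C.bar (u i) = δ * (Bf u : V5) i := fun u i => by
    show _ = δ * ((u i - C.bar (u i)) / δ)
    rw [mul_div_cancel₀ _ hδ0]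
  let Af : V5 →+ realV C :=
    { toFun := fun u => ⟨fun i => u i - ω * (Bf u : V5) i, fun i => by
        rw [map_sub, map_mul, (Bf u).2 i]
        linear_combination -(hB u i) - ((Bf u : V5) i) * hδ⟩
      map_zero' := Subtype.ext (funext fun i => by simp)
      map_add' := fun u v => Subtype.ext (funext fun i => by simp [map_add]; ring) }
  have hA : ∀ (u : V5) i, u i = (Af u : V5) i + ω * (Bf u : V5) i := fun u i => by
    show _ = (u i - ω * (Bf u : V5) i) + _
    ring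
  let g : V5 →+ V5 →+ F := AddMonoidHom.mk' (fun u => AddMonoidHom.mk'
    (fun v => -δ * ((Af u : V5) ⬝ᵥ (Bf v : V5)) - Cfsg.hermForm 5 F q u v) fun v w => by
      rw [map_add, AddSubgroup.coe_add, dotProduct_add, CfsgLib.Perm.Trans.herm_add_right hf]; ring) fun u u' => by
      refine AddMonoidHom.ext fun v => ?_
      show -δ * ((Af (u + u') : V5) ⬝ᵥ (Bf v : V5)) - Cfsg.hermForm 5 F q (u + u') v =
        (-δ * ((Af u : V5) ⬝ᵥ (Bf v : V5)) - Cfsg.hermForm 5 F q u v) +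
          (-δ * ((Af u' : V5) ⬝ᵥ (Bf v : V5)) - Cfsg.hermForm 5 F q u' v)
      rw [map_add, AddSubgroup.coe_add, add_dotProduct, hf.add_left]; ring
  have hswap : ∀ u v : V5, Cfsg.hermForm 5 F q u v - Cfsg.hermForm 5 F q v u =
      -δ * ((Af u : V5) ⬝ᵥ (Bf v : V5) - (Af v : V5) ⬝ᵥ (Bf u : V5)) := fun u v => by
    simp only [hherm, dotProduct, ← Finset.sum_sub_distrib, Finset.mul_sum]
    refine Finset.sum_congr rfl fun i _ => ?_
    rw [hA u i, hA v i, map_add, map_add, map_mul, map_mul, (Af u).2 i, (Bf u).2 i, (Af v).2 i, (Bf v).2 i, hδ]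
    ring
  have hgsym : ∀ u v, g u v = g v u := fun u v => by
    simp only [g, AddMonoidHom.mk'_apply]
    linear_combination -(hswap u v)
  obtain ⟨p, hchar⟩ := CharP.exists F
  obtain ⟨k, hp, hk⟩ := FiniteField.card F p
  obtain ⟨φ, hφ0, hφ⟩ := exists_quad hp (fun a : V5 => by
    rw [← Nat.cast_smul_eq_nsmul F, CharP.cast_eq_zero, zero_smul]) g hgsym ψ₁
  let W : V5 → Module.End ℂ (Fun5 C) := fun u =>
    { toFun := fun f x => φ u * ψ₁ (-δ * ((x : V5) ⬝ᵥ (Bf u : V5))) * f (x + Af u)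
      map_add' := fun f f' => by ext x; simp [mul_add]
      map_smul' := fun c f => by ext x; simp; ring }
  have hφz : φ 0 = 1 := by
    have h := hφ 0 0
    simp only [add_zero, map_zero, AddMonoidHom.zero_apply, AddChar.map_zero_eq_one, mul_one] at h
    exact (mul_right_eq_self₀.1 h.symm).resolve_right (hφ0 0)
  have hz : W 0 = 1 := by
    refine LinearMap.ext fun f => funext fun x => ?_
    show φ 0 * ψ₁ (-δ * ((x : V5) ⬝ᵥ (Bf 0 : V5))) * f (x + Af 0) = _
    rw [hφz, map_zero, map_zero, AddSubgroup.coe_zero, dotProduct_zero, mul_zero, AddChar.map_zero_eq_one, add_zero,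
      one_mul, one_mul]
    rfl
  have hmul : ∀ u v, W u * W v = ψ₁ (Cfsg.hermForm 5 F q u v) • W (u + v) := fun u v => by
    refine LinearMap.ext fun f => funext fun x => ?_
    show φ u * ψ₁ (-δ * ((x : V5) ⬝ᵥ (Bf u : V5))) * (φ v * ψ₁ (-δ * (((x + Af u : realV C) : V5) ⬝ᵥ (Bf v : V5))) *
      f (x + Af u + Af v)) = ψ₁ (Cfsg.hermForm 5 F q u v) * (φ (u + v) * ψ₁ (-δ * ((x : V5) ⬝ᵥ (Bf (u + v) : V5))) *
      f (x + Af (u + v)))
    rw [hφ, map_add, map_add, ← add_assoc]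
    have e : ψ₁ (-δ * ((x : V5) ⬝ᵥ (Bf u : V5))) * ψ₁ (-δ * (((x + Af u : realV C) : V5) ⬝ᵥ (Bf v : V5))) =
        ψ₁ (Cfsg.hermForm 5 F q u v) * ψ₁ (g u v) * ψ₁ (-δ * ((x : V5) ⬝ᵥ ((Bf u + Bf v : realV C) : V5))) := by
      simp only [← AddChar.map_add_eq_mul]
      congr 1
      simp only [g, AddMonoidHom.mk'_apply, AddSubgroup.coe_add, dotProduct_add, add_dotProduct]
      ring
    linear_combination (φ u * φ v * f (x + Af u + Af v)) * e
  have hψmul : ∀ (b : V5) (x y : realV C), ψ₁ (-δ * (((x + y : realV C) : V5) ⬝ᵥ b)) =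
      ψ₁ (-δ * ((x : V5) ⬝ᵥ b)) * ψ₁ (-δ * ((y : V5) ⬝ᵥ b)) := fun b x y => by
    rw [AddSubgroup.coe_add, add_dotProduct, mul_add, AddChar.map_add_eq_mul]
  have hnd : ∀ b : realV C, b ≠ 0 → ∃ x : realV C, ψ₁ (-δ * ((x : V5) ⬝ᵥ (b : V5))) ≠ 1 := fun b hb => by
    obtain ⟨i, hi⟩ : ∃ i, (b : V5) i ≠ 0 := by
      by_contra hcon
      push Not at hcon
      exact hb (Subtype.ext (funext hcon))
    refine ⟨⟨Pi.single i (-((b : V5) i)⁻¹), fun j => ?_⟩, ?_⟩
    · rcases eq_or_ne j i with rfl | h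
      · rw [Pi.single_eq_same, map_neg, map_inv₀, b.2 j]
      · rw [Pi.single_eq_of_ne h, map_zero]
    · show ψ₁ (-δ * (Pi.single i (-((b : V5) i)⁻¹) ⬝ᵥ (b : V5))) ≠ 1
      rw [single_dotProduct, neg_mul ((b : V5) i)⁻¹, inv_mul_cancel₀ hi, neg_mul, mul_neg, mul_one, neg_neg]
      exact hψ₁
  have htr : ∀ u, u ≠ 0 → LinearMap.trace ℂ _ (W u) = 0 := fun u hu => by
    rw [LinearMap.trace_eq_matrix_trace ℂ (Pi.basisFun ℂ ↥(realV C)), Matrix.trace]
    simp only [Matrix.diag_apply, LinearMap.toMatrix_apply, Pi.basisFun_apply, Pi.basisFun_repr]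
    show ∑ x : realV C, φ u * ψ₁ (-δ * ((x : V5) ⬝ᵥ (Bf u : V5))) * (Pi.single x 1 : Fun5 C) (x + Af u) = 0
    by_cases ha : Af u = 0
    · simp only [ha, add_zero, Pi.single_eq_same, mul_one, ← Finset.mul_sum]
      have hb : Bf u ≠ 0 := fun hb => hu (funext fun i => by rw [hA u i, ha, hb]; simp)
      obtain ⟨x, hx⟩ := hnd _ hb
      rw [sum_char_eq_zero (fun x : realV C => ψ₁ (-δ * ((x : V5) ⬝ᵥ (Bf u : V5)))) (fun a b => hψmul _ a b) hx, mul_zero]
    · refine Finset.sum_eq_zero fun x _ => ?_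
      rw [Pi.single_eq_of_ne (fun h => ha (add_eq_left.1 h)), mul_zero]
  have hvec : finrank ℂ (Fun5 C) = q ^ 5 := by
    rw [Module.finrank_fintype_fun_eq_card]
    have hbij : Function.Bijective fun u => (Af u, Bf u) := by
      constructor
      · intro u v h
        simp only [Prod.mk.injEq] at h
        funext i
        rw [hA u i, hA v i, h.1, h.2]
      · rintro ⟨a, b⟩
        refine ⟨fun i => (a : V5) i + ω * (b : V5) i, ?_⟩
        have hb : Bf (fun i => (a : V5) i + ω * (b : V5) i) = b := Subtype.ext (funext fun i => by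
          show ((a : V5) i + ω * (b : V5) i - C.bar ((a : V5) i + ω * (b : V5) i)) / δ = _
          rw [map_add, map_mul, a.2 i, b.2 i, hδ]
          rw [div_eq_iff (hδ ▸ hδ0)]; ring)
        refine Prod.ext (Subtype.ext (funext fun i => ?_)) hb
        show (a : V5) i + ω * (b : V5) i - ω * (Bf _ : V5) i = _
        rw [hb]; ring
    have h := Fintype.card_of_bijective hbij
    rw [Fintype.card_prod, Fintype.card_fun, Fintype.card_fin, hF, ← pow_mul, mul_comm 2 5, pow_mul, sq] at h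
    exact (Nat.mul_self_inj.1 h.symm)
  refine ⟨W, ψ₁, hz, hmul, htr, ?_, ?_, fun v hv => ?_, hvec⟩
  · rw [Fintype.linearIndependent_iff]
    intro c hc v₀
    have h := congrArg (fun X => LinearMap.trace ℂ _ (W (-v₀) * X)) hc
    simp only [Finset.mul_sum, mul_smul_comm, map_sum, map_smul, mul_zero, map_zero, hmul, smul_eq_mul] at h
    rw [Finset.sum_eq_single v₀ (fun v _ hv => by
        rw [htr _ (fun e => hv (neg_add_eq_zero.1 e).symm), mul_zero, mul_zero])
      (fun h => absurd (Finset.mem_univ _) h), neg_add_cancel, hz, LinearMap.trace_one, hvec] at h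
    have hq : q ≠ 0 := fun h => by rw [h] at hF; simp at hF
    simp only [mul_eq_zero, Nat.cast_eq_zero, pow_eq_zero_iff', hq, false_and, or_false] at h
    exact h.resolve_right (ψ₁.val_isUnit _).ne_zero
  · rw [Module.finrank_linearMap, hvec, Fintype.card_fun, Fintype.card_fin, hF]
    ring
  · by_cases hb : Bf v = 0
    · have ha : Af v ≠ 0 := fun ha => hv (funext fun i => by rw [hA v i, ha, hb]; simp)
      obtain ⟨x, hx⟩ := hnd _ ha
      refine ⟨fun i => ω * (-(x : V5) i), ?_⟩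
      have hu1 : Bf (fun i => ω * (-(x : V5) i)) = -x := Subtype.ext (funext fun i => by
        show (ω * (-(x : V5) i) - C.bar (ω * (-(x : V5) i))) / δ = -((x : V5) i)
        rw [map_mul, map_neg, x.2 i, div_eq_iff hδ0, hδ]; ring)
      rw [hswap, hb, hu1, AddSubgroup.coe_zero, dotProduct_zero, zero_sub, AddSubgroup.coe_neg, dotProduct_neg,
        neg_neg, dotProduct_comm]
      exact hx
    · obtain ⟨x, hx⟩ := hnd _ hb
      refine ⟨(x : V5), ?_⟩
      have hu1 : Bf (x : V5) = 0 := Subtype.ext (funext fun i => by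
        show ((x : V5) i - C.bar ((x : V5) i)) / δ = 0
        rw [x.2 i, sub_self, zero_div])
      have hu2 : Af (x : V5) = x := Subtype.ext (funext fun i => by
        show (x : V5) i - ω * (Bf (x : V5) : V5) i = _
        rw [hu1]; simp)
      rw [hswap, hu1, hu2, AddSubgroup.coe_zero, dotProduct_zero, sub_zero]
      exact hx

end CfsgLib.Perm.Trans.UnitFive.Singer
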