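import Cfsg.Agent.Lib.Perm.Trans.UnitFive.Singer.Heis

/-!
# Intertwiners of the Heisenberg operators

Every isometry has an intertwiner, unique up to a scalar; the product of its trace with the trace of its inverse is
the number of fixed vectors.
-/

set_option autoImplicit false
set_option linter.all false

namespace CfsgLib.Perm.Trans.UnitFive.Singer

open scoped Matrix ComplexConjugate Classical
open Matrix Cfsg Module

/-- the trace of the inverse of an operator of finite order is the conjugate trace -/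
theorem trace_inv_eq_conj {V : Type*} [AddCommGroup V] [Module ℂ V] [FiniteDimensional ℂ V] (T : (Module.End ℂ V)ˣ)
    {k : ℕ} (hk : 0 < k) (hT : T ^ k = 1) :
    LinearMap.trace ℂ V (T⁻¹).val = conj (LinearMap.trace ℂ V T.val) := by
  haveI : Finite (Subgroup.zpowers T) :=
    (isOfFinOrder_iff_pow_eq_one.2 ⟨k, hk, hT⟩).finite_zpowers.to_subtype
  let ρ : Representation ℂ (Subgroup.zpowers T) V := (Units.coeHom _).comp (Subgroup.zpowers T).subtype
  have h := CfsgLib.Char.char_inv ρ ⟨T, Subgroup.mem_zpowers T⟩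
  exact h

variable {F : Type*} [Field F] [Fintype F] {q : ℕ} {C : CfsgLib.SU.UCtx F q}
  {W : (Fin 5 → F) → Module.End ℂ (Fun5 C)} {ψ : AddChar F ℂ}

local notation "V5" => (Fin 5 → F)
local notation "M5" => Matrix (Fin 5) (Fin 5) F
local notation "G5" => GL (Fin 5) F

theorem Heis.q_pos (H : Heis C W ψ) : 0 < q := by
  have h := H.dim
  rw [Module.finrank_fintype_fun_eq_card] at h
  refine Nat.pos_of_ne_zero fun h0 => ?_
  have h2 : Fintype.card ↥(realV C) = 0 := by
    rw [h, show q ^ 5 = 0 by simp [h0]]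
  exact Fintype.card_ne_zero h2

/-- the basis of operators -/
noncomputable def Heis.basis (H : Heis C W ψ) : Module.Basis V5 ℂ (Module.End ℂ (Fun5 C)) :=
  basisOfLinearIndependentOfCardEqFinrank H.li H.card

theorem Heis.basis_apply (H : Heis C W ψ) (v : V5) : H.basis v = W v := by simp [Heis.basis]

/-- an intertwiner of an isometry -/
def IsInter (W : V5 → Module.End ℂ (Fun5 C)) (g : G5) (T : (Module.End ℂ (Fun5 C))ˣ) : Prop :=
  ∀ v, T.val * W v = W ((g : M5) *ᵥ v) * T.val

theorem isInter_one : IsInter W (1 : G5) 1 := fun v => by simp [one_mulVec]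

theorem IsInter.mul {g g' : G5} {S T : (Module.End ℂ (Fun5 C))ˣ} (hS : IsInter W g S) (hT : IsInter W g' T) :
    IsInter W (g * g') (S * T) := fun v => by
  rw [Units.val_mul, mul_assoc, hT, ← mul_assoc, hS, mulVec_mulVec, ← Units.val_mul, mul_assoc]

theorem IsInter.pow {g : G5} {T : (Module.End ℂ (Fun5 C))ˣ} (hT : IsInter W g T) :
    ∀ k : ℕ, IsInter W (g ^ k) (T ^ k)
  | 0 => by simpa using isInter_one
  | k + 1 => by rw [pow_succ, pow_succ]; exact (hT.pow k).mul hT

theorem IsInter.inv {g : G5} {T : (Module.End ℂ (Fun5 C))ˣ} (hT : IsInter W g T) : IsInter W g⁻¹ T⁻¹ := fun v => by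
  have h := hT (((g⁻¹ : G5) : M5) *ᵥ v)
  rw [mulVec_mulVec, Units.mul_inv, one_mulVec] at h
  rw [← mul_one ((T⁻¹).val * W v), ← Units.mul_inv T, ← mul_assoc, mul_assoc (T⁻¹).val, ← h, ← mul_assoc,
    Units.inv_mul, one_mul]

theorem Heis.scalar_of_commute (H : Heis C W ψ) {X : Module.End ℂ (Fun5 C)} (h : ∀ v, X * W v = W v * X) :
    ∃ c : ℂ, X = c • 1 := by
  classical
  have hall : ∀ Y, X * Y = Y * X := fun Y => by
    have e : LinearMap.mulLeft ℂ X = LinearMap.mulRight ℂ X := H.basis.ext fun v => by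
      simpa [H.basis_apply] using h v
    exact LinearMap.congr_fun e Y
  refine ⟨X (Pi.single 0 1) 0, LinearMap.ext fun f => ?_⟩
  let E : Module.End ℂ (Fun5 C) := (LinearMap.proj (0 : ↥(realV C))).smulRight f
  have := LinearMap.congr_fun (hall E) (Pi.single 0 1)
  simpa [E] using this

/-- intertwiners are unique up to scalars -/
theorem Heis.inter_unique (H : Heis C W ψ) {g : G5} {S T : (Module.End ℂ (Fun5 C))ˣ} (hS : IsInter W g S)
    (hT : IsInter W g T) : ∃ c : ℂ, c ≠ 0 ∧ T.val = c • S.val := by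
  have h : IsInter W (g⁻¹ * g) (S⁻¹ * T) := hS.inv.mul hT
  rw [inv_mul_cancel] at h
  obtain ⟨c, hc⟩ := H.scalar_of_commute (X := (S⁻¹ * T).val) fun v => by
    have := h v
    rwa [Units.val_one, one_mulVec] at this
  have hTS : T.val = c • S.val := by
    rw [← mul_inv_cancel_left S T, Units.val_mul, hc, mul_smul_comm, mul_one]
  refine ⟨c, fun h0 => ?_, hTS⟩
  rw [h0, zero_smul] at hTS
  have hne : (1 : Module.End ℂ (Fun5 C)) ≠ 0 := fun e => by
    have h2 := congrArg (fun X => X (Pi.single 0 1) 0) e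
    simp at h2
  exact hne (by rw [← Units.mul_inv T, hTS, zero_mul])

theorem hermForm_isometry {g : G5} (hg : g ∈ Cfsg.GU 5 F q) (u v : V5) :
    Cfsg.hermForm 5 F q ((g : M5) *ᵥ u) ((g : M5) *ᵥ v) = Cfsg.hermForm 5 F q u v := hg u v

theorem Heis.exists_inter (H : Heis C W ψ) {g : G5} (hg : g ∈ Cfsg.GU 5 F q) :
    ∃ T : (Module.End ℂ (Fun5 C))ˣ, IsInter W g T := by
  classical
  let σ : V5 ≃ V5 :=
    { toFun := fun v => (g : M5) *ᵥ v
      invFun := fun v => ((g⁻¹ : G5) : M5) *ᵥ v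
      left_inv := fun v => by simp [mulVec_mulVec]
      right_inv := fun v => by simp [mulVec_mulVec] }
  let Φ := H.basis.equiv H.basis σ
  have hΦ : ∀ v, Φ (W v) = W ((g : M5) *ᵥ v) := fun v => by
    rw [← H.basis_apply v, Module.Basis.equiv_apply, H.basis_apply]; rfl
  have hmul : ∀ x y, Φ (x * y) = Φ x * Φ y := by
    have e : (LinearMap.mul ℂ (Module.End ℂ (Fun5 C))).compr₂ Φ.toLinearMap =
        (LinearMap.mul ℂ (Module.End ℂ (Fun5 C))).compl₁₂ Φ.toLinearMap Φ.toLinearMap := by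
      refine H.basis.ext fun u => H.basis.ext fun v => ?_
      simp only [LinearMap.compr₂_apply, LinearMap.compl₁₂_apply, LinearMap.mul_apply', LinearEquiv.coe_coe,
        H.basis_apply]
      rw [hΦ, hΦ, H.mul, H.mul, map_smul, hΦ, Matrix.mulVec_add, hermForm_isometry hg]
    exact fun x y => LinearMap.congr_fun (LinearMap.congr_fun e x) y
  have h1 : Φ 1 = 1 := by
    have := hΦ 0
    rwa [Matrix.mulVec_zero, H.zero] at this
  obtain ⟨T, hT⟩ := (AlgEquiv.ofLinearEquiv Φ h1 hmul).eq_linearEquivConjAlgEquiv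
  refine ⟨LinearMap.GeneralLinearGroup.ofLinearEquiv T, fun v => LinearMap.ext fun f => ?_⟩
  have h := LinearMap.congr_fun (AlgEquiv.congr_fun hT (W v)) (T f)
  rw [show AlgEquiv.ofLinearEquiv Φ h1 hmul (W v) = Φ (W v) from rfl, hΦ, LinearEquiv.conjAlgEquiv_apply] at h
  simp only [LinearMap.comp_apply, LinearEquiv.coe_coe, LinearEquiv.symm_apply_apply] at h
  exact h.symm

/-- an intertwiner of finite order -/
theorem Heis.exists_inter_pow (H : Heis C W ψ) {g : G5} (hg : g ∈ Cfsg.GU 5 F q) {k : ℕ} (hk : 0 < k)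
    (hgk : g ^ k = 1) : ∃ T : (Module.End ℂ (Fun5 C))ˣ, IsInter W g T ∧ T ^ k = 1 := by
  obtain ⟨T, hT⟩ := H.exists_inter hg
  obtain ⟨c, hc0, hc⟩ := H.inter_unique (isInter_one (W := W)) (hgk ▸ hT.pow k)
  obtain ⟨r, hr⟩ := IsAlgClosed.exists_pow_nat_eq c⁻¹ hk
  have hr0 : r ≠ 0 := fun h => inv_ne_zero hc0 (by rw [← hr, h, zero_pow hk.ne'])
  refine ⟨Units.map (algebraMap ℂ (Module.End ℂ (Fun5 C))).toMonoidHom (Units.mk0 r hr0) * T, fun v => ?_, ?_⟩
  · show algebraMap ℂ (Module.End ℂ (Fun5 C)) r * T.val * W v = W ((g : M5) *ᵥ v) * (algebraMap ℂ _ r * T.val)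
    rw [Algebra.algebraMap_eq_smul_one, smul_mul_assoc, one_mul, smul_mul_assoc, hT, mul_smul_comm]
  · refine Units.ext ?_
    rw [Units.val_pow_eq_pow_val, Units.val_mul, Units.val_one]
    show (algebraMap ℂ (Module.End ℂ (Fun5 C)) r * T.val) ^ k = 1
    rw [(Algebra.commute_algebraMap_left r T.val).mul_pow, ← map_pow, hr, ← Units.val_pow_eq_pow_val, hc, Units.val_one,
      Algebra.algebraMap_eq_smul_one, smul_mul_assoc, one_mul, smul_smul, inv_mul_cancel₀ hc0, one_smul]

/-- the inverse operators -/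
noncomputable def winv (W : V5 → Module.End ℂ (Fun5 C)) (ψ : AddChar F ℂ) (u : V5) : Module.End ℂ (Fun5 C) :=
  (ψ (Cfsg.hermForm 5 F q u (-u)))⁻¹ • W (-u)

theorem Heis.mul_winv (H : Heis C W ψ) (u : V5) : W u * winv W ψ u = 1 := by
  rw [winv, mul_smul_comm, H.mul, add_neg_cancel, H.zero, smul_smul, inv_mul_cancel₀ (ψ.val_isUnit _).ne_zero,
    one_smul]

theorem Heis.sum_conj (H : Heis C W ψ) (X : Module.End ℂ (Fun5 C)) :
    ∑ u : V5, W u * X * winv W ψ u = ((q : ℂ) ^ 5 * LinearMap.trace ℂ _ X) • 1 := by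
  classical
  have hf := Unit.isUnitary_hermForm C (n := 5)
  have hq := H.q_pos
  have hF : (Fintype.card V5 : ℂ) = (q : ℂ) ^ 5 * (q : ℂ) ^ 5 := by
    rw [H.card, Module.finrank_linearMap, H.dim]; push_cast; ring
  have e : ∑ u : V5, (LinearMap.mulRight ℂ (winv W ψ u)).comp (LinearMap.mulLeft ℂ (W u)) =
      (LinearMap.trace ℂ (Fun5 C)).smulRight (((q : ℂ) ^ 5) • (1 : Module.End ℂ (Fun5 C))) := by
    refine H.basis.ext fun v => ?_
    rw [H.basis_apply, LinearMap.sum_apply, LinearMap.smulRight_apply]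
    simp only [LinearMap.comp_apply, LinearMap.mulLeft_apply, LinearMap.mulRight_apply]
    have hterm : ∀ u : V5, W u * W v * winv W ψ u =
        ψ (Cfsg.hermForm 5 F q u v - Cfsg.hermForm 5 F q v u) • W v := fun u => by
      have h1 : W u * W v = ψ (Cfsg.hermForm 5 F q u v - Cfsg.hermForm 5 F q v u) • (W v * W u) := by
        rw [H.mul, H.mul, smul_smul, ← AddChar.map_add_eq_mul, sub_add_cancel, add_comm v u]
      rw [h1, smul_mul_assoc, mul_assoc, H.mul_winv, mul_one]
    rw [Finset.sum_congr rfl fun u _ => hterm u, ← Finset.sum_smul]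
    by_cases hv : v = 0
    · subst hv
      simp only [CfsgLib.Perm.Trans.herm_zero_left hf, CfsgLib.Perm.Trans.herm_zero_right hf, sub_zero,
        AddChar.map_zero_eq_one, Finset.sum_const, Finset.card_univ, nsmul_eq_mul, mul_one, H.zero]
      rw [LinearMap.trace_one, H.dim, hF, smul_smul]
      push_cast
      rfl
    · obtain ⟨a, ha⟩ := H.skew v hv
      rw [sum_char_eq_zero (fun u : V5 => ψ (Cfsg.hermForm 5 F q u v - Cfsg.hermForm 5 F q v u)) (fun a b => by
        rw [hf.add_left, CfsgLib.Perm.Trans.herm_add_right hf, add_sub_add_comm, AddChar.map_add_eq_mul]) ha,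
        H.trace v hv, zero_smul, zero_smul]
  have h := LinearMap.congr_fun e X
  rw [LinearMap.sum_apply, LinearMap.smulRight_apply] at h
  simp only [LinearMap.comp_apply, LinearMap.mulLeft_apply, LinearMap.mulRight_apply] at h
  rw [h, smul_smul, mul_comm]

/-- the traces of an intertwiner and its inverse -/
theorem Heis.trace_mul_trace_inv (H : Heis C W ψ) {g : G5} (hg : g ∈ Cfsg.GU 5 F q)
    {T : (Module.End ℂ (Fun5 C))ˣ} (hT : IsInter W g T) :
    LinearMap.trace ℂ _ T.val * LinearMap.trace ℂ _ (T⁻¹).val =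
      (Nat.card {v : V5 // (g : M5) *ᵥ v = v} : ℂ) := by
  classical
  have hq := H.q_pos
  have hTi : ∀ u, T.val * winv W ψ u = winv W ψ ((g : M5) *ᵥ u) * T.val := fun u => by
    rw [winv, winv, mul_smul_comm, hT, smul_mul_assoc, ← mulVec_neg, hermForm_isometry hg]
  have h := congrArg (fun Y => LinearMap.trace ℂ _ (Y * (T⁻¹).val)) (H.sum_conj T.val)
  simp only [Finset.sum_mul, map_sum, smul_mul_assoc, one_mul, map_smul, smul_eq_mul] at h
  have hterm : ∀ u : V5, LinearMap.trace ℂ _ (W u * T.val * winv W ψ u * (T⁻¹).val) =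
      if (g : M5) *ᵥ u = u then ((q : ℂ) ^ 5) else 0 := fun u => by
    rw [mul_assoc (W u), hTi, ← mul_assoc, mul_assoc (W u * winv W ψ _), Units.mul_inv, mul_one]
    by_cases hu : (g : M5) *ᵥ u = u
    · rw [if_pos hu, hu, H.mul_winv, LinearMap.trace_one, H.dim]
      push_cast
      rfl
    · rw [if_neg hu, winv, mul_smul_comm, H.mul, map_smul, map_smul,
        H.trace _ (fun e => hu (add_neg_eq_zero.1 e).symm), smul_zero, smul_zero]
  rw [Finset.sum_congr rfl fun u _ => hterm u, ← Finset.sum_filter, Finset.sum_const, nsmul_eq_mul] at h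
  have hq5 : (q : ℂ) ^ 5 ≠ 0 := pow_ne_zero _ (Nat.cast_ne_zero.2 hq.ne')
  have hc : Nat.card {v : V5 // (g : M5) *ᵥ v = v} = (Finset.univ.filter fun v : V5 => (g : M5) *ᵥ v = v).card := by
    rw [Nat.card_eq_fintype_card, Fintype.card_subtype]
  rw [hc]
  refine mul_left_cancel₀ hq5 ?_
  linear_combination -h

theorem Heis.norm_trace_sq (H : Heis C W ψ) {g : G5} (hg : g ∈ Cfsg.GU 5 F q)
    {T : (Module.End ℂ (Fun5 C))ˣ} (hT : IsInter W g T) {k : ℕ} (hk : 0 < k) (hTk : T ^ k = 1) :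
    ‖LinearMap.trace ℂ _ T.val‖ ^ 2 = (Nat.card {v : V5 // (g : M5) *ᵥ v = v} : ℝ) := by
  have h := H.trace_mul_trace_inv hg hT
  rw [trace_inv_eq_conj T hk hTk, Complex.mul_conj, Complex.normSq_eq_norm_sq] at h
  exact_mod_cast h

/-- intertwiners of commuting elements commute when one of them has nonzero trace -/
theorem Heis.inter_commute (H : Heis C W ψ) {g z : G5} (hgz : g * z = z * g) {S Z : (Module.End ℂ (Fun5 C))ˣ}
    (hS : IsInter W g S) (hZ : IsInter W z Z) (htr : LinearMap.trace ℂ _ Z.val ≠ 0) : S * Z = Z * S := by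
  have h : IsInter W (g * z * g⁻¹) (S * Z * S⁻¹) := (hS.mul hZ).mul hS.inv
  rw [show g * z * g⁻¹ = z by rw [hgz, mul_inv_cancel_right]] at h
  obtain ⟨c, -, hc⟩ := H.inter_unique hZ h
  have h1 := congrArg (LinearMap.trace ℂ (Fun5 C)) hc
  rw [map_smul, Units.val_mul, LinearMap.trace_mul_comm, ← Units.val_mul, ← mul_assoc, inv_mul_cancel, one_mul,
    smul_eq_mul] at h1
  have hc1 : c = 1 := mul_right_cancel₀ htr (by rw [← h1, one_mul])
  rw [hc1, one_smul] at hc
  exact mul_inv_eq_iff_eq_mul.1 (Units.ext hc)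

end CfsgLib.Perm.Trans.UnitFive.Singer
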