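import Cfsg.Agent.Lib.Perm.Trans.UnitFive.Singer.Eigen
import Cfsg.Agent.Lib.Classical.WeilSU.Final
import Cfsg.Agent.Lib.Perm.Elusive.ShiftEigen

/-!
# The small Weil character of the special unitary group of dimension five

The ratio of the determinants on the two eigenspaces linearises the intertwiners on the smaller one.
-/

set_option autoImplicit false
set_option linter.all false

namespace CfsgLib.Perm.Trans.UnitFive.Singer

open scoped Matrix ComplexConjugate Classical
open Matrix Cfsg Cfsg.Geo Module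

section Ratio

variable {V : Type*} [AddCommGroup V] [Module ℂ V] {A B : Submodule ℂ V}

/-- an operator on the first subspace, scaled by the ratio of the two determinants -/
noncomputable def ratioRes (T : Module.End ℂ V) (hA : ∀ f ∈ A, T f ∈ A) (hB : ∀ f ∈ B, T f ∈ B) : Module.End ℂ A :=
  (LinearMap.det (T.restrict hA) / LinearMap.det (T.restrict hB)) • T.restrict hA

theorem ratioRes_mul (S T : Module.End ℂ V) (hSA : ∀ f ∈ A, S f ∈ A) (hSB : ∀ f ∈ B, S f ∈ B)
    (hTA : ∀ f ∈ A, T f ∈ A) (hTB : ∀ f ∈ B, T f ∈ B) (hA : ∀ f ∈ A, (S * T) f ∈ A) (hB : ∀ f ∈ B, (S * T) f ∈ B) :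
    ratioRes (S * T) hA hB = ratioRes S hSA hSB * ratioRes T hTA hTB := by
  have e1 : (S * T).restrict hA = S.restrict hSA * T.restrict hTA := LinearMap.ext fun f => rfl
  have e2 : (S * T).restrict hB = S.restrict hSB * T.restrict hTB := LinearMap.ext fun f => rfl
  simp only [ratioRes]
  rw [e1, e2, map_mul, map_mul, smul_mul_smul_comm, mul_div_mul_comm]

theorem ratioRes_smul (c : ℂ) (hc : c ≠ 0) (T : Module.End ℂ V) (hTA : ∀ f ∈ A, T f ∈ A) (hTB : ∀ f ∈ B, T f ∈ B)
    (hA : ∀ f ∈ A, (c • T) f ∈ A) (hB : ∀ f ∈ B, (c • T) f ∈ B) (hdim : finrank ℂ B = finrank ℂ A + 1) :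
    ratioRes (c • T) hA hB = ratioRes T hTA hTB := by
  have e1 : (c • T).restrict hA = c • T.restrict hTA := LinearMap.ext fun f => rfl
  have e2 : (c • T).restrict hB = c • T.restrict hTB := LinearMap.ext fun f => rfl
  simp only [ratioRes]
  rw [e1, e2, LinearMap.det_smul, LinearMap.det_smul, hdim, pow_succ, smul_smul]
  congr 1
  rw [mul_assoc (c ^ finrank ℂ A) c, mul_div_mul_left _ _ (pow_ne_zero _ hc)]
  field_simp

theorem ratioRes_one (hA : ∀ f ∈ A, (1 : Module.End ℂ V) f ∈ A) (hB : ∀ f ∈ B, (1 : Module.End ℂ V) f ∈ B) :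
    ratioRes 1 hA hB = 1 := by
  have e1 : (1 : Module.End ℂ V).restrict hA = 1 := LinearMap.ext fun f => rfl
  have e2 : (1 : Module.End ℂ V).restrict hB = 1 := LinearMap.ext fun f => rfl
  simp only [ratioRes]
  rw [e1, e2, map_one, map_one, div_one, one_smul]

end Ratio

variable {F : Type*} [Field F] [Fintype F] {q : ℕ} {C : CfsgLib.SU.UCtx F q}
  {W : (Fin 5 → F) → Module.End ℂ (Fun5 C)} {ψ : AddChar F ℂ} {K : Subalgebra F (Matrix (Fin 5) (Fin 5) F)}
  {γ y : GL (Fin 5) F}

local notation "V5" => (Fin 5 → F)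
local notation "M5" => Matrix (Fin 5) (Fin 5) F
local notation "G5" => GL (Fin 5) F

/-- a hom to units of the complex numbers kills the special unitary group -/
theorem hom_eq_one (hF : Fintype.card F = q ^ 2) (f : suG F q →* ℂˣ) (g : suG F q) : f g = 1 := by
  let e : Cfsg.SU 5 F q →* suG F q :=
    { toFun := fun A => ⟨Matrix.SpecialLinearGroup.toGL A.1, mem_suG.2 ⟨fun u v => A.2 u v, A.1.2⟩⟩
      map_one' := Subtype.ext (map_one Matrix.SpecialLinearGroup.toGL)
      map_mul' := fun A B => Subtype.ext (map_mul Matrix.SpecialLinearGroup.toGL A.1 B.1) }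
  have hp := CfsgLib.Classical.WeilSU.su_perfect (F := F) (q := q) hF (n := 5) (by norm_num) (by omega)
  have h1 : ∀ A, f (e A) = 1 := fun A => by
    have h := Abelianization.commutator_subset_ker (f.comp e) (hp ▸ Subgroup.mem_top A : A ∈ commutator _)
    exact h
  have := h1 ⟨⟨(g : G5).1, (mem_suG.1 g.2).2⟩, fun u v => (mem_suG.1 g.2).1 u v⟩
  convert this using 2
  exact Subtype.ext (Units.ext rfl)

variable {Γ : (Module.End ℂ (Fun5 C))ˣ} {l0 w₀ w₁ : ℂ}

set_option maxHeartbeats 1000000 in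
theorem exists_weilChar (D : Sing q K) (G : Gens q K γ y) : ∃ χ : suG F q → ℂ, WeilChar q γ χ := by
  obtain ⟨C⟩ := Unit.ctx_of_card D.card
  obtain ⟨W, ψ, H⟩ := exists_heis C D.card
  obtain ⟨Γ, l0, w₀, w₁, S⟩ := H.exists_spec G D
  have hq2 := D.two_le
  have hphi3 : 3 ≤ phi q := by
    have h := phi_add q
    have h4 : 2 * q ^ 3 ≤ q ^ 4 := by rw [pow_succ' q 3]; exact Nat.mul_le_mul_right _ hq2
    have h2 : 2 * q ≤ q ^ 2 := by rw [sq]; exact Nat.mul_le_mul_right _ hq2
    have h3 : q ≤ q ^ 3 := Nat.le_self_pow (by norm_num) q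
    omega
  obtain ⟨A, hA⟩ : ∃ A, A = LinearMap.range (S.P w₀) := ⟨_, rfl⟩
  obtain ⟨B, hB⟩ : ∃ B, B = LinearMap.range (S.P w₁) := ⟨_, rfl⟩
  have hdA : finrank ℂ A = phi q - 1 := hA ▸ S.finrank_zero
  have hdim : finrank ℂ B = finrank ℂ A + 1 := by rw [hdA, hB, S.finrank_one]; omega
  have hmA : ∀ {g : G5} {T : (Module.End ℂ (Fun5 C))ˣ}, IsInter W g T → ∀ f ∈ A, T.val f ∈ A :=
    fun hT => hA ▸ mapsTo_range (S.commute_P H G D hT w₀)
  have hmB : ∀ {g : G5} {T : (Module.End ℂ (Fun5 C))ˣ}, IsInter W g T → ∀ f ∈ B, T.val f ∈ B :=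
    fun hT => hB ▸ mapsTo_range (S.commute_P H G D hT w₁)
  choose T hT using fun g : suG F q => H.exists_inter (g := (g : G5)) g.2.1
  have key : ∀ (g : suG F q) {U : (Module.End ℂ (Fun5 C))ˣ} (hU : IsInter W (g : G5) U),
      ratioRes (T g).val (hmA (hT g)) (hmB (hT g)) = ratioRes U.val (hmA hU) (hmB hU) := fun g U hU => by
    obtain ⟨c, hc0, hc⟩ := H.inter_unique hU (hT g)
    have h1 : ∀ f ∈ A, (c • U.val) f ∈ A := fun f hf => A.smul_mem c (hmA hU f hf)
    have h2 : ∀ f ∈ B, (c • U.val) f ∈ B := fun f hf => B.smul_mem c (hmB hU f hf)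
    rw [← ratioRes_smul c hc0 U.val (hmA hU) (hmB hU) h1 h2 hdim]
    simp only [hc]
  let ρ : Representation ℂ (suG F q) A :=
    { toFun := fun g => ratioRes (T g).val (hmA (hT g)) (hmB (hT g))
      map_one' := by
        rw [key 1 (U := 1) isInter_one]
        exact ratioRes_one _ _
      map_mul' := fun g h => by
        rw [key (g * h) ((hT g).mul (hT h))]
        exact ratioRes_mul (T g).val (T h).val _ _ _ _ _ _ }
  have hρ : ∀ g, ρ g = ratioRes (T g).val (hmA (hT g)) (hmB (hT g)) := fun g => rfl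
  have htr : ∀ (g : suG F q) {U : (Module.End ℂ (Fun5 C))ˣ} (hU : IsInter W (g : G5) U), ρ.character g =
      (LinearMap.det (U.val.restrict (hmA hU)) / LinearMap.det (U.val.restrict (hmB hU))) *
        LinearMap.trace ℂ _ (U.val * S.P w₀) := fun g U hU => by
    show LinearMap.trace ℂ A (ρ g) = _
    rw [hρ, key g hU]
    simp only [ratioRes, map_smul, smul_eq_mul]
    congr 1
    subst hA
    exact trace_restrict_range (proj_idem (by omega) S.w₀_pow S.z_pow) _
  have hfix : ∀ f ∈ A, S.P w₀ f = f := fun f hf => proj_apply_mem (by omega) S.w₀_pow S.z_pow (hA ▸ hf)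
  have hne1 : (1 : Module.End ℂ A) ≠ 0 := fun h => by
    have h' := congrArg (LinearMap.trace ℂ A) h
    rw [LinearMap.trace_one, map_zero, hdA, Nat.cast_eq_zero] at h'
    omega
  have hone : ∀ a : ℂ, a • (1 : Module.End ℂ A) = 1 → a = 1 := fun a h => by
    have h2 := congrArg (LinearMap.trace ℂ A) h
    rw [map_smul, LinearMap.trace_one, hdA, smul_eq_mul] at h2
    exact (mul_eq_right₀ (Nat.cast_ne_zero.2 (by omega))).1 h2
  -- the ratio for powers of the generator
  obtain ⟨c, hc⟩ : ∃ c, c = LinearMap.det (Γ.val.restrict (hmA S.inter)) / LinearMap.det (Γ.val.restrict (hmB S.inter)) :=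
    ⟨_, rfl⟩
  have hcpow : ∀ l : ℕ, LinearMap.det ((Γ ^ l).val.restrict (hmA (S.inter.pow l))) /
      LinearMap.det ((Γ ^ l).val.restrict (hmB (S.inter.pow l))) = c ^ l := fun l => by
    induction l with
    | zero =>
      have e1 : (Γ ^ 0).val.restrict (hmA (S.inter.pow 0)) = 1 := LinearMap.ext fun f => Subtype.ext (by simp)
      have e2 : (Γ ^ 0).val.restrict (hmB (S.inter.pow 0)) = 1 := LinearMap.ext fun f => Subtype.ext (by simp)
      rw [e1, e2, map_one, map_one, div_one, pow_zero]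
    | succ l ih =>
      have e1 : (Γ ^ (l + 1)).val.restrict (hmA (S.inter.pow (l + 1))) =
          (Γ ^ l).val.restrict (hmA (S.inter.pow l)) * Γ.val.restrict (hmA S.inter) :=
        LinearMap.ext fun f => Subtype.ext (by simp [pow_succ])
      have e2 : (Γ ^ (l + 1)).val.restrict (hmB (S.inter.pow (l + 1))) =
          (Γ ^ l).val.restrict (hmB (S.inter.pow l)) * Γ.val.restrict (hmB S.inter) :=
        LinearMap.ext fun f => Subtype.ext (by simp [pow_succ])
      rw [e1, e2, map_mul, map_mul, mul_div_mul_comm, ih, ← hc, pow_succ]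
  have hpowc : ∀ (g : suG F q) (l : ℕ), (g : G5) = γ ^ l →
      ρ.character g = ((if phi q ∣ l then (phi q : ℂ) else 0) - 1) * (c * l0) ^ l := fun g l hg => by
    rw [htr g (hg ▸ S.inter.pow l), hcpow, S.trace_pow_P, mul_pow]
    ring
  have hdet : ∀ g, LinearMap.det (ρ g) = 1 := fun g => by
    let f : suG F q →* ℂˣ := MonoidHom.toHomUnits (LinearMap.det.comp ρ)
    have h := hom_eq_one D.card f g
    simpa [f] using congrArg Units.val h
  have hchar1 : ρ.character 1 = ((phi q - 1 : ℕ) : ℂ) := by rw [Representation.char_one, hdA]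
  -- scalar elements act trivially
  obtain ⟨t, ht⟩ : ∃ t : suG F q, (t : G5) = tg q γ := ⟨⟨_, G.t_mem⟩, rfl⟩
  have htpow : ∀ i : ℕ, ((t ^ i : suG F q) : G5) = γ ^ ((q + 1) * i) := fun i => by
    rw [Subgroup.coe_pow, ht, tg, ← pow_mul]
  have hscal : ∀ z : suG F q, (∃ a : F, ((z : G5) : M5) = a • 1) → ρ z = 1 := fun z hz => by
    obtain ⟨a, ha⟩ := hz
    obtain ⟨i, hi⟩ := G.t_gen z.2 (ha ▸ K.smul_mem K.one_mem a)
    have hzi : z = t ^ i := Subtype.ext (by rw [Subgroup.coe_pow, ht, hi])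
    obtain ⟨k, hk⟩ : np q ∣ i := (G.t_scalar i).1 ⟨a, hi ▸ ha⟩
    obtain ⟨l, hl⟩ : phi q ∣ (q + 1) * i := by
      obtain ⟨m, hm⟩ : dd q ∣ q + 1 := Nat.gcd_dvd_right _ _
      exact ⟨m * k, by rw [← np_mul, hm, hk]; ring⟩
    have hU : IsInter W (z : G5) ((Γ ^ phi q) ^ l) := by
      rw [hzi, htpow, hl, pow_mul]
      exact (S.inter.pow _).pow l
    obtain ⟨α, hα⟩ : ∃ α : ℂ, ρ z = α • 1 := by
      refine ⟨LinearMap.det (((Γ ^ phi q) ^ l).val.restrict (hmA hU)) /
        LinearMap.det (((Γ ^ phi q) ^ l).val.restrict (hmB hU)) * (w₀ ^ l)⁻¹, ?_⟩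
      rw [hρ, key z hU, mul_smul, ratioRes]
      congr 1
      refine LinearMap.ext fun f => Subtype.ext ?_
      show ((Γ ^ phi q) ^ l).val (f : Fun5 C) = (w₀ ^ l)⁻¹ • (f : Fun5 C)
      have hw : w₀ ^ l ≠ 0 := pow_ne_zero _ fun h => by
        have := S.w₀_mul; rw [h, zero_mul] at this; exact zero_ne_one this
      have h := congrArg (fun X => X (f : Fun5 C)) (pow_mul_proj (show 0 < q + 1 by omega) S.w₀_pow S.z_pow l)
      simp only [Module.End.mul_apply, LinearMap.smul_apply] at h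
      rw [show proj (q + 1) w₀ (Γ ^ phi q).val (f : Fun5 C) = f from hfix f f.2] at h
      rw [Units.val_pow_eq_pow_val, eq_inv_smul_iff₀ hw]
      exact h
    have hd : z ^ dd q = 1 := Subtype.ext (by
      rw [hzi, ← pow_mul, Subgroup.coe_pow, ht, Subgroup.coe_one, ← orderOf_dvd_iff_pow_eq_one, G.order_t, ← np_mul, hk]
      exact ⟨k, by ring⟩)
    have hα1 : α ^ dd q = 1 := by
      have h := congrArg ρ hd
      rw [map_pow, hα, smul_pow, one_pow, map_one] at h
      exact hone _ h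
    have hαn : α ^ (phi q - 1) = 1 := by
      have h := hdet z
      rwa [hα, LinearMap.det_smul, map_one, mul_one, hdA] at h
    have hg : Nat.gcd (dd q) (phi q - 1) = 1 := by
      rcases dd_cases q with e | e <;> rw [e]
      · exact Nat.gcd_one_left _
      · exact Nat.prime_five.coprime_iff_not_dvd.2 fun h5 => by
          have h6 : 5 ∣ phi q := e ▸ dd_dvd q
          omega
    rw [hα, show α = 1 by rw [← pow_one α, ← hg]; exact pow_gcd_eq_one.2 ⟨hα1, hαn⟩, one_smul]
  -- the value on the Singer group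
  obtain ⟨κ, hκ⟩ : ∃ κ, κ = (c * l0) ^ (q + 1) := ⟨_, rfl⟩
  have hval : ∀ i : ℕ, ρ.character (t ^ i) = ((if np q ∣ i then (phi q : ℂ) else 0) - 1) * κ ^ i := fun i => by
    rw [hpowc _ _ (htpow i), hκ, ← pow_mul]
    congr 2
    refine if_congr ⟨fun h => ?_, fun h => ?_⟩ rfl rfl
    · have h2 := (G.scalar _).2 h
      rw [pow_mul] at h2
      exact (G.t_scalar i).1 h2
    · have h2 := (G.t_scalar i).2 h
      rw [tg, ← pow_mul] at h2
      exact (G.scalar _).1 h2
  have hnp1 : ∀ i, ¬ np q ∣ i → ρ.character (t ^ i) = -κ ^ i := fun i hi => by rw [hval, if_neg hi]; ring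
  have hκ1 : κ = 1 := by
    have hnp : 1 < np q := by
      by_contra h
      have h1 : np q = 1 := by have := np_pos q; omega
      have h7 := np_mul q
      rw [h1, one_mul] at h7
      have h11 : 2 ^ 4 * q ≤ q ^ 4 * q := Nat.mul_le_mul_right q (Nat.pow_le_pow_left hq2 4)
      have h12 : (q + 1) * phi q ≤ (q + 1) * 5 := Nat.mul_le_mul_left _
        (h7 ▸ Nat.le_of_dvd (by norm_num) (Nat.gcd_dvd_left 5 (q + 1) : dd q ∣ 5))
      have h9 := succ_mul_phi q
      have h10 : q ^ 4 * q = q ^ 5 := by ring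
      omega
    have hnp1' : ¬ np q ∣ 1 := fun h => by rw [Nat.dvd_one] at h; omega
    obtain ⟨j, -, hj⟩ := G.act y⁻¹ ((subalgebraNormalizer K).inv_mem G.y_mem.1)
    obtain ⟨yy, hyy⟩ : ∃ yy : suG F q, (yy : G5) = y := ⟨⟨y, G.y_mem.2⟩, rfl⟩
    have hconj : yy⁻¹ * t * yy = t ^ (q ^ 2) := Subtype.ext (by
      rw [Subgroup.coe_mul, Subgroup.coe_mul, Subgroup.coe_inv, hyy, htpow, ht, tg]
      have h := conj_pow (a := y⁻¹) (b := γ) (i := q + 1)
      rw [inv_inv, G.y_conj] at h
      rw [← h, ← pow_mul, mul_comm])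
    have hq2n : ¬ np q ∣ q ^ 2 := fun h => by
      obtain ⟨r, hr, hrn⟩ := Nat.exists_prime_and_dvd (show np q ≠ 1 by omega)
      have hrq : r ∣ q := hr.dvd_of_dvd_pow (hrn.trans h)
      have hrphi : r ∣ phi q := hrn.trans ⟨dd q, (np_mul q).symm⟩
      have h1 : r ∣ q ^ 5 + 1 := succ_mul_phi q ▸ hrphi.mul_left _
      exact hr.not_dvd_one ((Nat.dvd_add_right (hrq.trans (dvd_pow_self q (by norm_num)))).1 h1)
    have e1 : κ ^ (q ^ 2) = κ := by
      have h := Representation.char_conj ρ t yy⁻¹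
      rw [inv_inv, hconj, hnp1 _ hq2n, show ρ.character t = -κ by
        have h1 := hnp1 1 hnp1'
        rwa [pow_one, pow_one] at h1] at h
      exact neg_inj.1 h
    have hκ0 : κ ≠ 0 := fun h => by
      have hz := hval (np q)
      rw [if_pos dvd_rfl, h, zero_pow (np_pos q).ne', mul_zero] at hz
      have h2 : ρ.character (t ^ np q) = ρ.character 1 := by
        show LinearMap.trace ℂ A (ρ _) = LinearMap.trace ℂ A (ρ 1)
        rw [hscal _ (by rw [Subgroup.coe_pow, ht]; exact (G.t_scalar _).2 dvd_rfl), map_one ρ]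
      rw [h2, hchar1, Nat.cast_eq_zero] at hz
      omega
    have e2 : κ ^ (q ^ 2 - 1) = 1 := by
      refine mul_right_cancel₀ hκ0 ?_
      rw [← pow_succ, Nat.sub_add_cancel (Nat.one_le_pow _ _ (by omega)), e1, one_mul]
    have e3 : κ ^ np q = 1 := by
      have hz := hval (np q)
      have h2 : ρ.character (t ^ np q) = ρ.character 1 := by
        show LinearMap.trace ℂ A (ρ _) = LinearMap.trace ℂ A (ρ 1)
        rw [hscal _ (by rw [Subgroup.coe_pow, ht]; exact (G.t_scalar _).2 dvd_rfl), map_one ρ]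
      rw [if_pos dvd_rfl, h2, hchar1, Nat.cast_sub (by omega), Nat.cast_one] at hz
      have hne : ((phi q : ℂ) - 1) ≠ 0 := by
        rw [sub_ne_zero]; exact_mod_cast (show phi q ≠ 1 by omega)
      exact mul_left_cancel₀ hne (by rw [← hz, mul_one])
    have hg : Nat.gcd (np q) (q ^ 2 - 1) = 1 := by
      have := coprime_pow_sub_one hq2 (i := 1) (by norm_num) (by norm_num)
      rwa [mul_one] at this
    rw [← pow_one κ, ← hg]
    exact pow_gcd_eq_one.2 ⟨e3, e2⟩
  refine ⟨ρ.character, CfsgLib.Char.isCharacter_character ρ, hchar1, fun g z hz => ?_, fun ht' i hi => ?_, fun g hg => ?_⟩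
  · show LinearMap.trace ℂ A (ρ (g * z)) = LinearMap.trace ℂ A (ρ g)
    rw [map_mul, hscal z hz, mul_one]
  · rw [show (⟨tg q γ, ht'⟩ : suG F q) = t from Subtype.ext ht.symm, hnp1 i hi, hκ1, one_pow]
  · -- the bound
    obtain ⟨k, hk⟩ : ∃ k, k = orderOf (g : G5) := ⟨_, rfl⟩
    have hk0 : 0 < k := hk ▸ orderOf_pos _
    obtain ⟨U, hU, hUk⟩ := H.exists_inter_pow g.2.1 hk0 (hk ▸ pow_orderOf_eq_one (g : G5))
    obtain ⟨r, hr⟩ : ∃ r, r = LinearMap.det (U.val.restrict (hmA hU)) / LinearMap.det (U.val.restrict (hmB hU)) :=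
      ⟨_, rfl⟩
    have hr1 : ‖r‖ = 1 := by
      have h1 : ρ g ^ k = 1 := by
        rw [← map_pow, show g ^ k = 1 from Subtype.ext (by rw [Subgroup.coe_pow, hk, pow_orderOf_eq_one]; rfl), map_one]
      rw [hρ, key g hU] at h1
      simp only [ratioRes, ← hr, smul_pow] at h1
      have h2 : U.val.restrict (hmA hU) ^ k = 1 := by
        refine LinearMap.ext fun f => Subtype.ext ?_
        rw [Module.End.pow_restrict k]
        simp [← Units.val_pow_eq_pow_val, hUk]
      rw [h2] at h1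
      exact Complex.norm_eq_one_of_pow_eq_one (hone _ h1) hk0.ne'
    rw [htr g hU, ← hr, norm_mul, hr1, one_mul]
    obtain ⟨c0, hc0⟩ := (G.scalar (phi q)).2 dvd_rfl
    have hc0ne : c0 ≠ 0 := fun h => by rw [h, zero_smul] at hc0; exact Units.ne_zero _ hc0
    let μ : Fin (q + 1) → F := fun j => (c0 ^ (j : ℕ))⁻¹
    have hμ : Function.Injective μ := fun a b hab => by
      have hpow : ∀ a b : ℕ, a ≤ b → b < q + 1 → c0 ^ a = c0 ^ b → a = b := fun a b hle hb h => by
        obtain ⟨d, rfl⟩ := Nat.exists_eq_add_of_le hle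
        rw [pow_add] at h
        have hd : c0 ^ d = 1 := (mul_right_eq_self₀.1 h.symm).resolve_right (pow_ne_zero _ hc0ne)
        have h2 : γ ^ (phi q * d) = 1 := Units.ext (by
          rw [pow_mul, Units.val_pow_eq_pow_val, hc0, smul_pow, one_pow, hd, one_smul, Units.val_one])
        have h3 := orderOf_dvd_of_pow_eq_one h2
        rw [G.order, ← succ_mul_phi, mul_comm (q + 1), Nat.mul_dvd_mul_iff_left (phi_pos q)] at h3
        rcases Nat.eq_zero_or_pos d with h0 | h0
        · omega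
        · exact absurd (Nat.le_of_dvd h0 h3) (by omega)
      have h : c0 ^ (a : ℕ) = c0 ^ (b : ℕ) := inv_injective hab
      rcases le_total (a : ℕ) b with hle | hle
      · exact Fin.ext (hpow _ _ hle b.2 h)
      · exact Fin.ext (hpow _ _ hle a.2 h.symm).symm
    let E : Fin (q + 1) → Submodule F V5 := fun j => Module.End.eigenspace (Matrix.toLin' ((g : G5) : M5)) (μ j) ⊓ ⊤
    have hsum : ∑ j, finrank F (E j) ≤ 5 := by
      refine (CfsgLib.Perm.Elusive.sum_eigen_le _ ⊤ hμ).trans ?_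
      simp
    have hle4 : ∀ j, finrank F (E j) ≤ 4 := fun j => by
      by_contra hcon
      push Not at hcon
      have htop : E j = ⊤ := Submodule.eq_top_of_finrank_eq (le_antisymm (Submodule.finrank_le _) (by rw [Module.finrank_fin_fun]; exact hcon))
      refine hg ⟨μ j, Matrix.ext_iff_mulVec.2 fun v => ?_⟩
      have hv : v ∈ E j := htop ▸ Submodule.mem_top
      have hv' := Module.End.mem_eigenspace_iff.1 hv.1
      rw [Matrix.toLin'_apply] at hv'
      rw [hv', smul_mulVec, one_mulVec]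
    have hterm : ∀ j : Fin (q + 1), ‖LinearMap.trace ℂ _ (U.val * (Γ ^ phi q).val ^ (j : ℕ))‖ =
        (q : ℝ) ^ finrank F (E j) := fun j => by
      have hI := hU.mul ((S.inter.pow (phi q)).pow (j : ℕ))
      have hfin : (U * (Γ ^ phi q) ^ (j : ℕ)) ^ (k * (q ^ 5 + 1)) = 1 := by
        have hcm : Commute U ((Γ ^ phi q) ^ (j : ℕ)) := by
          refine Commute.pow_right ?_ _
          have htr : LinearMap.trace ℂ _ (Γ ^ phi q).val ≠ 0 := by
            rw [S.trace, if_neg, zero_sub, neg_ne_zero]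
            · exact fun h => by have := S.w₀_mul; rw [h, mul_zero] at this; exact zero_ne_one this
            · intro h
              have h2 := Nat.le_of_dvd (phi_pos q) h
              rw [← succ_mul_phi] at h2
              have h3 : 3 * phi q ≤ (q + 1) * phi q := Nat.mul_le_mul_right _ (by omega)
              omega
          exact H.inter_commute (G.scalar_commute _) hU (S.inter.pow _) htr
        rw [hcm.mul_pow, pow_mul, hUk, one_pow, one_mul, ← pow_mul, ← pow_mul,
          show phi q * ((j : ℕ) * (k * (q ^ 5 + 1))) = (q ^ 5 + 1) * (phi q * (j * k)) by ring, pow_mul, S.period, one_pow]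
      have h2 := H.norm_trace_sq (mul_mem g.2.1 ((Cfsg.GU 5 F q).pow_mem ((Cfsg.GU 5 F q).pow_mem G.mem_gu _) _)) hI
        (Nat.mul_pos hk0 (Nat.succ_pos _)) hfin
      rw [Units.val_mul, Units.val_pow_eq_pow_val] at h2
      have hcard : Nat.card {v : V5 // (((g : G5) * (γ ^ phi q) ^ (j : ℕ) : G5) : M5) *ᵥ v = v} =
          (q ^ finrank F (E j)) ^ 2 := by
        have e : Nat.card {v : V5 // (((g : G5) * (γ ^ phi q) ^ (j : ℕ) : G5) : M5) *ᵥ v = v} = Nat.card (E j) := by
          refine Nat.card_congr (Equiv.subtypeEquivRight fun v => ?_)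
          show _ ↔ v ∈ Module.End.eigenspace _ (μ j) ∧ v ∈ (⊤ : Submodule F V5)
          rw [Units.val_mul, Units.val_pow_eq_pow_val, hc0, smul_pow, one_pow, Matrix.mul_smul, mul_one, smul_mulVec,
            Module.End.mem_eigenspace_iff, Matrix.toLin'_apply, eq_inv_smul_iff₀ (pow_ne_zero _ hc0ne)]
          exact ⟨fun h => ⟨h, Submodule.mem_top⟩, fun h => h.1⟩
        rw [e, Module.natCard_eq_pow_finrank (K := F), Nat.card_eq_fintype_card, D.card, ← pow_mul, mul_comm, pow_mul]
      rw [hcard] at h2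
      push_cast at h2
      exact (sq_eq_sq₀ (norm_nonneg _) (by positivity)).1 h2
    have hb : ‖LinearMap.trace ℂ _ (U.val * S.P w₀)‖ * ((q : ℝ) + 1) ≤ ∑ j : Fin (q + 1), (q : ℝ) ^ finrank F (E j) := by
      rw [Spec.P, proj, mul_smul_comm, map_smul, Finset.mul_sum, map_sum, norm_smul, norm_inv, Complex.norm_natCast,
        Finset.sum_range fun j => LinearMap.trace ℂ _ (U.val * (w₀ ^ j • (Γ ^ phi q).val ^ j))]
      push_cast
      rw [mul_comm (((q : ℝ) + 1)⁻¹), mul_assoc, inv_mul_cancel₀ (by positivity), mul_one]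
      refine (norm_sum_le _ _).trans (le_of_eq (Finset.sum_congr rfl fun j _ => ?_))
      rw [mul_smul_comm, map_smul, norm_smul, ← hterm j, norm_pow,
        Complex.norm_eq_one_of_pow_eq_one S.w₀_pow (Nat.succ_ne_zero q), one_pow, one_mul, Units.val_pow_eq_pow_val]
    have hpt : ∀ j : Fin (q + 1), 4 * (q : ℝ) ^ finrank F (E j) ≤ 4 + (finrank F (E j) : ℝ) * ((q : ℝ) ^ 4 - 1) := by
      intro j
      have hq : (2 : ℝ) ≤ q := by exact_mod_cast hq2
      have h := hle4 j
      generalize finrank F (E j) = d at h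
      interval_cases d
      all_goals norm_num
      all_goals nlinarith [pow_le_pow_right₀ (show (1 : ℝ) ≤ q by linarith) (show 1 ≤ 4 by norm_num),
        mul_nonneg (sq_nonneg ((q : ℝ) - 1)) (show (0 : ℝ) ≤ (q : ℝ) ^ 2 + 2 * q + 3 by positivity),
        mul_nonneg (sq_nonneg ((q : ℝ) - 1)) (show (0 : ℝ) ≤ (2 : ℝ) * q + 1 by positivity), sq_nonneg ((q : ℝ) ^ 2 - 1)]
    have htot : 4 * ∑ j : Fin (q + 1), (q : ℝ) ^ finrank F (E j) ≤ 4 * ((q : ℝ) + 1) + 5 * ((q : ℝ) ^ 4 - 1) := by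
      rw [Finset.mul_sum]
      refine (Finset.sum_le_sum fun j _ => hpt j).trans ?_
      rw [Finset.sum_add_distrib, ← Finset.sum_mul, Finset.sum_const, Finset.card_univ, Fintype.card_fin, nsmul_eq_mul]
      have h5 : (∑ j : Fin (q + 1), (finrank F (E j) : ℝ)) ≤ 5 := by exact_mod_cast hsum
      have hq : (1 : ℝ) ≤ (q : ℝ) ^ 4 := one_le_pow₀ (by exact_mod_cast (show 1 ≤ q by omega))
      have := mul_le_mul_of_nonneg_right h5 (sub_nonneg.2 hq)
      push_cast
      linarith
    linarith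

end CfsgLib.Perm.Trans.UnitFive.Singer
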