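import Cfsg.Agent.Lib.Perm.Trans.UnitFive.Singer.Setup
import Cfsg.Agent.Lib.Perm.Trans.UnitFive.Singer.Char
import Cfsg.Agent.Lib.Perm.Trans.UnitFive.Singer.WeilRep
import Cfsg.Agent.Lib.Perm.Trans.UnitFive.Singer.Arith
import Cfsg.Agent.Lib.Perm.Trans.UnitFive.Singer.DegKill
import Cfsg.Agent.Lib.Perm.Trans.UnitFive.SingerSpread
import Cfsg.Agent.Lib.Perm.Trans.UnitFive.SingerSylow
import Cfsg.Agent.Lib.Perm.Trans.UnitThree.OrthArith

/-!
# The Singer normaliser is maximal in the special unitary group of dimension five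

An overgroup has order divisible by `q⁶`, so it contains a full transvection group; by irreducibility it contains
all of them.
-/

set_option autoImplicit false
set_option linter.all false

namespace CfsgLib.Perm.Trans.UnitFive.Singer

open scoped Matrix
open Matrix Cfsg Cfsg.Geo CfsgLib.Perm.Asch CfsgLib.Perm.Trans

universe u

variable {F : Type u} [Field F] [Fintype F] {q : ℕ}
  {K : Subalgebra F (Matrix (Fin 5) (Fin 5) F)} {γ y : GL (Fin 5) F}

local notation "M5" => Matrix (Fin 5) (Fin 5) F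
local notation "G5" => GL (Fin 5) F

theorem phi_large {q : ℕ} (hq : 2 ≤ q) : 5 < phi q := by
  by_contra h
  have h1 : q ^ 5 + 1 ≤ (q + 1) * 5 := succ_mul_phi q ▸ Nat.mul_le_mul_left _ (not_lt.1 h)
  have h2 : 2 ^ 4 * q ≤ q ^ 4 * q := Nat.mul_le_mul_right q (Nat.pow_le_pow_left hq 4)
  have h3 : q ^ 4 * q = q ^ 5 := by ring
  omega

theorem one_lt_np_of_two_le {q : ℕ} (hq : 2 ≤ q) : 1 < np q := by
  by_contra h
  have h1 : np q = 1 := le_antisymm (not_lt.1 h) (np_pos q)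
  have h2 := np_mul q
  rw [h1, one_mul] at h2
  have h3 : dd q ≤ 5 := Nat.le_of_dvd (by norm_num) (Nat.gcd_dvd_left 5 (q + 1))
  have := phi_large hq
  omega

theorem Gens.t_mem_normalizer (G : Gens q K γ y) (D : Sing q K) :
    tg q γ ∈ subalgebraNormalizer K ⊓ suG F q := by
  refine G.mem_normalizer D G.t_mem (a := 1) (i := 1) (c := 1) (fun h => ?_) ?_
  · have := one_lt_np_of_two_le D.two_le
    rw [Nat.dvd_one] at h
    omega
  · rw [pow_one, one_smul, ← Units.val_mul, ← Units.val_mul, mul_inv_cancel_right]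

theorem Gens.relIndex_eq_five (G : Gens q K γ y) (D : Sing q K) :
    (Subgroup.zpowers (tg q γ)).relIndex (subalgebraNormalizer K ⊓ suG F q) = 5 := by
  rcases (Nat.dvd_prime (by norm_num)).1 (G.relIndex_norm D) with h | h
  · exfalso
    obtain ⟨i, hi⟩ := mem_powers_iff_mem_zpowers.2 ((Subgroup.relIndex_eq_one.1 h) G.y_mem)
    have hcy : y⁻¹ * γ * y = γ := by rw [← hi, tg]; group
    rw [G.y_conj] at hcy
    have hq := D.two_le
    have h2 : 2 ≤ q ^ 2 := hq.trans (Nat.le_self_pow two_ne_zero q)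
    have h3 : γ ^ (q ^ 2 - 1) = 1 := by
      have e : γ ^ (q ^ 2 - 1) * γ = 1 * γ := by
        rw [← pow_succ, Nat.sub_add_cancel (by omega), hcy, one_mul]
      exact mul_right_cancel e
    have h4 := Nat.le_of_dvd (by omega) (orderOf_dvd_of_pow_eq_one h3)
    rw [G.order] at h4
    have h5 : q ^ 2 ≤ q ^ 5 := Nat.pow_le_pow_right (by omega) (by norm_num)
    omega
  · exact h

theorem Gens.card_norm (G : Gens q K γ y) (D : Sing q K) :
    Nat.card ↥(subalgebraNormalizer K ⊓ suG F q) = 5 * phi q := by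
  rw [← Subgroup.card_mul_index ((Subgroup.zpowers (tg q γ)).subgroupOf (subalgebraNormalizer K ⊓ suG F q)),
    Nat.card_congr (Subgroup.subgroupOfEquivOfLe (Subgroup.zpowers_le.2 (G.t_mem_normalizer D))).toEquiv,
    Nat.card_zpowers, G.order_t, show ((Subgroup.zpowers (tg q γ)).subgroupOf
      (subalgebraNormalizer K ⊓ suG F q)).index = 5 from G.relIndex_eq_five D, mul_comm]

/-- the fifth power of an element of the normaliser lies in the Singer group -/
theorem Gens.pow_five_mem (G : Gens q K γ y) (D : Sing q K) {h : G5}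
    (hh : h ∈ subalgebraNormalizer K ⊓ suG F q) : ∃ i : ℕ, h ^ 5 = tg q γ ^ i := by
  obtain ⟨H, hH⟩ : ∃ H, H = subalgebraNormalizer K ⊓ suG F q := ⟨_, rfl⟩
  rw [← hH] at hh
  obtain ⟨T, hT⟩ : ∃ T : Subgroup H, T = (Subgroup.zpowers (tg q γ)).subgroupOf H := ⟨_, rfl⟩
  haveI : T.Normal := ⟨fun a ha g => by
    rw [hT, Subgroup.mem_subgroupOf] at ha ⊢
    obtain ⟨j, hj⟩ := mem_powers_iff_mem_zpowers.2 ha
    obtain ⟨i, -, hi⟩ := G.conj_t (g := ((g : G5))⁻¹) ((subalgebraNormalizer K).inv_mem (hH ▸ g.2 :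
      (g : G5) ∈ subalgebraNormalizer K ⊓ suG F q).1)
    refine mem_powers_iff_mem_zpowers.1 ⟨j * q ^ (2 * i), ?_⟩
    show tg q γ ^ (j * q ^ (2 * i)) = (g : G5) * (a : G5) * (g : G5)⁻¹
    rw [← hj, ← hi j, inv_inv]⟩
  have h5 : T.index = 5 := by rw [hT, hH]; exact G.relIndex_eq_five D
  have hm := T.pow_index_mem ⟨h, hh⟩
  rw [h5, hT, Subgroup.mem_subgroupOf] at hm
  obtain ⟨i, hi⟩ := mem_powers_iff_mem_zpowers.2 hm
  exact ⟨i, hi.symm⟩

/-- the index of the normaliser is one modulo the order of the projective Singer group -/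
theorem Gens.relIndex_mod (G : Gens q K γ y) (D : Sing q K) {M : Subgroup G5}
    (hM : M ≤ suG F q) (hHM : subalgebraNormalizer K ⊓ suG F q ≤ M) :
    (subalgebraNormalizer K ⊓ suG F q).relIndex M % np q = 1 := by
  classical
  obtain ⟨H, hH⟩ : ∃ H, H = subalgebraNormalizer K ⊓ suG F q := ⟨_, rfl⟩
  rw [← hH] at hHM ⊢
  have htM : tg q γ ∈ M := hHM (hH ▸ G.t_mem_normalizer D)
  obtain ⟨T, hT⟩ : ∃ T : Subgroup M, T = Subgroup.zpowers (⟨tg q γ, htM⟩ : M) := ⟨_, rfl⟩
  have hTH : ∀ k : T, (((k : M) : G5)) ∈ H := fun k => by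
    obtain ⟨i, hi⟩ := mem_powers_iff_mem_zpowers.2 (show (k : M) ∈ Subgroup.zpowers (⟨tg q γ, htM⟩ : M) from hT ▸ k.2)
    rw [← hi]
    exact H.pow_mem (hH ▸ G.t_mem_normalizer D) i
  have hTcard : Nat.card T = phi q := by
    rw [hT, Nat.card_zpowers, ← Subgroup.orderOf_coe, G.order_t]
  obtain ⟨j, hj⟩ := UnitThree.OSub.card_of_orbits (K := T) (Q := M ⧸ H.subgroupOf M)
    (S := {((1 : M) : M ⧸ H.subgroupOf M)}) (d := np q) (fun k x hx => by
      rw [Set.mem_singleton_iff] at hx ⊢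
      rw [hx]
      show (((k : M) * 1 : M) : M ⧸ H.subgroupOf M) = ((1 : M) : M ⧸ H.subgroupOf M)
      rw [QuotientGroup.eq, mul_one, mul_one, Subgroup.mem_subgroupOf, Subgroup.coe_inv]
      exact H.inv_mem (hTH k)) (fun x hx => by
    induction x using QuotientGroup.induction_on with
    | _ g =>
    have hg : (g : G5) ∉ H := fun h => hx (by
      rw [Set.mem_singleton_iff, QuotientGroup.eq, mul_one, Subgroup.mem_subgroupOf, Subgroup.coe_inv]
      exact H.inv_mem h)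
    obtain ⟨St, hSt⟩ : ∃ St, St = MulAction.stabilizer T (g : M ⧸ H.subgroupOf M) := ⟨_, rfl⟩
    have hle : St.map (M.subtype.comp T.subtype) ≤ Subgroup.zpowers (tg q γ ^ np q) := by
      rintro _ ⟨k, hk, rfl⟩
      rw [SetLike.mem_coe, hSt, MulAction.mem_stabilizer_iff] at hk
      have hk' : (((k : M) * g : M) : M ⧸ H.subgroupOf M) = (g : M ⧸ H.subgroupOf M) := hk
      rw [QuotientGroup.eq, Subgroup.mem_subgroupOf, Subgroup.coe_mul, Subgroup.coe_inv, Subgroup.coe_mul] at hk'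
      obtain ⟨a, ha⟩ := mem_powers_iff_mem_zpowers.2
        (show (k : M) ∈ Subgroup.zpowers (⟨tg q γ, htM⟩ : M) from hT ▸ k.2)
      simp only at ha
      have hka : ((k : M) : G5) = tg q γ ^ a := by rw [← ha]; rfl
      show ((k : M) : G5) ∈ _
      rw [hka] at hk' ⊢
      suffices h : np q ∣ a by
        obtain ⟨b, rfl⟩ := h
        exact mem_powers_iff_mem_zpowers.1 ⟨b, (pow_mul _ _ _).symm⟩
      by_contra hna
      have hmem : (g : G5)⁻¹ * tg q γ ^ a * (g : G5) ∈ H := by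
        have := H.inv_mem hk'
        rwa [_root_.mul_inv_rev, inv_inv, ← mul_assoc] at this
      obtain ⟨i, hi⟩ := G.pow_five_mem D (hH ▸ hmem)
      have e : (g : G5)⁻¹ * tg q γ ^ (a * 5) * (g : G5) = tg q γ ^ i := by
        rw [← hi, pow_mul]
        simpa using (conj_pow (a := (g : G5)⁻¹) (b := tg q γ ^ a) (i := 5)).symm
      refine hg (hH ▸ inv_mem_iff.1 (G.mem_normalizer D (g := (g : G5)⁻¹) (inv_mem (hM g.2)) (a := a * 5)
        (i := i) (c := 1) (fun h => hna ?_) ?_))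
      · exact (Nat.Coprime.coprime_dvd_right (by norm_num) (np_coprime q) : Nat.Coprime (np q) 5).dvd_of_dvd_mul_right h
      · rw [one_smul, inv_inv, ← Units.val_mul, ← Units.val_mul, e]
    have hdvd : Nat.card St ∣ dd q := by
      rw [← Subgroup.card_map_of_injective (f := M.subtype.comp T.subtype)
        (M.subtype_injective.comp T.subtype_injective)]
      refine (Subgroup.card_dvd_of_le hle).trans (dvd_of_eq ?_)
      rw [Nat.card_zpowers, orderOf_pow, G.order_t, ← np_mul, Nat.gcd_mul_right_left,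
        Nat.mul_div_cancel_left _ (np_pos q)]
    obtain ⟨s, hs⟩ := hdvd
    have hmul := MulAction.card_orbit_mul_card_stabilizer_eq_card_group T (g : M ⧸ H.subgroupOf M)
    simp only [← Nat.card_eq_fintype_card] at hmul
    rw [← hSt, hTcard, ← np_mul, hs, mul_comm (Nat.card St) s, ← mul_assoc] at hmul
    exact ⟨s, Nat.eq_of_mul_eq_mul_right Nat.card_pos hmul⟩)
  show Nat.card (M ⧸ H.subgroupOf M) % np q = 1
  rw [hj, Nat.card_eq_fintype_card, Set.card_singleton, Nat.add_mul_mod_self_left,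
    Nat.mod_eq_of_lt (one_lt_np_of_two_le D.two_le)]

theorem card_suG_eq (hF : Fintype.card F = q ^ 2) :
    Nat.card (suG F q) = q ^ 10 * ((q ^ 2 - 1) * ((q ^ 3 + 1) * ((q ^ 4 - 1) * (q ^ 5 + 1)))) :=
  Nat.eq_of_mul_eq_mul_left (show 0 < q + 1 from Nat.succ_pos q) ((card_suG hF).trans (mul_left_comm _ _ _))

/-- an overgroup not inside the normaliser has order divisible by `q⁶` -/
theorem sq_pow_dvd_overgroup (G : Gens q K γ y) (D : Sing q K) (hq3 : 3 ≤ q) {M : Subgroup G5}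
    (hM : M ≤ suG F q) (hHM : subalgebraNormalizer K ⊓ suG F q ≤ M) (hne : ¬ M ≤ subalgebraNormalizer K) :
    q ^ 6 ∣ Nat.card M := by
  classical
  have ht : tg q γ ∈ M := hHM (G.t_mem_normalizer D)
  by_cases hsmall : q = 3 ∨ q = 4
  · exact sq_pow_dvd_small G D hsmall hM ht hne
  have h5 : 5 ≤ q := by omega
  obtain ⟨p, b, hp, hchar, hcard, hb⟩ := exists_char_card (F := F)
  obtain ⟨f, -, hqf⟩ : ∃ f ≤ b, q = p ^ f :=
    (Nat.dvd_prime_pow hp).1 (hcard ▸ D.card ▸ dvd_pow_self q two_ne_zero)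
  obtain ⟨k, hk⟩ : ∃ k, k = (subalgebraNormalizer K ⊓ suG F q).relIndex M := ⟨_, rfl⟩
  have hcM : Nat.card M = 5 * phi q * k := by
    rw [hk, ← G.card_norm D, ← Nat.card_congr (Subgroup.subgroupOfEquivOfLe hHM).toEquiv, Subgroup.relIndex,
      Subgroup.card_mul_index]
  obtain ⟨M₁, L, _, _, π, τ, hle, S⟩ := exists_sec G D hM ht hne
  obtain ⟨χ, W⟩ := exists_weilChar D G
  have hW := (S.phi_sub_one_dvd D h5 W fun hd x b hb hbx hx hnx => degree_kill hp hqf h5 hd hb hbx hx hnx).trans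
    (Subgroup.card_dvd_of_le hle)
  rw [hcM] at hW ⊢
  exact overgroup_arith hp hqf h5 (hk ▸ G.relIndex_mod D hM hHM)
    (hcM ▸ card_suG_eq D.card ▸ Subgroup.card_dvd_of_le hM) hW

/-- the normaliser of a field subalgebra of degree five is maximal -/
theorem singer_maximal_five (hF : Fintype.card F = q ^ 2) (hq3 : 3 ≤ q) (hK : IsFieldSubalgebra 5 K)
    (hadj : IsAdjointClosedFor (Cfsg.hermForm 5 F q) K) :
    IsMaximalIn (suG F q) (subalgebraNormalizer K ⊓ suG F q) := by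
  classical
  have D : Sing q K := ⟨hF, hK, hadj⟩
  obtain ⟨γ, y, G⟩ := D.exists_gens
  refine ⟨lt_of_le_of_ne inf_le_right fun h => ?_, fun M hHM hM => ?_⟩
  · have h1 : Nat.card (suG F q) = 5 * phi q := by rw [← G.card_norm D, h]
    rw [card_suG_eq hF] at h1
    have h2 : q ^ 10 ≤ 5 * phi q := h1 ▸ Nat.le_mul_of_pos_right _ (by
      have h2 : 1 < q ^ 2 := Nat.one_lt_pow two_ne_zero (by omega)
      have h4 : 1 < q ^ 4 := Nat.one_lt_pow (by norm_num) (by omega)
      exact Nat.mul_pos (by omega) (Nat.mul_pos (Nat.succ_pos _) (Nat.mul_pos (by omega) (Nat.succ_pos _))))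
    have h3 := phi_add q
    have h5 : q ^ 2 ≤ q ^ 4 := Nat.pow_le_pow_right (by omega) (by norm_num)
    have h6 : q ^ 4 * 16 ≤ q ^ 4 * q ^ 6 := Nat.mul_le_mul_left _
      ((show 16 ≤ 3 ^ 6 by norm_num).trans (Nat.pow_le_pow_left hq3 6))
    have h7 : q ^ 4 * q ^ 6 = q ^ 10 := by ring
    have h8 : 1 ≤ q ^ 4 := Nat.one_le_pow _ _ (by omega)
    omega
  by_cases hne : M ≤ subalgebraNormalizer K
  · exact Or.inl (le_antisymm (le_inf hne hM) hHM)
  refine Or.inr (le_antisymm hM ?_)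
  have hdvd := sq_pow_dvd_overgroup G D hq3 hM hHM hne
  obtain ⟨C⟩ := Unit.ctx_of_card hF
  have hf := Unit.isUnitary_hermForm C (n := 5)
  obtain ⟨p, b, hp, hchar, hcard, hb⟩ := exists_char_card (F := F)
  haveI := hchar
  haveI : Fact p.Prime := ⟨hp⟩
  obtain ⟨f, -, hqf⟩ : ∃ f ≤ b, q = p ^ f :=
    (Nat.dvd_prime_pow hp).1 (hcard ▸ hF ▸ dvd_pow_self q two_ne_zero)
  rw [hqf, ← pow_mul] at hdvd
  obtain ⟨P, hP⟩ := Sylow.exists_subgroup_card_pow_prime p hdvd
  have hle : M ≤ Unit.isoU (Cfsg.hermForm 5 F q) := fun g hg => (mem_suG.1 (hM hg)).1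
  obtain ⟨u₀, hu0, hu⟩ := Unit.exists_centre_of_pgroup hf (Fintype.card_fin 5) (p := p) (q := q) hF
    (S := P.map M.subtype) ((Subgroup.map_subtype_le P).trans hle) ((IsPGroup.of_card hP).map _) (by
      rw [Subgroup.card_map_of_injective M.subtype_injective, hP, hqf, ← pow_mul])
  have hc : u₀ ∈ Unit.centres hf M := ⟨hu.1, fun c hc => by
    obtain ⟨h, hh⟩ := hu.2 c hc
    exact ⟨h, Subgroup.map_subtype_le P hh⟩⟩
  have hbig : 4 < Fintype.card F := by
    have : 3 ^ 2 ≤ q ^ 2 := Nat.pow_le_pow_left hq3 2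
    omega
  have hall := Unit.centres_top_of_irreducible_group hf hle (Fintype.card_fin 5) hbig (fun W hW =>
    SingerNorm.irred_of_mem (by norm_num) hK (G.t_field 1) (fun a ha => by
      have h1 := Nat.dvd_one.1 ((G.t_scalar 1).1 ⟨a, ha⟩)
      have := one_lt_np_of_two_le D.two_le
      omega) (fun w hw => hW _ (show tg q γ ^ 1 ∈ M from M.pow_mem (hHM (G.t_mem_normalizer D)) 1) w hw)) hu0 hc
  intro g hg
  exact Unit.isoU_inf_SL_le hf (fun u _ huu c hc => (hall u huu).2 c hc) (Or.inl (by rw [Fintype.card_fin]; norm_num))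
    ⟨(mem_suG.1 hg).1, hg.2⟩

end CfsgLib.Perm.Trans.UnitFive.Singer
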