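import Cfsg.Agent.Lib.Perm.Trans.UnitFive.Singer.Field

/-!
# The cyclic group of the special unitary group inside the field, and its normaliser

A nonscalar element of this group is sent into the field only by the normaliser, and commutes modulo scalars with
nothing else than the group.
-/

set_option autoImplicit false
set_option linter.all false

namespace CfsgLib.Perm.Trans.UnitFive.Singer

open scoped Matrix
open Matrix Cfsg Cfsg.Geo CfsgLib.Perm.Asch CfsgLib.Perm.Trans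

theorem coprime_pow_sub_one {q : ℕ} (hq : 2 ≤ q) {i : ℕ} (h0 : 0 < i) (h5 : i < 5) :
    Nat.Coprime (np q) (q ^ (2 * i) - 1) := by
  refine Nat.coprime_of_dvd fun r hr h1 h2 => ?_
  haveI : Fact r.Prime := ⟨hr⟩
  have h7 := prime_ge_seven hr h1
  have hphi : r ∣ phi q := h1.trans ⟨dd q, (np_mul q).symm⟩
  have ha : (q : ZMod r) ^ 5 = -1 := by
    have h : ((q ^ 5 + 1 : ℕ) : ZMod r) = 0 := by
      rw [ZMod.natCast_eq_zero_iff, ← succ_mul_phi]; exact hphi.mul_left _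
    push_cast at h
    linear_combination h
  have hb : (q : ZMod r) ^ (2 * i) = 1 := by
    have h1' : 1 ≤ q ^ (2 * i) := Nat.one_le_pow _ _ (by omega)
    have h : ((q ^ (2 * i) - 1 : ℕ) : ZMod r) = 0 := by rw [ZMod.natCast_eq_zero_iff]; exact h2
    rw [Nat.cast_sub h1'] at h
    push_cast at h
    linear_combination h
  have h2' : (q : ZMod r) ^ 2 = 1 := by
    rw [← orderOf_dvd_iff_pow_eq_one]
    have d1 : orderOf (q : ZMod r) ∣ 10 := orderOf_dvd_of_pow_eq_one (by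
      rw [show 10 = 5 * 2 from rfl, pow_mul, ha]; norm_num)
    have d2 : orderOf (q : ZMod r) ∣ 2 * i := orderOf_dvd_of_pow_eq_one hb
    refine (Nat.dvd_gcd d1 d2).trans ?_
    interval_cases i <;> norm_num
  have hq1 : (q : ZMod r) = -1 := by
    rw [← ha, show (q : ZMod r) ^ 5 = ((q : ZMod r) ^ 2) ^ 2 * q by ring, h2', one_pow, one_mul]
  have h5' : ((5 : ℕ) : ZMod r) = 0 := by
    have h := congrArg (Nat.cast : ℕ → ZMod r) (phi_add q)
    rw [Nat.cast_add, (ZMod.natCast_eq_zero_iff _ _).2 hphi] at h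
    push_cast at h ⊢
    rw [hq1] at h
    linear_combination -h
  rw [ZMod.natCast_eq_zero_iff] at h5'
  have := Nat.le_of_dvd (by norm_num) h5'
  omega

variable {F : Type*} [Field F] [Fintype F] {q : ℕ}

local notation "M5" => Matrix (Fin 5) (Fin 5) F
local notation "G5" => GL (Fin 5) F

variable {K : Subalgebra F (Matrix (Fin 5) (Fin 5) F)} {γ y : GL (Fin 5) F}

/-- the generator of the group inside the field -/
def tg (q : ℕ) (γ : G5) : G5 := γ ^ (q + 1)

theorem Gens.t_mem (G : Gens q K γ y) : tg q γ ∈ suG F q :=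
  mem_suG.2 ⟨pow_mem G.mem_gu (q + 1), (G.det_eq_one _).2 dvd_rfl⟩

theorem Gens.t_field (G : Gens q K γ y) (i : ℕ) : ((tg q γ ^ i : G5) : M5) ∈ K := by
  rw [tg, ← pow_mul, Units.val_pow_eq_pow_val]
  exact pow_mem G.mem_field _

theorem Gens.order_t (G : Gens q K γ y) : orderOf (tg q γ) = phi q := by
  rw [tg, orderOf_pow, G.order, ← succ_mul_phi, Nat.gcd_mul_right_left, Nat.mul_div_cancel_left _ (Nat.succ_pos _)]

theorem Gens.t_gen (G : Gens q K γ y) {g : G5} (hg : g ∈ suG F q) (hgK : (g : M5) ∈ K) :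
    ∃ i : ℕ, g = tg q γ ^ i := by
  obtain ⟨i, rfl⟩ := G.gen g hg.1 hgK
  obtain ⟨j, rfl⟩ := (G.det_eq_one i).1 (mem_suG.1 hg).2
  exact ⟨j, by rw [tg, pow_mul]⟩

theorem Gens.t_scalar (G : Gens q K γ y) (i : ℕ) :
    (∃ c : F, ((tg q γ ^ i : G5) : M5) = c • 1) ↔ np q ∣ i := by
  rw [tg, ← pow_mul, G.scalar]
  obtain ⟨m, hm⟩ : dd q ∣ q + 1 := Nat.gcd_dvd_right _ _
  have hco : Nat.Coprime (np q) m := by
    have h := Nat.coprime_div_gcd_div_gcd (gcd_phi q ▸ dd_pos q : 0 < Nat.gcd (phi q) (q + 1))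
    rwa [gcd_phi, show phi q / dd q = np q from rfl, hm, Nat.mul_div_cancel_left _ (dd_pos q)] at h
  rw [← np_mul, hm, mul_comm (np q), mul_assoc, Nat.mul_dvd_mul_iff_left (dd_pos q)]
  exact ⟨fun h => hco.dvd_of_dvd_mul_left h, fun h => dvd_mul_of_dvd_right h _⟩

theorem Gens.conj_t (G : Gens q K γ y) {g : G5} (hg : g ∈ subalgebraNormalizer K) :
    ∃ i < 5, ∀ a : ℕ, g⁻¹ * tg q γ ^ a * g = tg q γ ^ (a * q ^ (2 * i)) := by
  obtain ⟨i, hi, h⟩ := G.act g hg
  refine ⟨i, hi, fun a => ?_⟩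
  have h1 := conj_pow (a := g⁻¹) (b := γ) (i := (q + 1) * a)
  rw [inv_inv, h] at h1
  rw [tg, ← pow_mul, ← h1, ← pow_mul, ← pow_mul, ← pow_mul]
  congr 1
  ring

/-- an element of the group moved inside the field by a scalar multiple lies in the group -/
theorem Gens.mem_of_twist (G : Gens q K γ y) (D : Sing q K) {g : G5} (hg : g ∈ suG F q) {a : ℕ}
    (ha : ¬ np q ∣ a) {c : F} (h : (g : M5) * ((tg q γ ^ a : G5) : M5) * ((g⁻¹ : G5) : M5) = c • ((tg q γ ^ a : G5) : M5)) :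
    ∃ i : ℕ, g = tg q γ ^ i := by
  have hn : Nat.Prime 5 := by norm_num
  have hns : ∀ b : F, ((tg q γ ^ a : G5) : M5) ≠ b • 1 := fun b hb => ha ((G.t_scalar a).1 ⟨b, hb⟩)
  have hgN : g ∈ subalgebraNormalizer K :=
    SingerNorm.mem_normalizer hn D.field (G.t_field a) hns (h ▸ K.smul_mem (G.t_field a) c)
  obtain ⟨i, hi, hact⟩ := G.conj_t hgN
  obtain ⟨x, hx⟩ : ∃ x, x = tg q γ ^ a := ⟨_, rfl⟩
  rw [← hx] at h hns
  have hc : c ≠ 0 := fun h0 => by
    rw [h0, zero_smul, ← Units.val_mul, ← Units.val_mul] at h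
    exact Units.ne_zero _ h
  have h3 : c • ((g⁻¹ * x * g : G5) : M5) = (x : M5) := by
    rw [Units.val_mul, Units.val_mul, ← Matrix.smul_mul, ← Matrix.mul_smul, ← h, ← Units.val_mul, ← Units.val_mul,
      ← Units.val_mul, ← Units.val_mul]
    exact congrArg Units.val (by group)
  rw [hx, hact, ← hx] at h3
  have h2 : ((tg q γ ^ (a * (q ^ (2 * i) - 1)) : G5) : M5) = c⁻¹ • 1 := by
    have hsum : a + a * (q ^ (2 * i) - 1) = a * q ^ (2 * i) := by
      rw [Nat.mul_sub_one, ← Nat.add_sub_assoc (Nat.le_mul_of_pos_right _ (pow_pos (by have := D.two_le; omega) _)),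
        Nat.add_sub_cancel_left]
    rw [← hsum, pow_add, ← hx, Units.val_mul] at h3
    have h4 := congrArg (fun m => ((x⁻¹ : G5) : M5) * m) h3
    simp only [Matrix.mul_smul, ← mul_assoc, Units.inv_mul, one_mul] at h4
    rw [← h4, smul_smul, inv_mul_cancel₀ hc, one_smul]
  have hd := (G.t_scalar _).1 ⟨_, h2⟩
  have hi0 : i = 0 := by
    by_contra hne
    exact ha ((coprime_pow_sub_one D.two_le (Nat.pos_of_ne_zero hne) hi).dvd_of_dvd_mul_right hd)
  subst hi0
  have hcomm : g⁻¹ * tg q γ ^ a * g = tg q γ ^ a := by rw [hact, mul_zero, pow_zero, mul_one]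
  rw [← hx] at hcomm
  exact G.t_gen hg (SingerNorm.mem_of_commute hn D.field (hx ▸ G.t_field a) hns (by
    rw [← Units.val_mul, ← Units.val_mul]
    refine congrArg Units.val ?_
    calc g * x = g * (g⁻¹ * x * g) := by rw [hcomm]
      _ = x * g := by group))

theorem Gens.mem_normalizer (G : Gens q K γ y) (D : Sing q K) {g : G5} (hg : g ∈ suG F q) {a : ℕ}
    (ha : ¬ np q ∣ a) {i : ℕ} {c : F}
    (h : (g : M5) * ((tg q γ ^ a : G5) : M5) * ((g⁻¹ : G5) : M5) = c • ((tg q γ ^ i : G5) : M5)) :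
    g ∈ subalgebraNormalizer K ⊓ suG F q :=
  ⟨SingerNorm.mem_normalizer (by norm_num) D.field (G.t_field a)
    (fun b hb => ha ((G.t_scalar a).1 ⟨b, hb⟩)) (h ▸ K.smul_mem (G.t_field i) c), hg⟩

/-- the normaliser is generated by the group and one element -/
theorem Gens.normalizer_eq (G : Gens q K γ y) (D : Sing q K) {g : G5}
    (hg : g ∈ subalgebraNormalizer K ⊓ suG F q) : ∃ j i : ℕ, i < 5 ∧ g = tg q γ ^ j * y ^ i := by
  obtain ⟨i, hi, hact⟩ := G.act g hg.1
  have hpow : ∀ i : ℕ, (y ^ i)⁻¹ * γ * y ^ i = γ ^ (q ^ 2) ^ i := fun i => by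
    induction i with
    | zero => simp
    | succ i ih =>
      calc (y ^ (i + 1))⁻¹ * γ * y ^ (i + 1) = y⁻¹ * ((y ^ i)⁻¹ * γ * y ^ i) * y := by rw [pow_succ]; group
        _ = (y⁻¹ * γ * y) ^ (q ^ 2) ^ i := by
          rw [ih]
          have := conj_pow (a := y⁻¹) (b := γ) (i := (q ^ 2) ^ i)
          rw [inv_inv] at this
          exact this.symm
        _ = γ ^ (q ^ 2) ^ (i + 1) := by rw [G.y_conj, ← pow_mul, ← pow_succ' (q ^ 2) i]
  have hγns : ∀ c : F, (γ : M5) ≠ c • 1 := fun c hc => by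
    have h := (G.scalar 1).1 ⟨c, by rw [pow_one]; exact hc⟩
    rw [Nat.dvd_one] at h
    have h5 := succ_mul_phi q
    rw [h, mul_one] at h5
    have h7 : q ^ 1 < q ^ 5 := Nat.pow_lt_pow_right (by have := D.two_le; omega) (by norm_num)
    rw [pow_one] at h7
    omega
  have hcomm : (g * (y ^ i)⁻¹) * γ = γ * (g * (y ^ i)⁻¹) := by
    calc g * (y ^ i)⁻¹ * γ = g * ((y ^ i)⁻¹ * γ * y ^ i) * (y ^ i)⁻¹ := by group
      _ = g * (g⁻¹ * γ * g) * (y ^ i)⁻¹ := by rw [hpow, hact]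
      _ = _ := by group
  obtain ⟨j, hj⟩ := G.t_gen (mul_mem hg.2 (inv_mem (pow_mem G.y_mem.2 i)))
    (SingerNorm.mem_of_commute (by norm_num) D.field G.mem_field hγns (by rw [← Units.val_mul, hcomm, Units.val_mul]))
  exact ⟨j, i, hi, by rw [← hj, inv_mul_cancel_right]⟩

end CfsgLib.Perm.Trans.UnitFive.Singer
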