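import Cfsg.Agent.Lib.Perm.Trans.FiveDim.SingerArith
import Cfsg.Agent.Lib.Perm.Trans.UnitFive.Singer.Field

/-!
# Integral polynomials of degree four dividing products of small cyclotomic values

If the value at `q` of such a polynomial divides a product of `q`, `q ± 1`, `q² - q + 1` and `q² + 1`, then the value is
bounded by a product of resultants, which bounds `q`.
-/

set_option autoImplicit false
set_option linter.all false

namespace CfsgLib.Perm.Trans.UnitFive.Singer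

/-- coefficients of a polynomial of degree at most four -/
structure Co where
  a0 : ℤ
  a1 : ℤ
  a2 : ℤ
  a3 : ℤ
  a4 : ℤ
deriving DecidableEq

namespace Co

/-- the value -/
def ev (a : Co) (q : ℤ) : ℤ := a.a0 + a.a1 * q + a.a2 * q ^ 2 + a.a3 * q ^ 3 + a.a4 * q ^ 4

/-- linear combination -/
def comb (s : ℤ) (a : Co) (t : ℤ) (b : Co) : Co :=
  ⟨s * a.a0 + t * b.a0, s * a.a1 + t * b.a1, s * a.a2 + t * b.a2, s * a.a3 + t * b.a3, s * a.a4 + t * b.a4⟩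

theorem ev_comb (s : ℤ) (a : Co) (t : ℤ) (b : Co) (q : ℤ) : (comb s a t b).ev q = s * a.ev q + t * b.ev q := by
  simp only [ev, comb]
  ring

/-- the cyclotomic polynomial of the Singer group -/
def phiC : Co := ⟨1, -1, 1, -1, 1⟩

/-- the monomials -/
def mon : ℕ → Co
  | 0 => ⟨1, 0, 0, 0, 0⟩
  | 1 => ⟨0, 1, 0, 0, 0⟩
  | 2 => ⟨0, 0, 1, 0, 0⟩
  | 3 => ⟨0, 0, 0, 1, 0⟩
  | _ => ⟨0, 0, 0, 0, 1⟩

/-- the reduced monomials -/
def red : ℕ → Co
  | 0 => ⟨1, 0, 0, 0, 0⟩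
  | 1 => ⟨0, 1, 0, 0, 0⟩
  | 2 => ⟨0, 0, 1, 0, 0⟩
  | 3 => ⟨0, 0, 0, 1, 0⟩
  | _ => ⟨-1, 1, -1, 1, 0⟩

theorem ev_phiC (q : ℕ) : phiC.ev q = phi q := by
  have h := congrArg (Nat.cast : ℕ → ℤ) (phi_add q)
  push_cast at h
  simp only [ev, phiC]
  linarith

theorem ev_mon {j : ℕ} (hj : j ≤ 4) (q : ℤ) : (mon j).ev q = q ^ j := by
  interval_cases j <;> simp [ev, mon]

theorem dvd_pow_sub_red {j : ℕ} (hj : j ≤ 4) (q : ℤ) : phiC.ev q ∣ q ^ j - (red j).ev q := by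
  interval_cases j <;> simp [ev, red, phiC]
  exact ⟨1, by ring⟩

/-- the content -/
def content (a : Co) : ℕ :=
  Nat.gcd a.a0.natAbs (Nat.gcd a.a1.natAbs (Nat.gcd a.a2.natAbs (Nat.gcd a.a3.natAbs a.a4.natAbs)))

/-- the primitive part -/
def prim (a : Co) : Co :=
  ⟨a.a0 / a.content, a.a1 / a.content, a.a2 / a.content, a.a3 / a.content, a.a4 / a.content⟩

/-- the content divides the polynomial -/
def primOk (a : Co) : Bool := decide (0 < a.content ∧ comb (a.content : ℤ) a.prim 0 a = a)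

theorem ev_prim {a : Co} (h : a.primOk = true) (q : ℤ) :
    a.ev q = a.content * a.prim.ev q ∧ (0 < a.ev q → 0 < a.prim.ev q) := by
  simp only [primOk, decide_eq_true_eq] at h
  have h1 : a.ev q = a.content * a.prim.ev q := by
    conv_lhs => rw [← h.2]
    rw [ev_comb]
    ring
  refine ⟨h1, fun hp => ?_⟩
  rw [h1] at hp
  exact (mul_pos_iff.1 hp).elim (fun h => h.2) fun h' => absurd h'.1 (by omega)

/-! ### resultants -/

theorem drop {K x Y r u v : ℤ} (h : K ∣ x * Y) (hr : r = K * u + x * v) : K ∣ r * Y := by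
  obtain ⟨t, ht⟩ := h
  exact ⟨u * Y + v * t, by rw [hr]; linear_combination v * ht⟩

theorem drop_abs {K x Y r u v : ℤ} (h : K ∣ x * Y) (hr : r = K * u + x * v) : K ∣ |r| * Y := by
  rcases abs_choice r with e | e <;> rw [e]
  · exact drop h hr
  · rw [neg_mul, dvd_neg]
    exact drop h hr

theorem drop_pow {K x r u v : ℤ} (hr : r = K * u + x * v) : ∀ (k : ℕ) {Y : ℤ}, K ∣ x ^ k * Y → K ∣ |r| ^ k * Y
  | 0, _, h => by simpa using h
  | k + 1, Y, h => by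
    rw [pow_succ, mul_assoc] at h
    have h1 := drop_pow hr k h
    rw [mul_left_comm] at h1
    have h2 := drop_abs h1 hr
    rw [pow_succ, mul_assoc, mul_left_comm]
    exact h2

/-- value at one -/
def s1 (a : Co) : ℤ := a.a0 + a.a1 + a.a2 + a.a3 + a.a4

/-- value at minus one -/
def s2 (a : Co) : ℤ := a.a0 - a.a1 + a.a2 - a.a3 + a.a4

/-- value at minus one of the quotient by `q + 1` when `s2` vanishes -/
def s2' (a : Co) : ℤ :=
  a.a0 - (a.a1 - a.a0) + (a.a2 - (a.a1 - a.a0)) - (a.a3 - (a.a2 - (a.a1 - a.a0)))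

/-- norm of the value at a primitive sixth root of unity -/
def s3 (a : Co) : ℤ :=
  (a.a0 - a.a2 - a.a3) ^ 2 + (a.a0 - a.a2 - a.a3) * (a.a1 + a.a2 - a.a4) + (a.a1 + a.a2 - a.a4) ^ 2

/-- norm of the value at a primitive fourth root of unity -/
def s4 (a : Co) : ℤ := (a.a0 - a.a2 + a.a4) ^ 2 + (a.a1 - a.a3) ^ 2

theorem res0 (a : Co) (q : ℤ) : a.a0 = a.ev q * 1 + q * -(a.a1 + a.a2 * q + a.a3 * q ^ 2 + a.a4 * q ^ 3) := by
  simp only [ev]
  ring

theorem res1 (a : Co) (q : ℤ) : a.s1 = a.ev q * 1 +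
    (q - 1) * -(a.a1 + a.a2 * (q + 1) + a.a3 * (q ^ 2 + q + 1) + a.a4 * (q ^ 3 + q ^ 2 + q + 1)) := by
  simp only [ev, s1]
  ring

theorem res2 (a : Co) (q : ℤ) : a.s2 = a.ev q * 1 +
    (q + 1) * -(a.a1 + a.a2 * (q - 1) + a.a3 * (q ^ 2 - q + 1) + a.a4 * (q ^ 3 - q ^ 2 + q - 1)) := by
  simp only [ev, s2]
  ring

theorem res3 (a : Co) (q : ℤ) : a.s3 = a.ev q *
    (a.a0 - a.a2 - a.a3 + (a.a1 + a.a2 - a.a4) - (a.a1 + a.a2 - a.a4) * q) +
    (q ^ 2 - q + 1) * ((a.a1 + a.a2 - a.a4) ^ 2 - (a.a2 + a.a3 * (q + 1) + a.a4 * (q ^ 2 + q)) *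
      (a.a0 - a.a2 - a.a3 + (a.a1 + a.a2 - a.a4) - (a.a1 + a.a2 - a.a4) * q)) := by
  simp only [ev, s3]
  ring

theorem res4 (a : Co) (q : ℤ) : a.s4 = a.ev q * (a.a0 - a.a2 + a.a4 - (a.a1 - a.a3) * q) +
    (q ^ 2 + 1) * ((a.a1 - a.a3) ^ 2 - (a.a2 + a.a3 * q + a.a4 * (q ^ 2 - 1)) *
      (a.a0 - a.a2 + a.a4 - (a.a1 - a.a3) * q)) := by
  simp only [ev, s4]
  ring

/-- the part from `(q + 1) ^ 4` -/
theorem drop_succ {a : Co} {q Y : ℤ} (hq : q + 1 ≠ 0) (h : a.ev q ∣ (q + 1) ^ 4 * Y) :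
    a.ev q ∣ (if a.s2 = 0 then (q + 1) * |a.s2'| ^ 3 else |a.s2| ^ 4) * Y := by
  split_ifs with h0
  · obtain ⟨b, hb⟩ : ∃ b, b = a.a0 + (a.a1 - a.a0) * q + (a.a2 - (a.a1 - a.a0)) * q ^ 2 +
        (a.a3 - (a.a2 - (a.a1 - a.a0))) * q ^ 3 := ⟨_, rfl⟩
    have he : a.ev q = (q + 1) * b := by
      rw [hb]
      simp only [ev, s2] at h0 ⊢
      linear_combination q ^ 4 * h0
    rw [he, pow_succ', mul_assoc] at h
    rw [he, mul_assoc]
    refine mul_dvd_mul_left _ (drop_pow (K := b) (x := q + 1) (r := a.s2') (u := 1)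
      (v := -((a.a1 - a.a0) + (a.a2 - (a.a1 - a.a0)) * (q - 1) +
        (a.a3 - (a.a2 - (a.a1 - a.a0))) * (q ^ 2 - q + 1))) ?_ 3 ((mul_dvd_mul_iff_left hq).1 h))
    rw [hb]
    simp only [s2']
    ring
  · exact drop_pow (res2 a q) 4 h

/-! ### growth -/

/-- constant and exponent bounding the part from a single factor -/
def cz (r : ℤ) (c z : ℕ) : ℕ × ℕ := if r = 0 then (c, z) else (r.natAbs, 0)

theorem part_le {r x q : ℤ} {c z : ℕ} (hx : x ≤ c * q ^ z) :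
    (if r = 0 then x else |r|) ≤ (cz r c z).1 * q ^ (cz r c z).2 := by
  unfold cz
  split_ifs
  · exact hx
  · simp

/-- degree, leading coefficient and size of the rest -/
def lead (a : Co) : ℕ × ℤ × ℤ :=
  if a.a4 ≠ 0 then (3, a.a4, |a.a0| + |a.a1| + |a.a2| + |a.a3|) else (2, a.a3, |a.a0| + |a.a1| + |a.a2|)

/-- the value is too big to be at most `C * q ^ z` -/
def tooBig (a : Co) (Q C z : ℕ) : Bool :=
  decide (a.lead.2.1 * Q + a.lead.2.2 < 0 ∨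
    (z ≤ a.lead.1 ∧ (C : ℤ) * (Q : ℤ) ^ z < (a.lead.2.1 * Q - a.lead.2.2) * (Q : ℤ) ^ a.lead.1))

theorem ev_near (a : Co) {q : ℤ} (hq : 1 ≤ q) :
    |a.ev q - a.lead.2.1 * q * q ^ a.lead.1| ≤ a.lead.2.2 * q ^ a.lead.1 := by
  have key : ∀ (c : ℤ) (i D : ℕ), i ≤ D → |c * q ^ i| ≤ |c| * q ^ D := fun c i D h => by
    rw [abs_mul, abs_of_nonneg (pow_nonneg (by omega : (0 : ℤ) ≤ q) i)]
    exact mul_le_mul_of_nonneg_left (pow_le_pow_right₀ hq h) (abs_nonneg c)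
  unfold lead
  split_ifs with h4
  · have e : a.ev q - a.a4 * q * q ^ 3 = a.a0 * q ^ 0 + a.a1 * q ^ 1 + a.a2 * q ^ 2 + a.a3 * q ^ 3 := by
      simp only [ev]; ring
    show |a.ev q - a.a4 * q * q ^ 3| ≤ (|a.a0| + |a.a1| + |a.a2| + |a.a3|) * q ^ 3
    rw [e, add_mul, add_mul, add_mul]
    have k0 := key a.a0 0 3 (by omega)
    have k1 := key a.a1 1 3 (by omega)
    have k2 := key a.a2 2 3 (by omega)
    have k3 := key a.a3 3 3 (by omega)
    have t := abs_add_three (a.a0 * q ^ 0) (a.a1 * q ^ 1) (a.a2 * q ^ 2)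
    have t' := abs_add_le (a.a0 * q ^ 0 + a.a1 * q ^ 1 + a.a2 * q ^ 2) (a.a3 * q ^ 3)
    linarith
  · have h4' : a.a4 = 0 := not_not.1 h4
    have e : a.ev q - a.a3 * q * q ^ 2 = a.a0 * q ^ 0 + a.a1 * q ^ 1 + a.a2 * q ^ 2 := by
      simp only [ev, h4']; ring
    show |a.ev q - a.a3 * q * q ^ 2| ≤ (|a.a0| + |a.a1| + |a.a2|) * q ^ 2
    rw [e, add_mul, add_mul]
    have k0 := key a.a0 0 2 (by omega)
    have k1 := key a.a1 1 2 (by omega)
    have k2 := key a.a2 2 2 (by omega)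
    have t := abs_add_three (a.a0 * q ^ 0) (a.a1 * q ^ 1) (a.a2 * q ^ 2)
    linarith

theorem false_of_tooBig {a : Co} {Q C z : ℕ} (h : a.tooBig Q C z = true) {q : ℤ} (hQ1 : 1 ≤ Q)
    (hq : (Q : ℤ) ≤ q) (hpos : 0 < a.ev q) (hle : a.ev q ≤ C * q ^ z) : False := by
  obtain ⟨hlo, hhi⟩ := abs_le.1 (ev_near a (q := q) (by omega))
  simp only [tooBig, decide_eq_true_eq] at h
  generalize hD : a.lead.1 = D at h hlo hhi
  generalize hA : a.lead.2.1 = A at h hlo hhi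
  generalize hS : a.lead.2.2 = S at h hlo hhi
  have hS0 : 0 ≤ S := by
    rw [← hS]
    unfold lead
    split_ifs <;> positivity
  have hqD : (0 : ℤ) < q ^ D := pow_pos (by omega) D
  rcases h with h | ⟨hz, h⟩
  · have hA : A < 0 := by
      by_contra hc
      have : (0 : ℤ) ≤ A * Q := mul_nonneg (not_lt.1 hc) (by omega)
      omega
    have h1 : A * q ≤ A * Q := mul_le_mul_of_nonpos_left hq hA.le
    have h2 : (A * q + S) * q ^ D < 0 := mul_neg_of_neg_of_pos (by linarith) hqD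
    linarith
  · have hQD : (0 : ℤ) < (Q : ℤ) ^ D := pow_pos (by omega) D
    have hC : (0 : ℤ) ≤ (C : ℤ) * (Q : ℤ) ^ z := by positivity
    have hAQ : 0 < A * Q - S := by
      by_contra hc
      have := mul_nonpos_of_nonpos_of_nonneg (not_lt.1 hc) hQD.le
      linarith
    have hA : 0 ≤ A := by
      by_contra hc
      have := mul_neg_of_neg_of_pos (not_le.1 hc) (show (0 : ℤ) < Q by omega)
      linarith
    have h1 : A * Q ≤ A * q := mul_le_mul_of_nonneg_left hq hA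
    have h2 : (A * Q - S) * q ^ D ≤ (A * q - S) * q ^ D := mul_le_mul_of_nonneg_right (by linarith) hqD.le
    have h3 : (C : ℤ) * q ^ z * (Q : ℤ) ^ D ≤ C * (Q : ℤ) ^ z * q ^ D := by
      obtain ⟨k, rfl⟩ := Nat.exists_eq_add_of_le hz
      rw [pow_add, pow_add]
      have hk : (Q : ℤ) ^ k ≤ q ^ k := pow_le_pow_left₀ (by omega) hq k
      have hc : (0 : ℤ) ≤ C * q ^ z * (Q : ℤ) ^ z := by
        have : (0 : ℤ) ≤ q := by omega
        positivity
      have := mul_le_mul_of_nonneg_left hk hc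
      linarith
    have h4 : (C : ℤ) * (Q : ℤ) ^ z * q ^ D < (A * Q - S) * (Q : ℤ) ^ D * q ^ D := mul_lt_mul_of_pos_right h hqD
    have h5 : (A * Q - S) * q ^ D ≤ C * q ^ z := by linarith
    have h6 := mul_le_mul_of_nonneg_right h5 hQD.le
    linarith

/-- the bound for a divisor of `d q (q - 1) (q + 1)⁴ (q² - q + 1)` -/
def bndA (d : ℕ) (a : Co) : ℕ × ℕ :=
  (d * ((cz a.a0 1 1).1 * ((cz a.s1 1 1).1 * ((if a.s2 = 0 then 2 * a.s2'.natAbs ^ 3 else a.s2.natAbs ^ 4) *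
      (cz a.s3 1 2).1))),
    (cz a.a0 1 1).2 + ((cz a.s1 1 1).2 + ((if a.s2 = 0 then 1 else 0) + (cz a.s3 1 2).2)))

/-- the check of one polynomial -/
def okA (d Q : ℕ) (a : Co) : Bool :=
  decide (a.s2 ≠ 0 ∨ a.s2' ≠ 0) && a.tooBig Q (bndA d a).1 (bndA d a).2

theorem not_dvd_of_okA {d Q : ℕ} {a : Co} (h : a.okA d Q = true) (hd : 0 < d) (hQ : 2 ≤ Q) {q : ℤ}
    (hq : (Q : ℤ) ≤ q) (hpos : 0 < a.ev q) :
    ¬ a.ev q ∣ d * (q * ((q - 1) * ((q + 1) ^ 4 * (q ^ 2 - q + 1)))) := by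
  intro hdvd
  simp only [okA, Bool.and_eq_true, decide_eq_true_eq] at h
  have hq2 : (2 : ℤ) ≤ q := by omega
  have h0 : a.ev q ∣ (if a.a0 = 0 then q else |a.a0|) * ((d : ℤ) * ((q - 1) * ((q + 1) ^ 4 * (q ^ 2 - q + 1)))) := by
    have e : a.ev q ∣ q * ((d : ℤ) * ((q - 1) * ((q + 1) ^ 4 * (q ^ 2 - q + 1)))) := by
      rwa [mul_left_comm]
    split_ifs with h0
    · exact e
    · exact drop_abs e (res0 a q)
  generalize hX0 : (if a.a0 = 0 then q else |a.a0|) = X0 at h0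
  have h1 : a.ev q ∣ (if a.s1 = 0 then q - 1 else |a.s1|) * (X0 * ((d : ℤ) * ((q + 1) ^ 4 * (q ^ 2 - q + 1)))) := by
    have e : a.ev q ∣ (q - 1) * (X0 * ((d : ℤ) * ((q + 1) ^ 4 * (q ^ 2 - q + 1)))) :=
      h0.trans (dvd_of_eq (by ring))
    split_ifs with h0
    · exact e
    · exact drop_abs e (res1 a q)
  generalize hX1 : (if a.s1 = 0 then q - 1 else |a.s1|) = X1 at h1
  have h2 := drop_succ (a := a) (q := q) (Y := X1 * (X0 * ((d : ℤ) * (q ^ 2 - q + 1)))) (by omega)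
    (h1.trans (dvd_of_eq (by ring)))
  generalize hX2 : (if a.s2 = 0 then (q + 1) * |a.s2'| ^ 3 else |a.s2| ^ 4) = X2 at h2
  have h3 : a.ev q ∣ (if a.s3 = 0 then q ^ 2 - q + 1 else |a.s3|) * (X2 * (X1 * (X0 * (d : ℤ)))) := by
    have e : a.ev q ∣ (q ^ 2 - q + 1) * (X2 * (X1 * (X0 * (d : ℤ)))) := h2.trans (dvd_of_eq (by ring))
    split_ifs with h0
    · exact e
    · exact drop_abs e (res3 a q)
  generalize hX3 : (if a.s3 = 0 then q ^ 2 - q + 1 else |a.s3|) = X3 at h3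
  have p0 : 0 < X0 := by rw [← hX0]; split_ifs with e <;> [omega; exact abs_pos.2 e]
  have p1 : 0 < X1 := by rw [← hX1]; split_ifs with e <;> [omega; exact abs_pos.2 e]
  have p3 : 0 < X3 := by rw [← hX3]; split_ifs with e <;> [nlinarith; exact abs_pos.2 e]
  have p2 : 0 < X2 := by
    rw [← hX2]
    split_ifs with e
    · exact mul_pos (by omega) (pow_pos (abs_pos.2 (h.1.resolve_left (not_not.2 e))) 3)
    · exact pow_pos (abs_pos.2 e) 4
  have hdz : (0 : ℤ) < d := by exact_mod_cast hd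
  have b0 : X0 ≤ (cz a.a0 1 1).1 * q ^ (cz a.a0 1 1).2 := hX0 ▸ part_le (by simp)
  have b1 : X1 ≤ (cz a.s1 1 1).1 * q ^ (cz a.s1 1 1).2 := hX1 ▸ part_le (by simp)
  have b3 : X3 ≤ (cz a.s3 1 2).1 * q ^ (cz a.s3 1 2).2 := hX3 ▸ part_le (by simp; omega)
  have b2 : X2 ≤ ((if a.s2 = 0 then 2 * a.s2'.natAbs ^ 3 else a.s2.natAbs ^ 4 : ℕ) : ℤ) *
      q ^ (if a.s2 = 0 then 1 else 0) := by
    rw [← hX2]
    split_ifs
    · push_cast
      rw [pow_one]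
      have : (0 : ℤ) ≤ |a.s2'| ^ 3 := by positivity
      nlinarith
    · simp
  refine false_of_tooBig h.2 (by omega) hq hpos ?_
  refine (Int.le_of_dvd (by positivity) h3).trans ?_
  calc X3 * (X2 * (X1 * (X0 * (d : ℤ))))
      ≤ ((cz a.s3 1 2).1 * q ^ (cz a.s3 1 2).2) *
        ((((if a.s2 = 0 then 2 * a.s2'.natAbs ^ 3 else a.s2.natAbs ^ 4 : ℕ) : ℤ) * q ^ (if a.s2 = 0 then 1 else 0)) *
        (((cz a.s1 1 1).1 * q ^ (cz a.s1 1 1).2) * (((cz a.a0 1 1).1 * q ^ (cz a.a0 1 1).2) * (d : ℤ)))) := by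
        gcongr
    _ = _ := by simp only [bndA, Nat.cast_mul, pow_add]; ring

end Co

end CfsgLib.Perm.Trans.UnitFive.Singer
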