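import Cfsg.Agent.Lib.Perm.Trans.UnitFive.Singer.Setup
import Cfsg.Agent.Lib.Perm.Trans.UnitFive.Singer.Equation

/-!
# Facts about the minimal overgroup modulo scalars

The centre is trivial, the image of the Singer group lies in no proper normal subgroup, and the nonlinear
irreducible characters have large degree.
-/

set_option autoImplicit false
set_option linter.all false

namespace CfsgLib.Perm.Trans.UnitFive.Singer

open scoped Matrix
open Matrix Cfsg Cfsg.Geo CfsgLib.Perm.Asch CfsgLib.Perm.Trans CfsgLib.Char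

universe u

variable {F : Type u} [Field F] [Fintype F] {q : ℕ} {γ : GL (Fin 5) F} {M₁ : Subgroup (GL (Fin 5) F)}
  {L : Type u} [Group L] {π : M₁ →* L} {τ : L}

theorem Sec.comm (S : Sec q γ M₁ π τ) : ∀ a ∈ Subgroup.zpowers τ, ∀ b ∈ Subgroup.zpowers τ, a * b = b * a := by
  intro a ha b hb
  obtain ⟨i, rfl⟩ := Subgroup.mem_zpowers_iff.1 ha
  obtain ⟨j, rfl⟩ := Subgroup.mem_zpowers_iff.1 hb
  rw [← _root_.zpow_add, ← _root_.zpow_add, add_comm]

theorem Sec.card_A (S : Sec q γ M₁ π τ) : Nat.card (Subgroup.zpowers τ) = np q := by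
  rw [Nat.card_zpowers, S.order]

theorem Sec.one_lt_np (S : Sec q γ M₁ π τ) : 1 < np q := by
  by_contra h
  have h1 : np q = 1 := by have := np_pos q; omega
  refine S.not_normal ?_
  have : Subgroup.zpowers τ = ⊥ := Subgroup.eq_bot_of_card_eq _ (S.card_A.trans h1)
  rw [this]
  infer_instance

theorem Sec.center_eq (S : Sec q γ M₁ π τ) : Subgroup.center L = ⊥ := by
  rw [eq_bot_iff]
  intro z hz
  rw [Subgroup.mem_bot]
  by_contra hz1
  have hτ1 : τ ≠ 1 := fun h => by
    have := S.one_lt_np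
    rw [← S.order, h, orderOf_one] at this
    exact lt_irrefl _ this
  have hzA : z ∈ Subgroup.zpowers τ := by
    rw [← S.cent τ (Subgroup.mem_zpowers τ) hτ1, Subgroup.mem_centralizer_singleton_iff]
    exact (Subgroup.mem_center_iff.1 hz τ).symm
  refine S.not_normal ?_
  have htop : Subgroup.zpowers τ = ⊤ := by
    rw [← S.cent z hzA hz1, eq_top_iff]
    intro x _
    rw [Subgroup.mem_centralizer_singleton_iff]
    exact Subgroup.mem_center_iff.1 hz x
  rw [htop]
  infer_instance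

theorem Sec.inf_center (S : Sec q γ M₁ π τ) : Subgroup.zpowers τ ⊓ Subgroup.center L = ⊥ := by
  rw [S.center_eq, inf_bot_eq]

theorem Sec.hone (S : Sec q γ M₁ π τ) (g : L) (hg : g ∉ Subgroup.center L) (a b : L)
    (ha : Subgroup.centralizer ({g} : Set L) ⊓ (Subgroup.zpowers τ).map (MulAut.conj a).toMonoidHom ≠ ⊥)
    (hb : Subgroup.centralizer ({g} : Set L) ⊓ (Subgroup.zpowers τ).map (MulAut.conj b).toMonoidHom ≠ ⊥) :
    (Subgroup.zpowers τ).map (MulAut.conj a).toMonoidHom = (Subgroup.zpowers τ).map (MulAut.conj b).toMonoidHom := by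
  have hg1 : g ≠ 1 := fun h => hg (h ▸ Subgroup.one_mem _)
  have key : ∀ a : L, Subgroup.centralizer ({g} : Set L) ⊓ (Subgroup.zpowers τ).map (MulAut.conj a).toMonoidHom ≠ ⊥ →
      ∀ x : L, x ∈ (Subgroup.zpowers τ).map (MulAut.conj a).toMonoidHom ↔
        x * g = g * x := by
    intro a ha x
    obtain ⟨h, hh, hh1⟩ := (Subgroup.bot_or_exists_ne_one _).resolve_left ha
    obtain ⟨h', hh', rfl⟩ := hh.2
    have hh'1 : h' ≠ 1 := fun e => hh1 (by rw [e, map_one])
    have hga : a⁻¹ * g * a ∈ Subgroup.zpowers τ := by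
      rw [← S.cent h' hh' hh'1, Subgroup.mem_centralizer_singleton_iff]
      have h2 : a * h' * a⁻¹ * g = g * (a * h' * a⁻¹) := Subgroup.mem_centralizer_singleton_iff.1 hh.1
      calc a⁻¹ * g * a * h' = a⁻¹ * (g * (a * h' * a⁻¹)) * a := by group
        _ = a⁻¹ * (a * h' * a⁻¹ * g) * a := by rw [h2]
        _ = _ := by group
    have hga1 : a⁻¹ * g * a ≠ 1 := fun e => hg1 (by
      calc g = a * (a⁻¹ * g * a) * a⁻¹ := by group
        _ = 1 := by rw [e, mul_one, mul_inv_cancel])
    rw [Subgroup.mem_map_equiv, ← S.cent _ hga hga1, Subgroup.mem_centralizer_singleton_iff, MulAut.conj_symm_apply]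
    constructor
    · intro h
      calc x * g = a * ((a⁻¹ * x * a) * (a⁻¹ * g * a)) * a⁻¹ := by group
        _ = _ := by rw [h]; group
    · intro h
      calc a⁻¹ * x * a * (a⁻¹ * g * a) = a⁻¹ * (x * g) * a := by group
        _ = _ := by rw [h]; group
  ext x
  rw [key a ha, key b hb]

theorem Sec.normal_top [Finite L] (S : Sec q γ M₁ π τ) (M : Subgroup L) (hM : M.Normal)
    (hA : Subgroup.zpowers τ ≤ M) : M = ⊤ := by
  by_contra hne
  have hle := S.minimal M hA hne
  refine S.not_normal ⟨fun a ha g => ?_⟩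
  obtain ⟨N, hN⟩ : ∃ N, N = Subgroup.normalizer (Subgroup.zpowers τ : Set L) := ⟨_, rfl⟩
  rw [← hN] at hle
  have hmem : g * a * g⁻¹ ∈ N := hle (hM.conj_mem a (hA ha) g)
  let A' : Subgroup N := (Subgroup.zpowers τ).subgroupOf N
  haveI : A'.Normal := by
    subst hN
    exact Subgroup.normal_in_normalizer
  let x : N := ⟨g * a * g⁻¹, hmem⟩
  have h5 : orderOf (QuotientGroup.mk x : N ⧸ A') ∣ 5 := (orderOf_dvd_natCard _).trans (by
    show (Subgroup.zpowers τ).relIndex N ∣ 5
    rw [hN]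
    exact S.relIndex)
  have hnp : orderOf (QuotientGroup.mk x : N ⧸ A') ∣ np q := by
    refine (orderOf_map_dvd (QuotientGroup.mk' A') x).trans ?_
    rw [← Subgroup.orderOf_coe x]
    show orderOf (g * a * g⁻¹) ∣ np q
    rw [show g * a * g⁻¹ = MulAut.conj g a from rfl, MulEquiv.orderOf_eq, ← S.card_A, ← Subgroup.orderOf_mk a ha]
    exact orderOf_dvd_natCard _
  have hco : Nat.Coprime (np q) 5 := Nat.Coprime.coprime_dvd_right (by norm_num) (np_coprime q)
  have h1 := Nat.eq_one_of_dvd_coprimes hco hnp h5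
  rw [orderOf_eq_one_iff, QuotientGroup.eq_one_iff] at h1
  exact h1

theorem Sec.degree_gt [Fintype L] (S : Sec q γ M₁ π τ) (χ : IrrCharacter L) (h1 : (χ : L → ℂ) ≠ fun _ => 1) {d : ℕ}
    (hd : (χ : L → ℂ) 1 = d) : d = 1 ∨ np q < (1 + d) ^ 2 := by
  classical
  by_cases hd1 : d = 1
  · exact Or.inl hd1
  refine Or.inr ?_
  have h := AbelianTIBound.succ_degree_sq_gt (H := Subgroup.zpowers τ) S.comm S.inf_center
    (fun g hg a b => S.hone g hg a b) χ (by rw [hd]; exact_mod_cast hd1) S.normal_top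
  rw [S.card_A, hd, Complex.natCast_re] at h
  exact_mod_cast h

theorem degree_sq_le {G : Type u} [Group G] [Fintype G] (χ : IrrCharacter G) {d : ℕ} (hd : (χ : G → ℂ) 1 = d) :
    d ^ 2 ≤ Nat.card G := by
  classical
  haveI := Fintype.ofFinite (IrrCharacter G)
  choose e he using fun ψ : IrrCharacter G => isCharacter_degree (isCharacter_irr ψ)
  have h := sum_degree_sq (G := G)
  simp only [he] at h
  have h2 : ∑ ψ : IrrCharacter G, e ψ ^ 2 = Nat.card G := by exact_mod_cast h
  have h3 : e χ = d := by exact_mod_cast (he χ).symm.trans hd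
  rw [← h2, ← h3]
  exact Finset.single_le_sum (f := fun ψ => e ψ ^ 2) (fun _ _ => Nat.zero_le _) (Finset.mem_univ χ)

end CfsgLib.Perm.Trans.UnitFive.Singer
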