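import Cfsg.Agent.Lib.Perm.Trans.UnitFive.Singer.Norm

/-!
# A minimal overgroup of the Singer group modulo scalars

The image of the Singer group is the centraliser of each of its nontrivial elements, lies in no proper normal
subgroup, and has index one or five in its normaliser.
-/

set_option autoImplicit false
set_option linter.all false

namespace CfsgLib.Perm.Trans.UnitFive.Singer

open scoped Matrix
open Matrix Cfsg Cfsg.Geo CfsgLib.Perm.Asch CfsgLib.Perm.Trans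

universe u

variable {F : Type u} [Field F] [Fintype F] {q : ℕ}

local notation "M5" => Matrix (Fin 5) (Fin 5) F
local notation "G5" => GL (Fin 5) F

/-- a minimal overgroup with its quotient by the scalars -/
structure Sec (q : ℕ) (γ : G5) (M₁ : Subgroup G5) {L : Type u} [Group L] (π : M₁ →* L) (τ : L) : Prop where
  le : M₁ ≤ suG F q
  t_mem : tg q γ ∈ M₁
  surj : Function.Surjective π
  ker : ∀ g : M₁, π g = 1 ↔ ∃ c : F, ((g : G5) : M5) = c • 1
  map_t : π ⟨tg q γ, t_mem⟩ = τ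
  order : orderOf τ = np q
  cent : ∀ a ∈ Subgroup.zpowers τ, a ≠ 1 → Subgroup.centralizer ({a} : Set L) = Subgroup.zpowers τ
  not_normal : ¬ (Subgroup.zpowers τ).Normal
  minimal : ∀ S : Subgroup L, Subgroup.zpowers τ ≤ S → S ≠ ⊤ → S ≤ Subgroup.normalizer (Subgroup.zpowers τ : Set L)
  relIndex : (Subgroup.zpowers τ).relIndex (Subgroup.normalizer (Subgroup.zpowers τ : Set L)) ∣ 5
  card : Nat.card M₁ = dd q * Nat.card L

variable {K : Subalgebra F (Matrix (Fin 5) (Fin 5) F)} {γ y : GL (Fin 5) F}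

theorem Gens.relIndex_norm (G : Gens q K γ y) (D : Sing q K) :
    (Subgroup.zpowers (tg q γ)).relIndex (subalgebraNormalizer K ⊓ suG F q) ∣ 5 := by
  classical
  obtain ⟨H, hH⟩ : ∃ H, H = subalgebraNormalizer K ⊓ suG F q := ⟨_, rfl⟩
  rw [← hH]
  have hTH : tg q γ ∈ H := hH ▸ ⟨SingerNorm.mem_normalizer (by norm_num) D.field (k := ((tg q γ ^ 1 : G5) : M5))
    (G.t_field 1) (fun c hc => by
      have h := (G.t_scalar 1).1 ⟨c, hc⟩
      have h5 := np_coprime q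
      have h6 := Nat.dvd_one.1 h
      have h7 := np_mul q
      rw [h6, one_mul] at h7
      have h8 := Nat.le_of_dvd (by norm_num) (Nat.gcd_dvd_left 5 (q + 1) : dd q ∣ 5)
      have h9 := succ_mul_phi q
      have h10 : q ^ 4 * q = q ^ 5 := by ring
      have h11 : 2 ^ 4 * q ≤ q ^ 4 * q := Nat.mul_le_mul_right q (Nat.pow_le_pow_left D.two_le 4)
      have h12 : (q + 1) * phi q ≤ (q + 1) * 5 := Nat.mul_le_mul_left _ (h7 ▸ h8)
      have := D.two_le
      omega)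
    (by rw [pow_one, ← Units.val_mul, ← Units.val_mul, mul_inv_cancel_right, ← pow_one (tg q γ)]; exact G.t_field 1),
    G.t_mem⟩
  obtain ⟨T, hT⟩ : ∃ T : Subgroup H, T = (Subgroup.zpowers (tg q γ)).subgroupOf H := ⟨_, rfl⟩
  haveI : T.Normal := ⟨fun a ha g => by
    rw [hT, Subgroup.mem_subgroupOf] at ha ⊢
    obtain ⟨j, hj⟩ := mem_powers_iff_mem_zpowers.2 ha
    obtain ⟨i, -, hi⟩ := G.conj_t (g := ((g : G5))⁻¹) ((subalgebraNormalizer K).inv_mem (hH ▸ g.2 :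
      (g : G5) ∈ subalgebraNormalizer K ⊓ suG F q).1)
    refine mem_powers_iff_mem_zpowers.1 ⟨j * q ^ (2 * i), ?_⟩
    show tg q γ ^ (j * q ^ (2 * i)) = (g : G5) * (a : G5) * (g : G5)⁻¹
    rw [← hj, ← hi j, inv_inv]⟩
  have hy : y ∈ H := hH ▸ G.y_mem
  obtain ⟨yq, hyq⟩ : ∃ yq : H ⧸ T, yq = QuotientGroup.mk ⟨y, hy⟩ := ⟨_, rfl⟩
  have hall : ∀ x : H ⧸ T, x ∈ Subgroup.zpowers yq := fun x => by
    induction x using QuotientGroup.induction_on with
    | _ g =>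
    obtain ⟨j, i, -, hg⟩ := G.normalizer_eq D (hH ▸ g.2 : (g : G5) ∈ subalgebraNormalizer K ⊓ suG F q)
    refine mem_powers_iff_mem_zpowers.1 ⟨i, ?_⟩
    show yq ^ i = _
    rw [hyq, ← QuotientGroup.mk_pow, QuotientGroup.eq, hT, Subgroup.mem_subgroupOf]
    obtain ⟨k, -, hk⟩ := G.conj_t ((subalgebraNormalizer K).pow_mem G.y_mem.1 i)
    refine mem_powers_iff_mem_zpowers.1 ⟨j * q ^ (2 * k), ?_⟩
    show tg q γ ^ (j * q ^ (2 * k)) = (y ^ i)⁻¹ * (g : G5)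
    rw [← hk j, hg, mul_assoc]
  have h5 : yq ^ 5 = 1 := by
    rw [hyq, ← QuotientGroup.mk_pow, QuotientGroup.eq_one_iff, hT, Subgroup.mem_subgroupOf]
    show y ^ 5 ∈ Subgroup.zpowers (tg q γ)
    have hγns : ∀ c : F, (γ : M5) ≠ c • 1 := fun c hc => by
      have h := (G.scalar 1).1 ⟨c, by rw [pow_one]; exact hc⟩
      rw [Nat.dvd_one] at h
      have h5 := succ_mul_phi q
      rw [h, mul_one] at h5
      have h7 : q ^ 1 < q ^ 5 := Nat.pow_lt_pow_right (by have := D.two_le; omega) (by norm_num)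
      rw [pow_one] at h7
      omega
    have hk : ∀ k : ℕ, (y ^ k)⁻¹ * γ * y ^ k = γ ^ (q ^ 2) ^ k := fun k => by
      induction k with
      | zero => simp
      | succ k ih =>
        calc (y ^ (k + 1))⁻¹ * γ * y ^ (k + 1) = y⁻¹ * ((y ^ k)⁻¹ * γ * y ^ k) * y := by rw [pow_succ]; group
          _ = (y⁻¹ * γ * y) ^ (q ^ 2) ^ k := by
            rw [ih]
            have := conj_pow (a := y⁻¹) (b := γ) (i := (q ^ 2) ^ k)
            rw [inv_inv] at this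
            exact this.symm
          _ = γ ^ (q ^ 2) ^ (k + 1) := by rw [G.y_conj, ← pow_mul, ← pow_succ' (q ^ 2) k]
    have hfix : γ ^ (q ^ 2) ^ 5 = γ := by
      have hq5 : 1 ≤ q ^ 5 := Nat.one_le_pow _ _ (by have := D.two_le; omega)
      have e : (q ^ 2) ^ 5 = (q ^ 5 + 1) * (q ^ 5 - 1) + 1 := by
        rw [← pow_mul, show 2 * 5 = 5 + 5 from rfl, pow_add]
        zify [hq5]
        ring
      rw [e, pow_succ, ← G.order, pow_mul, pow_orderOf_eq_one, one_pow, one_mul]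
    have hcomm : y ^ 5 * γ = γ * y ^ 5 := by
      calc y ^ 5 * γ = y ^ 5 * ((y ^ 5)⁻¹ * γ * y ^ 5) := by rw [hk, hfix]
        _ = γ * y ^ 5 := by group
    obtain ⟨j, hj⟩ := G.t_gen ((suG F q).pow_mem G.y_mem.2 5)
      (SingerNorm.mem_of_commute (by norm_num) D.field G.mem_field hγns (by rw [← Units.val_mul, hcomm, Units.val_mul]))
    exact mem_powers_iff_mem_zpowers.1 ⟨j, hj.symm⟩
  rw [show (Subgroup.zpowers (tg q γ)).relIndex H = Nat.card (H ⧸ T) by rw [hT]; rfl,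
    show Nat.card (H ⧸ T) = orderOf yq by
      rw [← Nat.card_zpowers, (Subgroup.eq_top_iff' _).2 hall, Subgroup.card_top]]
  exact orderOf_dvd_of_pow_eq_one h5

set_option maxHeartbeats 1000000 in
theorem exists_sec (G : Gens q K γ y) (D : Sing q K) {M : Subgroup G5} (hM : M ≤ suG F q) (ht : tg q γ ∈ M)
    (hne : ¬ M ≤ subalgebraNormalizer K) :
    ∃ (M₁ : Subgroup G5) (L : Type u) (_ : Group L) (_ : Finite L) (π : M₁ →* L) (τ : L),
      M₁ ≤ M ∧ Sec q γ M₁ π τ := by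
  classical
  obtain ⟨M₁, ⟨hM₁, ht₁, hne₁⟩, hmin⟩ : ∃ M₁, (M₁ ≤ M ∧ tg q γ ∈ M₁ ∧ ¬ M₁ ≤ subalgebraNormalizer K) ∧
      ∀ S : Subgroup G5, S ≤ M → tg q γ ∈ S → ¬ S ≤ subalgebraNormalizer K → Nat.card M₁ ≤ Nat.card S := by
    obtain ⟨M₁, h, hmin⟩ := Set.exists_min_image {S : Subgroup G5 | S ≤ M ∧ tg q γ ∈ S ∧
      ¬ S ≤ subalgebraNormalizer K} (fun S => Nat.card S) (Set.toFinite _) ⟨M, le_rfl, ht, hne⟩
    exact ⟨M₁, h, fun S a b c => hmin S ⟨a, b, c⟩⟩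
  obtain ⟨Z, hZ⟩ : ∃ Z : Subgroup M₁, Z = (Subgroup.zpowers (tg q γ ^ np q)).subgroupOf M₁ := ⟨_, rfl⟩
  have hZmem : ∀ g : M₁, g ∈ Z ↔ ∃ c : F, ((g : G5) : M5) = c • 1 := fun g => by
    rw [hZ, Subgroup.mem_subgroupOf]
    constructor
    · intro h
      obtain ⟨j, hj⟩ := mem_powers_iff_mem_zpowers.2 h
      rw [← hj]
      show ∃ c : F, (((tg q γ ^ np q) ^ j : G5) : M5) = c • 1
      rw [← pow_mul]
      exact (G.t_scalar _).2 (dvd_mul_right _ _)
    · rintro ⟨c, hc⟩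
      obtain ⟨i, hi⟩ := G.t_gen (hM (hM₁ g.2)) (hc ▸ K.smul_mem K.one_mem c)
      obtain ⟨j, rfl⟩ := (G.t_scalar i).1 ⟨c, hi ▸ hc⟩
      exact mem_powers_iff_mem_zpowers.1 ⟨j, by show _ ^ j = _; rw [← pow_mul, hi]⟩
  haveI : Z.Normal := ⟨fun a ha g => by
    obtain ⟨c, hc⟩ := (hZmem a).1 ha
    refine (hZmem _).2 ⟨c, ?_⟩
    rw [Subgroup.coe_mul, Subgroup.coe_mul, Units.val_mul, Units.val_mul, hc, Matrix.mul_smul, mul_one,
      Matrix.smul_mul, Subgroup.coe_inv, Units.mul_inv]⟩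
  refine ⟨M₁, M₁ ⧸ Z, inferInstance, inferInstance, QuotientGroup.mk' Z, QuotientGroup.mk' Z ⟨tg q γ, ht₁⟩, hM₁, ?_⟩
  obtain ⟨π, hπ⟩ : ∃ π, π = QuotientGroup.mk' Z := ⟨_, rfl⟩
  obtain ⟨τ, hτ⟩ : ∃ τ, τ = π ⟨tg q γ, ht₁⟩ := ⟨_, rfl⟩
  rw [← hπ, ← hτ]
  have hker : ∀ g : M₁, π g = 1 ↔ ∃ c : F, ((g : G5) : M5) = c • 1 := fun g => by
    rw [hπ, QuotientGroup.mk'_apply, QuotientGroup.eq_one_iff, hZmem]
  have hpow : ∀ i : ℕ, τ ^ i = 1 ↔ np q ∣ i := fun i => by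
    rw [hτ, ← map_pow, hker, Subgroup.coe_pow]
    exact G.t_scalar i
  have hτord : orderOf τ = np q := Nat.dvd_antisymm (orderOf_dvd_of_pow_eq_one ((hpow _).2 dvd_rfl))
    ((hpow _).1 (pow_orderOf_eq_one τ))
  have hsurj : Function.Surjective π := hπ ▸ QuotientGroup.mk'_surjective Z
  -- moving a nontrivial element inside the group
  have key : ∀ (g : M₁) (a i : ℕ), π g * τ ^ a * (π g)⁻¹ = τ ^ i →
      ∃ c : F, ((g : G5) : M5) * ((tg q γ ^ a : G5) : M5) * (((g : G5)⁻¹ : G5) : M5) = c • ((tg q γ ^ i : G5) : M5) := by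
    intro g a i h
    have h2 : π ((⟨tg q γ, ht₁⟩ ^ i)⁻¹ * (g * ⟨tg q γ, ht₁⟩ ^ a * g⁻¹)) = 1 := by
      rw [map_mul, map_inv, map_mul, map_mul, map_inv, map_pow, map_pow, ← hτ, h, inv_mul_cancel]
    obtain ⟨c, hc⟩ := (hker _).1 h2
    refine ⟨c, ?_⟩
    rw [Subgroup.coe_mul, Subgroup.coe_inv, Subgroup.coe_mul, Subgroup.coe_mul, Subgroup.coe_inv, Subgroup.coe_pow,
      Subgroup.coe_pow] at hc
    have h4 := congrArg (fun m => ((tg q γ ^ i : G5) : M5) * m) hc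
    simp only [Units.val_mul, ← mul_assoc, Units.mul_inv, one_mul, Matrix.mul_smul, mul_one] at h4
    exact h4
  have hmemA : ∀ x, x ∈ Subgroup.zpowers τ ↔ ∃ i : ℕ, τ ^ i = x := fun x =>
    ⟨fun h => mem_powers_iff_mem_zpowers.2 h, fun h => mem_powers_iff_mem_zpowers.1 h⟩
  have hnorm : ∀ g : M₁, π g ∈ Subgroup.normalizer (Subgroup.zpowers τ : Set (M₁ ⧸ Z)) →
      (g : G5) ∈ subalgebraNormalizer K ⊓ suG F q := fun g hg => by
    obtain ⟨i, hi⟩ := (hmemA _).1 ((Subgroup.mem_normalizer_iff.1 hg τ).1 (Subgroup.mem_zpowers τ))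
    obtain ⟨c, hc⟩ := key g 1 i (by rw [pow_one, hi])
    refine G.mem_normalizer D (hM (hM₁ g.2)) (fun h1 => ?_) hc
    have h6 := Nat.dvd_one.1 h1
    have h7 := np_mul q
    rw [h6, one_mul] at h7
    have h8 := Nat.le_of_dvd (by norm_num) (Nat.gcd_dvd_left 5 (q + 1) : dd q ∣ 5)
    have h11 : 2 ^ 4 * q ≤ q ^ 4 * q := Nat.mul_le_mul_right q (Nat.pow_le_pow_left D.two_le 4)
    have h12 : (q + 1) * phi q ≤ (q + 1) * 5 := Nat.mul_le_mul_left _ (h7 ▸ h8)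
    have h9 := succ_mul_phi q
    have h10 : q ^ 4 * q = q ^ 5 := by ring
    have := D.two_le
    omega
  have hnormal : ¬ (Subgroup.zpowers τ).Normal := fun hn => hne₁ fun g hg => (hnorm ⟨g, hg⟩ (by
    rw [Subgroup.normalizer_eq_top_iff.2 hn]; exact Subgroup.mem_top _)).1
  refine ⟨hM₁.trans hM, ht₁, hsurj, hker, hτ.symm, hτord, fun a ha ha1 => ?_, hnormal, fun S hS hS1 => ?_, ?_, ?_⟩
  · obtain ⟨b, rfl⟩ := (hmemA _).1 ha
    refine le_antisymm (fun x hx => ?_) fun x hx => ?_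
    · obtain ⟨g, rfl⟩ := hsurj x
      rw [Subgroup.mem_centralizer_singleton_iff] at hx
      obtain ⟨c, hc⟩ := key g b b (by rw [hx, mul_inv_cancel_right])
      obtain ⟨i, hi⟩ := G.mem_of_twist D (hM (hM₁ g.2)) (fun h => ha1 ((hpow b).2 h)) hc
      exact (hmemA _).2 ⟨i, by rw [hτ, ← map_pow]; exact congrArg π (Subtype.ext hi.symm)⟩
    · obtain ⟨i, rfl⟩ := (hmemA _).1 hx
      rw [Subgroup.mem_centralizer_singleton_iff, ← pow_add, ← pow_add, add_comm]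
  · have hcard : Nat.card ((S.comap π).map M₁.subtype) < Nat.card M₁ := by
      rw [Subgroup.card_map_of_injective (Subgroup.subtype_injective M₁)]
      refine lt_of_le_of_ne (Subgroup.card_le_card_group _) fun h => hS1 ?_
      rw [eq_top_iff, ← Subgroup.map_top_of_surjective π hsurj, Subgroup.map_le_iff_le_comap,
        Subgroup.eq_top_of_card_eq _ h]
    have hle : (S.comap π).map M₁.subtype ≤ subalgebraNormalizer K := by
      by_contra hcon
      refine absurd (hmin _ ((Subgroup.map_subtype_le _).trans hM₁) ⟨⟨tg q γ, ht₁⟩, ?_, rfl⟩ hcon) (not_le.2 hcard)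
      exact Subgroup.mem_comap.2 (hS (hτ ▸ Subgroup.mem_zpowers τ))
    intro x hx
    obtain ⟨g, rfl⟩ := hsurj x
    have hgK : (g : G5) ∈ subalgebraNormalizer K := hle ⟨g, hx, rfl⟩
    have hone : ∀ h : M₁, (h : G5) ∈ subalgebraNormalizer K → ∀ z ∈ Subgroup.zpowers τ,
        π h * z * (π h)⁻¹ ∈ Subgroup.zpowers τ := fun h hh z hz => by
      obtain ⟨a, rfl⟩ := (hmemA _).1 hz
      obtain ⟨i, -, hi⟩ := G.conj_t ((subalgebraNormalizer K).inv_mem hh)
      refine (hmemA _).2 ⟨a * q ^ (2 * i), ?_⟩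
      rw [hτ, ← map_pow, ← map_pow, ← map_inv, ← map_mul, ← map_mul]
      refine congrArg π (Subtype.ext ?_)
      show tg q γ ^ (a * q ^ (2 * i)) = (h : G5) * tg q γ ^ a * (h : G5)⁻¹
      rw [← hi a, inv_inv]
    refine Subgroup.mem_normalizer_iff.2 fun z => ⟨hone g hgK z, fun hz => ?_⟩
    have := hone g⁻¹ ((subalgebraNormalizer K).inv_mem hgK) _ hz
    rwa [map_inv, inv_inv, show (π g)⁻¹ * (π g * z * (π g)⁻¹) * π g = z by group] at this
  · have hAc : (Subgroup.zpowers τ).comap π = (Subgroup.zpowers (tg q γ)).subgroupOf M₁ := by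
      ext g
      rw [Subgroup.mem_comap, Subgroup.mem_subgroupOf, hmemA]
      constructor
      · rintro ⟨i, hi⟩
        obtain ⟨c, hc⟩ := (hker ((⟨tg q γ, ht₁⟩ ^ i)⁻¹ * g)).1 (by
          rw [map_mul, map_inv, map_pow, ← hτ, hi, inv_mul_cancel])
        obtain ⟨j, hj⟩ := G.t_gen (hM (hM₁ ((⟨tg q γ, ht₁⟩ ^ i)⁻¹ * g).2)) (hc ▸ K.smul_mem K.one_mem c)
        refine mem_powers_iff_mem_zpowers.1 ⟨i + j, ?_⟩
        show tg q γ ^ (i + j) = (g : G5)
        rw [pow_add, ← hj, Subgroup.coe_mul, Subgroup.coe_inv, Subgroup.coe_pow, mul_inv_cancel_left]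
      · intro h
        obtain ⟨i, hi⟩ := mem_powers_iff_mem_zpowers.2 h
        exact ⟨i, by rw [hτ, ← map_pow]; exact congrArg π (Subtype.ext hi)⟩
    rw [← Subgroup.map_comap_eq_self_of_surjective hsurj
      (Subgroup.normalizer (Subgroup.zpowers τ : Set (M₁ ⧸ Z))), ← Subgroup.relIndex_comap, hAc]
    obtain ⟨H, hH⟩ : ∃ H, H = (Subgroup.comap π (Subgroup.normalizer (Subgroup.zpowers τ : Set (M₁ ⧸ Z)))).map M₁.subtype :=
      ⟨_, rfl⟩
    have hHle : H ≤ subalgebraNormalizer K ⊓ suG F q := hH ▸ by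
      rintro _ ⟨g, hg, rfl⟩
      exact hnorm g hg
    have hTH : Subgroup.zpowers (tg q γ) ≤ H := Subgroup.zpowers_le.2 (hH ▸ ⟨⟨tg q γ, ht₁⟩, Subgroup.mem_comap.2
      (Subgroup.le_normalizer (hτ ▸ Subgroup.mem_zpowers τ)), rfl⟩)
    refine dvd_trans ?_ (G.relIndex_norm D)
    rw [← Subgroup.relIndex_mul_relIndex _ _ _ hTH hHle]
    refine dvd_mul_of_dvd_left (dvd_of_eq ?_) _
    rw [hH, ← Subgroup.relIndex_map_map_of_injective _ _ (Subgroup.subtype_injective M₁),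
      Subgroup.subgroupOf_map_subtype, inf_eq_left.2 (Subgroup.zpowers_le.2 ht₁)]
  · have hZc : Nat.card Z = dd q := by
      rw [hZ, Nat.card_congr (Subgroup.subgroupOfEquivOfLe (Subgroup.zpowers_le.2 (M₁.pow_mem ht₁ _))).toEquiv,
        Nat.card_zpowers, orderOf_pow, G.order_t, ← np_mul, Nat.gcd_mul_right_left, Nat.mul_div_cancel_left _ (np_pos q)]
    rw [← hZc, mul_comm, ← Subgroup.card_eq_card_quotient_mul_card_subgroup]

end CfsgLib.Perm.Trans.UnitFive.Singer
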