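import Cfsg.Agent.Lib.Perm.Trans.UnitFive.Singer.Inter
import Cfsg.Agent.Lib.Char.Linear

/-!
# The spectrum of the intertwiner of a Singer generator

Its eigenvalues are all roots of unity of order dividing `q⁵ + 1` but one, each simple.
-/

set_option autoImplicit false
set_option linter.all false

namespace CfsgLib.Perm.Trans.UnitFive.Singer

open scoped Matrix ComplexConjugate Classical
open Matrix Cfsg Module CfsgLib.Char

variable {F : Type*} [Field F] [Fintype F] {q : ℕ} {C : CfsgLib.SU.UCtx F q}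
  {W : (Fin 5 → F) → Module.End ℂ (Fun5 C)} {ψ : AddChar F ℂ} {K : Subalgebra F (Matrix (Fin 5) (Fin 5) F)}
  {γ y : GL (Fin 5) F}

local notation "V5" => (Fin 5 → F)
local notation "M5" => Matrix (Fin 5) (Fin 5) F
local notation "G5" => GL (Fin 5) F

theorem Gens.card_fix (G : Gens q K γ y) (D : Sing q K) (l : ℕ) :
    Nat.card {v : V5 // ((γ ^ l : G5) : M5) *ᵥ v = v} = if q ^ 5 + 1 ∣ l then q ^ 5 * q ^ 5 else 1 := by
  split_ifs with h
  · have h1 : γ ^ l = 1 := orderOf_dvd_iff_pow_eq_one.1 (G.order.symm ▸ h)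
    rw [h1, Nat.card_congr (Equiv.subtypeUnivEquiv fun v => by simp), Nat.card_fun, Nat.card_eq_fintype_card,
      Nat.card_eq_fintype_card, D.card, Fintype.card_fin]
    ring
  · refine Nat.card_eq_one_iff_unique.2 ⟨⟨fun a b => Subtype.ext ?_⟩, ⟨⟨0, mulVec_zero _⟩⟩⟩
    have key : ∀ v : V5, ((γ ^ l : G5) : M5) *ᵥ v = v → v = 0 := fun v hv => by
      by_contra hv0
      refine h (G.order ▸ orderOf_dvd_of_pow_eq_one (Units.ext (sub_eq_zero.1
        (SingerNorm.eq_zero_of_mulVec D.field (K.sub_mem ?_ K.one_mem) hv0 ?_))))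
      · rw [Units.val_pow_eq_pow_val]; exact pow_mem G.mem_field l
      · rw [sub_mulVec, hv, Units.val_one, one_mulVec, sub_self]
    rw [key _ a.2, key _ b.2]

theorem Heis.spectrum (H : Heis C W ψ) (G : Gens q K γ y) (D : Sing q K) :
    ∃ (Γ : (Module.End ℂ (Fun5 C))ˣ) (l0 : ℂ), IsInter W γ Γ ∧ Γ ^ (q ^ 5 + 1) = 1 ∧ l0 ^ (q ^ 5 + 1) = 1 ∧
      ∀ l : ℕ, LinearMap.trace ℂ _ (Γ ^ l).val = (if q ^ 5 + 1 ∣ l then ((q ^ 5 + 1 : ℕ) : ℂ) else 0) - l0 ^ l := by
  obtain ⟨Γ, hΓ, hΓm⟩ := H.exists_inter_pow G.mem_gu (Nat.succ_pos _) (G.order ▸ pow_orderOf_eq_one γ)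
  obtain ⟨A, hA⟩ : ∃ A : Subgroup G5, A = Subgroup.zpowers γ := ⟨_, rfl⟩
  haveI := Fintype.ofFinite A
  haveI := Fintype.ofFinite (IrrCharacter A)
  let a0 : A := ⟨γ, hA ▸ Subgroup.mem_zpowers γ⟩
  have ha0 : orderOf a0 = q ^ 5 + 1 := by rw [← Subgroup.orderOf_coe, G.order]
  have hcA : Nat.card A = q ^ 5 + 1 := by rw [hA, Nat.card_zpowers, G.order]
  have hgen : ∀ x : A, x ∈ Subgroup.zpowers a0 := fun x => by
    obtain ⟨i, hi⟩ := Subgroup.mem_zpowers_iff.1 (hA ▸ x.2 : (x : G5) ∈ Subgroup.zpowers γ)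
    exact Subgroup.mem_zpowers_iff.2 ⟨i, Subtype.ext (by rw [Subgroup.coe_zpow]; exact hi)⟩
  have hΓdvd : orderOf Γ ∣ orderOf a0 := ha0 ▸ orderOf_dvd_of_pow_eq_one hΓm
  let φ : A →* (Module.End ℂ (Fun5 C))ˣ := monoidHomOfForallMemZpowers hgen hΓdvd
  have hφ : ∀ l : ℕ, φ (a0 ^ l) = Γ ^ l := fun l => by rw [map_pow, monoidHomOfForallMemZpowers_apply_gen]
  let ρ : Representation ℂ A (Fun5 C) := (Units.coeHom _).comp φ
  obtain ⟨f, hf⟩ : ∃ f, f = ρ.character := ⟨_, rfl⟩
  have hfl : ∀ l : ℕ, f (a0 ^ l) = LinearMap.trace ℂ _ (Γ ^ l).val := fun l => by rw [hf, ← hφ l]; rfl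
  have hfc : IsCharacter A f := hf ▸ isCharacter_character ρ
  have hfcl : IsClassFunction A f := isClassFunction_of_isCharacter hfc
  have hpow : ∀ x : A, ∃ l : ℕ, a0 ^ l = x := fun x => mem_powers_iff_mem_zpowers.2 (hgen x)
  have hnorm : ∀ x : A, x ≠ 1 → f x * conj (f x) = 1 := fun x hx => by
    obtain ⟨l, rfl⟩ := hpow x
    have hl : ¬ q ^ 5 + 1 ∣ l := fun h => hx (orderOf_dvd_iff_pow_eq_one.1 (ha0.symm ▸ h))
    have h2 := H.norm_trace_sq ((Cfsg.GU 5 F q).pow_mem G.mem_gu l) (hΓ.pow l) (k := q ^ 5 + 1) (Nat.succ_pos _)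
      (by rw [← pow_mul, mul_comm, pow_mul, hΓm, one_pow])
    rw [G.card_fix D, if_neg hl, Nat.cast_one] at h2
    rw [hfl, Complex.mul_conj, Complex.normSq_eq_norm_sq, h2]
    norm_num
  have hf1 : f 1 = (q : ℂ) ^ 5 := by
    rw [hf, Representation.char_one, H.dim]; push_cast; rfl
  choose m hm using fun χ : IrrCharacter A => classInner_char_irr_nat hfc χ
  have hdeg : ∀ χ : IrrCharacter A, (χ : A → ℂ) 1 = 1 := fun χ => degree_one_of_comm (fun a b => by
    obtain ⟨i, rfl⟩ := hpow a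
    obtain ⟨j, rfl⟩ := hpow b
    rw [← pow_add, ← pow_add, add_comm]) χ
  have hsum : ∑ χ : IrrCharacter A, m χ = q ^ 5 := by
    have h := congrFun (classFun_expand hfcl) 1
    simp only [hm, Finset.sum_apply, Pi.smul_apply, hdeg, smul_eq_mul, mul_one, hf1] at h
    exact_mod_cast h.symm
  have hsq : ∑ χ : IrrCharacter A, m χ * m χ = q ^ 5 := by
    have h := classInner_expand (f := f) hfcl
    simp only [hm, map_natCast] at h
    have h2 : classInner f f = (q : ℂ) ^ 5 := by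
      have hne : ((q : ℂ) ^ 5 + 1) ≠ 0 := by exact_mod_cast (show q ^ 5 + 1 ≠ 0 by omega)
      rw [classInner, hcA, ← Finset.add_sum_erase _ _ (Finset.mem_univ (1 : A)),
        Finset.sum_congr rfl fun x hx => hnorm x (Finset.mem_erase.1 hx).1, Finset.sum_const,
        Finset.card_erase_of_mem (Finset.mem_univ _), Finset.card_univ, ← Nat.card_eq_fintype_card, hcA,
        Nat.add_sub_cancel, hf1, nsmul_eq_mul, mul_one]
      simp only [map_pow, map_natCast]
      push_cast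
      field_simp
    rw [h2] at h
    exact_mod_cast h.symm
  have hcirr : Fintype.card (IrrCharacter A) = q ^ 5 + 1 := by
    have h := sum_degree_sq (G := A)
    simp only [hdeg, one_pow, Finset.sum_const, Finset.card_univ, nsmul_eq_mul, mul_one, hcA] at h
    exact_mod_cast h
  have h01 : ∀ χ, m χ = 0 ∨ m χ = 1 := fun χ => by
    by_contra hc
    have h2 : 2 ≤ m χ := by omega
    have hlt : ∑ χ : IrrCharacter A, m χ < ∑ χ : IrrCharacter A, m χ * m χ :=
      Finset.sum_lt_sum (fun χ _ => Nat.le_mul_self _) ⟨χ, Finset.mem_univ _, by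
        calc m χ < 2 * m χ := by omega
          _ ≤ m χ * m χ := Nat.mul_le_mul_right _ h2⟩
    omega
  obtain ⟨χ0, hχ0⟩ : ∃ χ0, (Finset.univ.filter fun χ => m χ = 0) = {χ0} := by
    refine Finset.card_eq_one.1 ?_
    have h1 : ∑ χ : IrrCharacter A, m χ = (Finset.univ.filter fun χ => ¬ m χ = 0).card := by
      rw [Finset.card_filter]
      exact Finset.sum_congr rfl fun χ _ => by rcases h01 χ with h | h <;> simp [h]
    have h2 := Finset.card_filter_add_card_filter_not (s := (Finset.univ : Finset (IrrCharacter A))) (fun χ => m χ = 0)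
    rw [Finset.card_univ, hcirr] at h2
    omega
  have hmval : ∀ χ, m χ = if χ = χ0 then 0 else 1 := fun χ => by
    have := Finset.ext_iff.1 hχ0 χ
    simp only [Finset.mem_filter, Finset.mem_univ, true_and, Finset.mem_singleton] at this
    rcases h01 χ with h | h
    · rw [if_pos (this.1 h), h]
    · rw [if_neg (fun e => by rw [this.2 e] at h; omega), h]
  obtain ⟨lin, hlin⟩ := linearCharEquiv.surjective (⟨χ0, hdeg χ0⟩ : {χ : IrrCharacter A // (χ : A → ℂ) 1 = 1})
  have hχ0v : ∀ x, (χ0 : A → ℂ) x = (lin x : ℂ) := fun x => by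
    rw [show χ0 = (linearCharEquiv lin).1 from (congrArg Subtype.val hlin).symm]; rfl
  have hfx : ∀ x : A, f x = (if x = 1 then ((q ^ 5 + 1 : ℕ) : ℂ) else 0) - (χ0 : A → ℂ) x := fun x => by
    have hall : ∑ χ : IrrCharacter A, (χ : A → ℂ) x = if x = 1 then ((q ^ 5 + 1 : ℕ) : ℂ) else 0 := by
      by_cases hx : x = 1
      · subst hx
        simp [hdeg, hcirr]
      · rw [if_neg hx]
        have h := sum_irr_mul_conj x (1 : A)
        rw [if_neg (fun hc => hx (isConj_one_left.1 hc))] at h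
        simpa [hdeg] using h
    have h := congrFun (classFun_expand hfcl) x
    simp only [hm, Finset.sum_apply, Pi.smul_apply, smul_eq_mul] at h
    rw [h, ← hall, ← Finset.sum_erase_eq_sub (Finset.mem_univ χ0), ← Finset.add_sum_erase _ _ (Finset.mem_univ χ0),
      hmval χ0, if_pos rfl, Nat.cast_zero, zero_mul, zero_add]
    exact Finset.sum_congr rfl fun χ hχ => by rw [hmval χ, if_neg (Finset.mem_erase.1 hχ).1, Nat.cast_one, one_mul]
  refine ⟨Γ, (lin a0 : ℂ), hΓ, hΓm, ?_, fun l => ?_⟩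
  · rw [← Units.val_pow_eq_pow_val, ← map_pow, ← ha0, pow_orderOf_eq_one, map_one, Units.val_one]
  · rw [← hfl, hfx, hχ0v, map_pow, Units.val_pow_eq_pow_val]
    congr 1
    refine if_congr ?_ rfl rfl
    rw [← ha0, orderOf_dvd_iff_pow_eq_one]

end CfsgLib.Perm.Trans.UnitFive.Singer
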